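import Mathlib
import Cfsg.Prelude.Def_KGroupFacts
import Cfsg.Agent.Lib.Helper3.Schur.Basic
import Cfsg.Agent.Lib.Helper3.Cover.Finite

set_option autoImplicit false

/-!
# Bounding a Schur multiplier one prime at a time through covering groups of subgroups

Abstract lemmas: for a stem extension `σ : Γ → G` and a subgroup `H` of `G` covered by `π : E → H` with a
lift `Λ : E → σ⁻¹(H)`, the `|G:H|`-th power of every kernel element is the image of an element of `ker π`.
-/

namespace Cfsg.Agent.Lib.Helper4.J3M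

open Subgroup Cfsg.Agent.Lib.Helper3.SchurM Cfsg.Agent.Lib.Helper3.Cover
open scoped commutatorElement

section Abstract

variable {G Γ E : Type} [Group G] [Group Γ] [Group E]

theorem exists_ker_of_pow (σ : Γ →* G) (hσ : Cfsg.IsStemExtension σ) (H : Subgroup G) [H.FiniteIndex]
    (π : E →* ↥H) (hπ : Function.Surjective π) (Λ : E →* ↥(H.comap σ))
    (hΛ : ∀ e, σ.subgroupComap H (Λ e) = π e) (z : Γ) (hz : z ∈ σ.ker) :
    ∃ e ∈ π.ker, ((Λ e : ↥(H.comap σ)) : Γ) = z ^ H.index := by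
  have hidx : (H.comap σ).index = H.index := index_comap_of_surjective H hσ.1
  haveI : (H.comap σ).FiniteIndex := ⟨by rw [hidx]; exact Subgroup.FiniteIndex.index_ne_zero⟩
  have h1 := pow_index_mem_comm (H.comap σ) z (hσ.2.1 hz) (hσ.2.2 hz)
  rw [hidx] at h1
  set R : Subgroup Γ := Λ.range.map (H.comap σ).subtype with hR
  haveI : σ.ker.Normal := MonoidHom.normal_ker σ
  have hcoe : ∀ e, σ ((Λ e : ↥(H.comap σ)) : Γ) = ((π e : ↥H) : G) := by
    intro e
    rw [← hΛ]; rfl
  have h2 : H.comap σ ≤ R ⊔ σ.ker := by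
    intro h hh
    obtain ⟨e, he⟩ := hπ ⟨σ h, hh⟩
    have : h = ((Λ e : ↥(H.comap σ)) : Γ) * (((Λ e : ↥(H.comap σ)) : Γ)⁻¹ * h) := by group
    rw [this]
    apply Subgroup.mul_mem_sup
    · exact ⟨Λ e, ⟨e, rfl⟩, rfl⟩
    · rw [MonoidHom.mem_ker, map_mul, map_inv, hcoe, he]
      simp
  have h4 : ⁅H.comap σ, H.comap σ⁆ ≤ R := by
    refine le_trans (Subgroup.commutator_mono h2 h2) ?_
    refine le_trans (comm_sup_central_le R σ.ker hσ.2.1) ?_
    simpa using Subgroup.commutator_le_sup (H₁ := R) (H₂ := R)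
  obtain ⟨y, ⟨e, rfl⟩, hy⟩ := h4 h1
  refine ⟨e, ?_, hy⟩
  rw [MonoidHom.mem_ker]
  apply Subtype.ext
  rw [← hcoe]
  have hy' : ((Λ e : ↥(H.comap σ)) : Γ) = z ^ H.index := hy
  rw [hy', map_pow, MonoidHom.mem_ker.mp hz, one_pow]
  rfl

/-- in a group of order at most two, two non-identity elements are equal -/
theorem eq_of_card_le_two {K : Type} [Group K] [Finite K] (h : Nat.card K ≤ 2) {a b : K}
    (ha : a ≠ 1) (hb : b ≠ 1) : a = b := by
  by_contra hab
  have hinj : Function.Injective (![1, a, b] : Fin 3 → K) := by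
    intro i j hij
    fin_cases i <;> fin_cases j <;> simp_all
  have := Nat.card_le_card_of_injective _ hinj
  rw [Nat.card_eq_fintype_card, Fintype.card_fin] at this
  omega

/-- in a group of order at most two, squares are trivial -/
theorem sq_eq_one_of_card_le_two {K : Type} [Group K] [Finite K] (h : Nat.card K ≤ 2) (a : K) :
    a ^ 2 = 1 := by
  have h1 : a ^ Nat.card K = 1 := pow_card_eq_one'
  have hpos : 0 < Nat.card K := Nat.card_pos
  interval_cases hc : Nat.card K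
  · simpa using h1 ▸ (by rw [pow_one] at h1; rw [h1]; simp : a ^ 2 = 1)
  · exact h1

/-- **The prime 2.**  `H` is a subgroup of odd index with a covering group `D.E` of kernel of order at most two, in
which two lifts of involutions have different squares; if these involutions are conjugate in `G`, then the kernel
of a stem extension of `G` contains no involution. -/
theorem no_involution_of_cover {α : Type} [DecidableEq α] [Fintype α] (D : CoverData α) [Finite D.E]
    (hker : Nat.card D.proj.ker ≤ 2) (H : Subgroup G) [H.FiniteIndex] (φ : D.P ≃* ↥H) (hodd : ¬ 2 ∣ H.index)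
    (ex ey : D.E) (hx : D.proj ex ^ 2 = 1) (hy : D.proj ey ^ 2 = 1) (hne : ex ^ 2 ≠ ey ^ 2)
    (hconj : IsConj ((φ (D.proj ex) : ↥H) : G) ((φ (D.proj ey) : ↥H) : G))
    (σ : Γ →* G) (hσ : Cfsg.IsStemExtension σ) (z : Γ) (hz : z ∈ σ.ker) (hz2 : z ^ 2 = 1) : z = 1 := by
  by_contra hz1
  -- the restriction of σ over H
  have hsurj : Function.Surjective (σ.subgroupComap H) :=
    MonoidHom.subgroupComap_surjective_of_surjective σ H hσ.1
  have hcen : (σ.subgroupComap H).ker ≤ center ↥(H.comap σ) := by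
    intro k hk
    have hk1 : σ (k : Γ) = 1 := by
      have := congrArg Subtype.val (MonoidHom.mem_ker.mp hk)
      exact this
    have hk2 : (k : Γ) ∈ center Γ := hσ.2.1 (MonoidHom.mem_ker.mpr hk1)
    rw [Subgroup.mem_center_iff]
    intro g
    apply Subtype.ext
    exact Subgroup.mem_center_iff.mp hk2 g
  obtain ⟨Λ, hΛ⟩ := D.exists_hom φ (σ.subgroupComap H) hsurj hcen
  set π : D.E →* ↥H := φ.toMonoidHom.comp D.proj with hπdef
  have hπ : Function.Surjective π := φ.surjective.comp D.proj_surjective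
  have hπker : π.ker = D.proj.ker := by
    ext e
    simp only [MonoidHom.mem_ker, hπdef, MonoidHom.comp_apply]
    exact ⟨fun h => φ.injective (by rw [map_one]; exact h), fun h => by rw [h]; exact map_one _⟩
  have hΛ' : ∀ e, σ.subgroupComap H (Λ e) = π e := hΛ
  haveI : Finite ↥π.ker := by rw [hπker]; infer_instance
  have hker' : Nat.card ↥π.ker ≤ 2 := by rw [hπker]; exact hker
  -- odd powers of z
  have hzodd : z ^ H.index = z := by
    obtain ⟨m, hm⟩ : ∃ m, H.index = 2 * m + 1 := by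
      have := Nat.odd_iff.mpr (by omega : H.index % 2 = 1)
      exact this
    rw [hm, pow_succ, pow_mul, hz2, one_pow, one_mul]
  obtain ⟨e, he, hez⟩ := exists_ker_of_pow σ hσ H π hπ Λ hΛ' z hz
  rw [hzodd] at hez
  have he1 : e ≠ 1 := by
    rintro rfl
    rw [map_one] at hez
    exact hz1 hez.symm
  -- the element κ
  set κ : D.E := ex ^ 2 * (ey ^ 2)⁻¹ with hκdef
  have hκker : κ ∈ π.ker := by
    rw [hπker, MonoidHom.mem_ker, hκdef, map_mul, map_inv, map_pow, map_pow, hx, hy, inv_one, mul_one]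
  have hκ1 : κ ≠ 1 := by
    intro h
    apply hne
    rw [hκdef, mul_inv_eq_one] at h
    exact h
  have heκ : e = κ := by
    have := eq_of_card_le_two hker' (a := ⟨e, he⟩) (b := ⟨κ, hκker⟩)
      (fun h => he1 (congrArg Subtype.val h)) (fun h => hκ1 (congrArg Subtype.val h))
    exact congrArg Subtype.val this
  -- the lifts
  set X : Γ := ((Λ ex : ↥(H.comap σ)) : Γ) with hX
  set Y : Γ := ((Λ ey : ↥(H.comap σ)) : Γ) with hY
  have hcoe : ∀ e, σ ((Λ e : ↥(H.comap σ)) : Γ) = ((π e : ↥H) : G) := by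
    intro e
    rw [← hΛ']; rfl
  have hzXY : z = X ^ 2 * (Y ^ 2)⁻¹ := by
    rw [← hez, heκ, hκdef, map_mul, map_inv, map_pow, map_pow]
    rfl
  have hX2 : X ^ 2 ∈ center Γ := by
    apply hσ.2.1
    rw [MonoidHom.mem_ker, map_pow, hX, hcoe]
    have : (π ex) ^ 2 = 1 := by
      rw [hπdef, MonoidHom.comp_apply, ← map_pow, hx, map_one]
    rw [← Subgroup.coe_pow, this]; rfl
  have hY2 : Y ^ 2 ∈ center Γ := by
    apply hσ.2.1
    rw [MonoidHom.mem_ker, map_pow, hY, hcoe]
    have : (π ey) ^ 2 = 1 := by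
      rw [hπdef, MonoidHom.comp_apply, ← map_pow, hy, map_one]
    rw [← Subgroup.coe_pow, this]; rfl
  -- conjugacy
  obtain ⟨c, hc⟩ := isConj_iff.mp hconj
  obtain ⟨ĉ, rfl⟩ := hσ.1 c
  set k : Γ := ĉ * X * ĉ⁻¹ * Y⁻¹ with hkdef
  have hkker : k ∈ σ.ker := by
    rw [MonoidHom.mem_ker, hkdef, map_mul, map_mul, map_mul, map_inv, map_inv, hX, hY, hcoe, hcoe]
    have : (π ex : G) = ((φ (D.proj ex) : ↥H) : G) := rfl
    have h2 : (π ey : G) = ((φ (D.proj ey) : ↥H) : G) := rfl
    rw [this, h2, hc, mul_inv_cancel]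
  have hkc : k ∈ center Γ := hσ.2.1 hkker
  have hconjX : ĉ * X * ĉ⁻¹ = k * Y := by
    rw [hkdef]; group
  have hsq : X ^ 2 = k ^ 2 * Y ^ 2 := by
    have h1 : ĉ * X ^ 2 * ĉ⁻¹ = (k * Y) ^ 2 := by
      rw [← hconjX, pow_two, pow_two]; group
    have h2 : ĉ * X ^ 2 * ĉ⁻¹ = X ^ 2 := by
      rw [Subgroup.mem_center_iff.mp hX2 ĉ, mul_inv_cancel_right]
    have h3 : (k * Y) ^ 2 = k ^ 2 * Y ^ 2 := by
      rw [pow_two, pow_two, pow_two]
      have := Subgroup.mem_center_iff.mp hkc Y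
      calc k * Y * (k * Y) = k * (Y * k) * Y := by group
        _ = k * (k * Y) * Y := by rw [this]
        _ = k * k * (Y * Y) := by group
    rw [← h2, h1, h3]
  have hzk : z = k ^ 2 := by
    rw [hzXY, hsq, mul_inv_cancel_right]
  obtain ⟨e', he', hek⟩ := exists_ker_of_pow σ hσ H π hπ Λ hΛ' k hkker
  have he'2 : e' ^ 2 = 1 := by
    have := sq_eq_one_of_card_le_two hker' (⟨e', he'⟩ : ↥π.ker)
    exact congrArg Subtype.val this
  have hk2 : (k ^ H.index) ^ 2 = 1 := by
    rw [← hek, ← Subgroup.coe_pow, ← map_pow, he'2, map_one]; rfl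
  apply hz1
  rw [← hzodd, hzk, ← pow_mul, mul_comm, pow_mul, hk2]

/-- **The prime 3.**  `πE : E → G` has a kernel of order at most `n`, and lifts to every central extension of `G`
whose kernel has square roots; then the kernel of a stem extension of `G` all of whose elements have square roots
and order prime to the index of the range of `πE` has order at most `n`. -/
theorem card_ker_le_of_cover [Finite E] (πE : E →* G) [πE.range.FiniteIndex] (n : ℕ)
    (hker : Nat.card πE.ker ≤ n)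
    (hlift : ∀ (Γ : Type) [Group Γ] (σ : Γ →* G), Function.Surjective σ → σ.ker ≤ center Γ →
      (∀ a ∈ σ.ker, ∃ b ∈ σ.ker, b ^ 2 = a) → ∃ Λ' : E →* Γ, ∀ e, σ (Λ' e) = πE e)
    (σ : Γ →* G) (hσ : Cfsg.IsStemExtension σ) (hsq : ∀ a ∈ σ.ker, ∃ b ∈ σ.ker, b ^ 2 = a)
    (hcop : ∀ a ∈ σ.ker, Nat.Coprime πE.range.index (orderOf a)) : Nat.card σ.ker ≤ n := by
  obtain ⟨Λ', hΛ'⟩ := hlift Γ σ hσ.1 hσ.2.1 hsq
  set U : Subgroup G := πE.range with hU
  set π : E →* ↥U := πE.rangeRestrict with hπdef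
  have hπ : Function.Surjective π := πE.rangeRestrict_surjective
  have hπker : π.ker = πE.ker := πE.ker_rangeRestrict
  set Λ : E →* ↥(U.comap σ) := Λ'.codRestrict (U.comap σ) (fun e => by
    show σ (Λ' e) ∈ U
    rw [hΛ']
    exact ⟨e, rfl⟩) with hΛdef
  have hΛ : ∀ e, σ.subgroupComap U (Λ e) = π e := by
    intro e
    apply Subtype.ext
    show σ (Λ' e) = πE e
    exact hΛ' e
  have key : ∀ a : ↥σ.ker, ∃ e : ↥πE.ker, Λ' (e : E) = (a : Γ) := by
    rintro ⟨a, ha⟩
    obtain ⟨e, he, hea⟩ := exists_ker_of_pow σ hσ U π hπ Λ hΛ a ha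
    obtain ⟨m, hm⟩ := exists_pow_eq_self_of_coprime (hcop a ha)
    rw [hπker] at he
    refine ⟨⟨e ^ m, pow_mem he m⟩, ?_⟩
    show Λ' (e ^ m) = a
    have : Λ' e = a ^ U.index := hea
    rw [map_pow, this, hm]
  choose g hg using key
  have hinj : Function.Injective g := by
    intro a b hab
    apply Subtype.ext
    rw [← hg a, ← hg b, hab]
  haveI : Finite ↥πE.ker := inferInstance
  exact le_trans (Nat.card_le_card_of_injective g hinj) hker

/-- Assembly: a finite group whose stem extensions have no involutions in the kernel, which satisfies the local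
condition at all primes at least 5, and whose 3-part is bounded by 3, has Schur multiplier of order 3 as soon as
some stem extension has kernel of order 3. -/
theorem schur_three_of [Finite G] (idx3 : ℕ) (hidx3 : Nat.Coprime idx3 3)
    (hex : ∃ (Γ : Type) (_ : Group Γ) (_ : Finite Γ) (σ : Γ →* G),
      Cfsg.IsStemExtension σ ∧ Nonempty (σ.ker ≃* Multiplicative (ZMod 3)))
    (h2 : ∀ (Γ : Type) [Group Γ] [Finite Γ] (σ : Γ →* G), Cfsg.IsStemExtension σ →
      ∀ z ∈ σ.ker, z ^ 2 = 1 → z = 1)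
    (hp : ∀ p : ℕ, p.Prime → 5 ≤ p → ∃ P : Subgroup G, ¬ p ∣ P.index ∧ LocalTriv p P)
    (h3 : ∀ (Γ : Type) [Group Γ] [Finite Γ] (σ : Γ →* G), Cfsg.IsStemExtension σ →
      (∀ a ∈ σ.ker, ∃ b ∈ σ.ker, b ^ 2 = a) → (∀ a ∈ σ.ker, Nat.Coprime idx3 (orderOf a)) →
      Nat.card σ.ker ≤ 3) :
    Cfsg.HasCyclicSchurMultiplier G 3 := by
  refine ⟨hex, ?_⟩
  intro Γ _ _ σ hσ
  -- no elements of prime order other than 3
  have hi : ∀ z ∈ σ.ker, ∀ p : ℕ, p.Prime → p ≠ 3 → z ^ p = 1 → z = 1 := by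
    intro z hz p hpp hp3 hzp
    by_cases hp2 : p = 2
    · subst hp2; exact h2 Γ σ hσ z hz hzp
    have hp5 : 5 ≤ p := by
      have h2le := hpp.two_le
      by_contra hlt
      have : p = 4 := by omega
      subst this
      exact absurd hpp (by decide)
    obtain ⟨P, hidx, hloc⟩ := hp p hpp hp5
    have hidx' : (P.comap σ).index = P.index := Subgroup.index_comap_of_surjective P hσ.1
    haveI : P.FiniteIndex := inferInstance
    haveI : (P.comap σ).FiniteIndex := ⟨by rw [hidx']; exact Subgroup.FiniteIndex.index_ne_zero⟩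
    have h1 := pow_index_mem_comm (P.comap σ) z (hσ.2.1 hz) (hσ.2.2 hz)
    rw [hidx'] at h1
    have h4 : z ^ P.index = 1 := by
      apply hloc Γ σ hσ.1 hσ.2.1 _ (pow_mem hz _) h1
      rw [← pow_mul, mul_comm, pow_mul, hzp, one_pow]
    have h5 : orderOf z ∣ p := orderOf_dvd_of_pow_eq_one hzp
    have h6 : orderOf z ∣ P.index := orderOf_dvd_of_pow_eq_one h4
    rcases (Nat.dvd_prime hpp).mp h5 with h7 | h7
    · exact orderOf_eq_one_iff.mp h7
    · rw [h7] at h6; exact absurd h6 hidx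
  -- orders are powers of 3
  have hord : ∀ a ∈ σ.ker, ∃ k, orderOf a = 3 ^ k := by
    intro a ha
    have hn0 : orderOf a ≠ 0 := (orderOf_pos a).ne'
    refine ⟨_, Nat.eq_prime_pow_of_unique_prime_dvd hn0 ?_⟩
    intro q hq hqn
    by_contra hq3
    obtain ⟨m, hm⟩ := hqn
    have hm0 : m ≠ 0 := by
      rintro rfl
      rw [mul_zero] at hm; exact hn0 hm
    have h1 : (a ^ m) ^ q = 1 := by
      rw [← pow_mul, mul_comm, ← hm, pow_orderOf_eq_one]
    have h2' := hi (a ^ m) (pow_mem ha m) q hq hq3 h1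
    have h3' : orderOf a ∣ m := orderOf_dvd_of_pow_eq_one h2'
    have h4 : orderOf a ≤ m := Nat.le_of_dvd (Nat.pos_of_ne_zero hm0) h3'
    rw [hm] at h4
    have := hq.two_le
    nlinarith [Nat.pos_of_ne_zero hm0]
  have hsq : ∀ a ∈ σ.ker, ∃ b ∈ σ.ker, b ^ 2 = a := by
    intro a ha
    obtain ⟨k, hk⟩ := hord a ha
    have hodd : Odd (3 ^ k) := Odd.pow (by decide)
    obtain ⟨m, hm⟩ := hodd
    refine ⟨a ^ (m + 1), pow_mem ha _, ?_⟩
    rw [← pow_mul]
    have : (m + 1) * 2 = orderOf a + 1 := by rw [hk, hm]; ring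
    rw [this, pow_succ, pow_orderOf_eq_one, one_mul]
  have hcop : ∀ a ∈ σ.ker, Nat.Coprime idx3 (orderOf a) := by
    intro a ha
    obtain ⟨k, hk⟩ := hord a ha
    rw [hk]
    exact Nat.Coprime.pow_right k hidx3
  have hcard := h3 Γ σ hσ hsq hcop
  have hpos : 0 < Nat.card σ.ker := Nat.card_pos
  have hne2 : Nat.card σ.ker ≠ 2 := by
    intro hc2
    haveI : Fact (Nat.Prime 2) := ⟨Nat.prime_two⟩
    obtain ⟨x, hx⟩ := exists_prime_orderOf_dvd_card' (G := ↥σ.ker) 2 (by rw [hc2])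
    have hx2 : x ^ 2 = 1 := by rw [← hx, pow_orderOf_eq_one]
    have := h2 Γ σ hσ (x : Γ) x.2 (by rw [← Subgroup.coe_pow, hx2]; rfl)
    have hx1 : x = 1 := Subtype.ext this
    rw [hx1, orderOf_one] at hx
    exact absurd hx (by decide)
  have hcases : Nat.card σ.ker = 1 ∨ Nat.card σ.ker = 3 := by omega
  rcases hcases with h1 | h3c
  · haveI : Subsingleton ↥σ.ker := (Nat.card_eq_one_iff_unique.mp h1).1
    exact ⟨1, fun x => ⟨1, Subsingleton.elim _ _⟩⟩
  · haveI : Fact (Nat.Prime 3) := ⟨Nat.prime_three⟩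
    have hcyc : IsCyclic ↥σ.ker := isCyclic_of_prime_card h3c
    have e := zmodCyclicMulEquiv hcyc
    rw [h3c] at e
    exact ⟨e.toMonoidHom, e.surjective⟩

end Abstract

end Cfsg.Agent.Lib.Helper4.J3M
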