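import Cfsg.Agent.Lib.Helper3.Cover.Basic
set_option autoImplicit false
set_option maxRecDepth 100000

/-!
# Presentations used for the Schur multiplier of the Janko group `J₃`

`U = 3².3^{1+2}:8` (order 1944), the normaliser of a Sylow 3-subgroup of `J₃`, on two generators `a`, `b` of
orders 8 and 6: `P_U = ⟨a, b | r0, r1, r2⟩` and its covering presentation `E_U = ⟨a, b | r1, r2, [a⁸, b]⟩`
(order `3 * 1944`): the exponent sums of `r1`, `r2` span a sublattice of index 8, prime to 3.
-/

namespace Cfsg.Agent.Lib.Helper4.J3M

open Cfsg.Agent.Lib.Helper3.Cover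

/-- the two generators of `U` -/
inductive GU
  | a
  | b
  deriving DecidableEq

instance : Fintype GU := ⟨⟨(([GU.a, GU.b] : List GU) : Multiset GU), by decide⟩, by intro x; cases x <;> decide⟩

namespace LvU

/-- `a⁻⁸` -/
def r0 : List (GU × Bool) := [(.a, false), (.a, false), (.a, false), (.a, false), (.a, false), (.a, false), (.a, false), (.a, false)]

/-- `a⁻³ b⁻¹ a⁻² b a b⁻¹` -/
def r1 : List (GU × Bool) := [(.a, false), (.a, false), (.a, false), (.b, false), (.a, false), (.a, false), (.b, true), (.a, true), (.b, false)]

/-- `(a⁻¹ b⁻¹ a b²)²` -/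
def r2 : List (GU × Bool) := [(.a, false), (.b, false), (.a, true), (.b, true), (.b, true), (.a, false), (.b, false), (.a, true), (.b, true), (.b, true)]

/-- `[a⁻⁸, b]` -/
def rc : List (GU × Bool) := commWord r0 .b

/-- the relators of `U` -/
def relsP : List (List (GU × Bool)) := [r0, r1, r2]

/-- the relators of the covering group of `U` -/
def relsE : List (List (GU × Bool)) := [r1, r2, rc]

/-- the presented group `U` -/
abbrev P : Type := PresentedGroup (relSet relsP)

/-- the presented covering group of `U` -/
abbrev E : Type := PresentedGroup (relSet relsE)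

end LvU

end Cfsg.Agent.Lib.Helper4.J3M
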