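import Cfsg.Agent.Lib.Helper4.J2M.Defs
set_option autoImplicit false
set_option maxRecDepth 1000000

/-! A regular orbit of `H = 2^{1+4}:A₅` on the 20520 points: each point with a word carrying the base point 1 to it.  (Generated.) -/

namespace Cfsg.Agent.Lib.Helper4.J3M

open Cfsg.Agent.Lib.Helper4.J2M

/-- the orbit of the point 1 under `H` -/
def orbH : List (ℕ × List (GH × Bool)) := [
  (1, []),
  (2, [(.t, true), (.e, true), (.d, true), (.v, true), (.d, true)]),
  (3, [(.t, true), (.e, true), (.t, true), (.d, true)]),
  (4, [(.d, true), (.v, true), (.t, true), (.v, true), (.t, true), (.e, true)]),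
  (15, [(.d, true), (.e, true), (.t, true), (.v, true), (.v, true), (.t, true), (.d, true)]),
  (29, [(.t, true), (.d, true), (.e, true), (.t, true), (.v, true)]),
  (32, [(.e, true), (.t, true), (.v, true), (.t, true), (.d, true)]),
  (36, [(.v, true), (.d, true), (.e, true), (.t, true), (.e, true)]),
  (41, [(.t, true), (.v, true), (.d, true)]),
  (43, [(.e, true), (.v, true), (.e, true)]),
  (58, [(.v, true), (.v, true), (.t, true), (.e, true), (.d, true)]),
  (70, [(.v, true), (.d, true), (.v, true), (.t, true), (.e, true), (.d, true)]),
  (73, [(.d, true), (.v, true), (.t, true), (.e, true), (.t, true), (.t, true)]),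
  (76, [(.d, true), (.e, true), (.d, true), (.t, true), (.e, true), (.d, true), (.t, true)]),
  (78, [(.t, true), (.d, true)]),
  (87, [(.c, true), (.t, true), (.v, true), (.d, true), (.v, true), (.t, true)]),
  (89, [(.d, true), (.e, true), (.t, true), (.t, true)]),
  (91, [(.d, true), (.e, true), (.t, true), (.e, true), (.t, true), (.e, true)]),
  (102, [(.d, true), (.v, true), (.v, true), (.c, true), (.t, true), (.e, true)]),
  (118, [(.t, true), (.v, true), (.d, true), (.v, true), (.t, true)]),
  (121, [(.t, true), (.d, true), (.e, true), (.v, true), (.t, true), (.e, true)]),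
  (125, [(.e, true), (.d, true), (.t, true), (.e, true), (.t, true), (.e, true)]),
  (127, [(.t, true), (.d, true), (.e, true), (.v, true), (.e, true)]),
  (142, [(.t, true), (.d, true), (.v, true), (.t, true), (.e, true), (.v, true), (.c, true)]),
  (146, [(.v, true), (.d, true), (.e, true), (.t, true), (.e, true), (.d, true)]),
  (161, [(.t, true), (.d, true), (.e, true), (.d, true), (.v, true)]),
  (164, [(.e, true), (.d, true), (.v, true), (.d, true), (.t, true), (.e, true), (.d, true)]),
  (168, [(.d, true), (.e, true), (.t, true), (.d, true)]),
  (177, [(.d, true), (.e, true), (.t, true), (.e, true), (.d, true), (.t, true), (.e, true)]),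
  (189, [(.t, true), (.v, true), (.d, true), (.t, true), (.e, true), (.v, true)]),
  (192, [(.d, true), (.v, true), (.c, true), (.d, true), (.v, true)]),
  (198, [(.v, true), (.e, true), (.v, true)]),
  (209, [(.v, true), (.v, true), (.t, true), (.e, true), (.t, true), (.d, true), (.e, true)]),
  (210, [(.e, true), (.t, true), (.v, true), (.v, true), (.c, true)]),
  (224, [(.e, true), (.v, true), (.d, true), (.e, true), (.c, true), (.d, true), (.c, true)]),
  (244, [(.v, true), (.t, true), (.v, true), (.d, true), (.t, true), (.e, true), (.d, true)]),
  (247, [(.e, true), (.v, true), (.d, true), (.e, true), (.t, true), (.e, true), (.d, true)]),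
  (255, [(.t, true), (.v, true), (.e, true), (.v, true), (.v, true), (.c, true)]),
  (262, [(.t, true), (.e, true), (.t, true), (.e, true), (.t, true), (.e, true)]),
  (269, [(.c, true), (.t, true), (.e, true)]),
  (272, [(.t, true), (.v, true), (.d, true), (.e, true), (.t, true), (.c, true)]),
  (280, [(.t, true), (.e, true), (.v, true), (.t, true), (.c, true), (.d, true), (.e, true)]),
  (286, [(.e, true), (.v, true), (.t, true), (.v, true), (.t, true), (.d, true)]),
  (288, [(.e, true), (.t, true), (.v, true), (.d, true), (.v, true), (.d, true)]),
  (295, [(.t, true), (.d, true), (.e, true), (.v, true), (.d, true)]),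
  (314, [(.d, true), (.e, true), (.t, true), (.t, true), (.t, true)]),
  (339, [(.v, true), (.c, true), (.t, true), (.v, true), (.v, true), (.c, true)]),
  (343, [(.e, true), (.d, true), (.t, true), (.d, true), (.e, true), (.d, true)]),
  (346, [(.e, true), (.t, true), (.d, true), (.v, true), (.c, true)]),
  (349, [(.v, true), (.d, true), (.e, true), (.v, true), (.t, true)]),
  (357, [(.d, true), (.v, true), (.c, true), (.t, true), (.c, true), (.d, true)]),
  (388, [(.d, true), (.v, true), (.d, true), (.t, true), (.t, true)]),
  (391, [(.e, true), (.d, true), (.v, true), (.t, true), (.d, true), (.v, true), (.v, true)]),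
  (399, [(.v, true), (.v, true), (.d, true), (.v, true), (.t, true), (.t, true)]),
  (418, [(.v, true), (.t, true), (.e, true), (.c, true), (.t, true), (.c, true)]),
  (420, [(.v, true), (.d, true), (.v, true), (.t, true), (.e, true)]),
  (424, [(.c, true), (.d, true), (.v, true), (.v, true), (.d, true)]),
  (433, [(.d, true), (.v, true), (.t, true), (.e, true), (.v, true), (.t, true)]),
  (439, [(.v, true), (.v, true), (.d, true), (.v, true), (.t, true), (.d, true)]),
  (444, [(.e, true), (.t, true), (.d, true), (.v, true), (.t, true), (.d, true)]),
  (454, [(.e, true), (.t, true), (.d, true), (.e, true), (.d, true), (.v, true), (.c, true)]),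
  (465, [(.v, true), (.t, true), (.e, true), (.v, true), (.c, true), (.d, true)]),
  (469, [(.e, true), (.t, true), (.e, true), (.t, true), (.e, true), (.t, true), (.d, true)]),
  (481, [(.v, true), (.t, true), (.t, true), (.d, true), (.e, true)]),
  (504, [(.v, true), (.v, true), (.t, true)]),
  (508, [(.e, true), (.d, true), (.v, true), (.v, true), (.t, true), (.e, true), (.d, true)]),
  (525, [(.d, true), (.e, true), (.v, true), (.t, true), (.v, true), (.d, true)]),
  (534, [(.d, true), (.e, true), (.t, true), (.v, true)]),
  (542, [(.c, true), (.t, true), (.e, true), (.d, true), (.v, true)]),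
  (552, [(.e, true), (.c, true), (.t, true)]),
  (572, [(.d, true), (.v, true), (.t, true), (.e, true), (.d, true), (.t, true)]),
  (625, [(.v, true), (.v, true), (.t, true), (.t, true), (.c, true)]),
  (634, [(.d, true), (.t, true), (.t, true), (.e, true), (.d, true), (.c, true)]),
  (637, [(.c, true), (.d, true), (.v, true), (.v, true), (.e, true)]),
  (639, [(.d, true), (.v, true), (.t, true), (.e, true), (.v, true)]),
  (649, [(.d, true), (.t, true), (.v, true), (.c, true)]),
  (655, [(.d, true), (.t, true), (.v, true), (.d, true), (.v, true), (.d, true)]),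
  (661, [(.d, true), (.v, true), (.c, true), (.t, true), (.e, true), (.d, true)]),
  (672, [(.e, true), (.d, true), (.c, true), (.t, true)]),
  (677, [(.v, true), (.d, true), (.v, true), (.d, true), (.c, true), (.t, true), (.c, true)]),
  (678, [(.c, true), (.d, true), (.v, true), (.t, true), (.e, true), (.c, true)]),
  (728, [(.t, true), (.v, true), (.v, true), (.e, true), (.c, true)]),
  (733, [(.d, true), (.v, true), (.t, true), (.e, true), (.c, true)]),
  (734, [(.e, true), (.v, true), (.t, true), (.d, true), (.e, true), (.t, true), (.c, true)]),
  (742, [(.c, true), (.d, true), (.v, true), (.t, true), (.c, true)]),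
  (768, [(.v, true), (.d, true), (.v, true), (.d, true)]),
  (769, [(.d, true), (.c, true), (.d, true), (.v, true)]),
  (770, [(.d, true), (.e, true), (.t, true), (.c, true)]),
  (774, [(.v, true), (.t, true), (.v, true), (.c, true), (.t, true), (.c, true)]),
  (777, [(.e, true), (.c, true), (.d, true), (.t, true), (.e, true)]),
  (820, [(.e, true), (.v, true), (.c, true), (.d, true), (.c, true)]),
  (821, [(.c, true), (.d, true)]),
  (830, [(.t, true), (.t, true), (.v, true), (.d, true), (.v, true), (.c, true)]),
  (851, [(.v, true), (.e, true), (.v, true), (.c, true), (.d, true)]),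
  (880, [(.d, true), (.e, true), (.t, true), (.e, true), (.c, true), (.d, true), (.c, true)]),
  (895, [(.e, true), (.d, true), (.v, true), (.t, true), (.v, true), (.t, true), (.c, true)]),
  (896, [(.t, true), (.v, true), (.d, true), (.c, true), (.t, true)]),
  (900, [(.d, true), (.t, true), (.v, true), (.t, true), (.e, true)]),
  (939, [(.d, true), (.v, true), (.t, true), (.v, true), (.e, true), (.v, true)]),
  (962, [(.c, true), (.d, true), (.e, true), (.d, true), (.v, true), (.d, true)]),
  (973, [(.c, true), (.d, true), (.t, true), (.v, true)]),
  (994, [(.d, true), (.e, true), (.d, true), (.t, true), (.e, true), (.v, true)]),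
  (1014, [(.t, true), (.c, true), (.d, true), (.e, true)]),
  (1015, [(.e, true), (.t, true), (.t, true), (.e, true), (.c, true)]),
  (1025, [(.d, true), (.v, true), (.v, true), (.d, true), (.t, true)]),
  (1026, [(.d, true), (.v, true), (.c, true), (.d, true), (.v, true), (.t, true), (.c, true)]),
  (1034, [(.d, true), (.c, true), (.d, true), (.t, true)]),
  (1042, [(.v, true), (.t, true), (.v, true), (.t, true), (.d, true), (.c, true)]),
  (1043, [(.d, true), (.v, true), (.t, true), (.v, true), (.e, true), (.v, true), (.d, true)]),
  (1052, [(.e, true), (.d, true), (.t, true), (.t, true), (.e, true)]),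
  (1068, [(.d, true), (.v, true), (.d, true), (.t, true), (.c, true)]),
  (1080, [(.v, true), (.t, true), (.v, true), (.d, true), (.t, true), (.d, true)]),
  (1084, [(.t, true), (.e, true), (.c, true), (.d, true), (.c, true)]),
  (1094, [(.v, true), (.t, true), (.e, true), (.t, true), (.t, true), (.c, true)]),
  (1095, [(.v, true), (.d, true), (.e, true), (.v, true), (.d, true)]),
  (1106, [(.e, true), (.c, true), (.t, true), (.v, true), (.d, true), (.v, true)]),
  (1107, [(.v, true), (.t, true), (.e, true), (.d, true), (.t, true), (.d, true)]),
  (1112, [(.e, true), (.c, true), (.d, true), (.c, true)]),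
  (1121, [(.e, true), (.t, true), (.e, true), (.c, true)]),
  (1135, [(.d, true), (.v, true), (.c, true), (.d, true), (.v, true), (.d, true), (.v, true)]),
  (1136, [(.v, true), (.d, true), (.c, true), (.d, true), (.v, true), (.d, true)]),
  (1157, [(.e, true), (.d, true), (.v, true), (.v, true), (.t, true), (.e, true)]),
  (1175, [(.c, true), (.d, true), (.v, true), (.v, true), (.d, true), (.c, true)]),
  (1179, [(.v, true), (.d, true), (.t, true), (.v, true), (.v, true)]),
  (1197, [(.v, true), (.t, true), (.v, true), (.t, true), (.v, true)]),
  (1225, [(.t, true), (.e, true), (.c, true), (.t, true), (.v, true), (.v, true)]),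
  (1235, [(.e, true), (.t, true), (.e, true), (.v, true), (.t, true), (.d, true), (.c, true)]),
  (1242, [(.d, true), (.t, true), (.v, true), (.c, true), (.t, true), (.e, true), (.d, true)]),
  (1248, [(.d, true), (.e, true), (.d, true), (.t, true), (.e, true), (.t, true)]),
  (1249, [(.t, true), (.v, true), (.t, true), (.e, true), (.t, true), (.d, true)]),
  (1271, [(.t, true), (.e, true), (.c, true), (.t, true), (.e, true)]),
  (1274, [(.v, true), (.d, true)]),
  (1282, [(.v, true), (.v, true), (.d, true), (.v, true), (.t, true), (.c, true)]),
  (1286, [(.d, true), (.t, true), (.v, true), (.d, true), (.t, true)]),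
  (1290, [(.t, true), (.d, true), (.v, true), (.v, true), (.d, true)]),
  (1291, [(.t, true), (.v, true), (.c, true), (.t, true), (.c, true), (.d, true)]),
  (1293, [(.v, true), (.t, true), (.e, true), (.t, true), (.d, true), (.c, true)]),
  (1306, [(.t, true), (.v, true), (.t, true), (.v, true), (.d, true)]),
  (1307, [(.e, true), (.c, true), (.d, true), (.t, true), (.v, true)]),
  (1309, [(.v, true), (.c, true), (.t, true), (.e, true), (.d, true), (.t, true)]),
  (1325, [(.e, true), (.d, true), (.v, true), (.d, true), (.t, true), (.e, true)]),
  (1334, [(.t, true), (.d, true), (.v, true), (.t, true), (.e, true), (.t, true), (.d, true)]),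
  (1350, [(.d, true), (.v, true), (.d, true), (.t, true), (.d, true)]),
  (1355, [(.v, true), (.v, true), (.d, true), (.v, true), (.t, true), (.v, true)]),
  (1367, [(.c, true), (.t, true), (.d, true), (.v, true), (.t, true), (.e, true)]),
  (1369, [(.e, true), (.c, true), (.t, true), (.e, true), (.d, true), (.c, true)]),
  (1395, [(.e, true), (.t, true), (.d, true), (.v, true), (.t, true), (.c, true)]),
  (1400, [(.t, true), (.e, true), (.d, true), (.t, true)]),
  (1401, [(.t, true), (.v, true), (.v, true), (.e, true), (.v, true)]),
  (1410, [(.t, true), (.v, true), (.v, true), (.d, true), (.v, true), (.v, true)]),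
  (1422, [(.v, true), (.t, true), (.c, true), (.d, true), (.e, true), (.d, true)]),
  (1435, [(.e, true), (.v, true), (.c, true), (.t, true), (.d, true)]),
  (1456, [(.v, true), (.d, true), (.v, true), (.c, true), (.t, true)]),
  (1459, [(.v, true), (.d, true), (.e, true), (.t, true), (.e, true), (.c, true)]),
  (1461, [(.t, true), (.v, true), (.t, true), (.e, true), (.c, true), (.d, true), (.c, true)]),
  (1466, [(.v, true), (.c, true), (.t, true), (.e, true), (.v, true), (.d, true)]),
  (1482, [(.v, true), (.v, true), (.d, true), (.v, true), (.v, true)]),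
  (1484, [(.d, true), (.v, true), (.d, true), (.t, true), (.e, true)]),
  (1492, [(.v, true), (.d, true), (.t, true), (.e, true)]),
  (1499, [(.c, true), (.d, true), (.v, true), (.v, true), (.t, true), (.e, true)]),
  (1500, [(.d, true), (.v, true), (.t, true), (.d, true), (.v, true)]),
  (1508, [(.e, true), (.t, true), (.e, true), (.t, true), (.v, true), (.c, true)]),
  (1520, [(.t, true), (.t, true), (.e, true)]),
  (1525, [(.d, true), (.t, true), (.e, true), (.d, true), (.v, true), (.d, true)]),
  (1532, [(.e, true), (.d, true), (.t, true), (.e, true), (.d, true), (.t, true)]),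
  (1540, [(.t, true), (.e, true), (.t, true), (.v, true), (.d, true), (.t, true), (.e, true)]),
  (1541, [(.v, true), (.v, true), (.d, true), (.t, true), (.v, true), (.d, true), (.c, true)]),
  (1545, [(.d, true), (.e, true), (.v, true), (.d, true), (.t, true)]),
  (1550, [(.t, true), (.v, true), (.e, true), (.v, true), (.d, true), (.t, true)]),
  (1557, [(.c, true), (.d, true), (.v, true), (.t, true), (.v, true), (.c, true)]),
  (1559, [(.t, true), (.t, true), (.d, true), (.v, true), (.d, true)]),
  (1560, [(.v, true), (.d, true), (.v, true), (.t, true), (.c, true), (.d, true)]),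
  (1566, [(.d, true), (.t, true), (.e, true), (.v, true), (.t, true)]),
  (1569, [(.d, true), (.e, true), (.t, true), (.v, true), (.t, true), (.t, true)]),
  (1570, [(.t, true), (.v, true), (.v, true)]),
  (1572, [(.v, true), (.t, true), (.d, true), (.v, true), (.t, true), (.d, true)]),
  (1588, [(.v, true), (.t, true), (.e, true), (.v, true), (.c, true)]),
  (1593, [(.t, true), (.c, true), (.d, true), (.e, true), (.d, true), (.v, true)]),
  (1598, [(.e, true), (.t, true), (.t, true)]),
  (1605, [(.d, true), (.t, true), (.e, true), (.v, true), (.d, true), (.e, true)]),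
  (1626, [(.v, true), (.v, true), (.d, true), (.v, true), (.v, true), (.t, true)]),
  (1629, [(.t, true), (.v, true), (.v, true), (.d, true), (.v, true), (.t, true), (.c, true)]),
  (1633, [(.e, true), (.d, true), (.v, true), (.d, true), (.c, true), (.t, true)]),
  (1638, [(.c, true), (.d, true), (.v, true), (.d, true), (.v, true), (.t, true)]),
  (1641, [(.t, true), (.e, true), (.d, true), (.t, true), (.e, true), (.t, true)]),
  (1646, [(.t, true), (.v, true), (.d, true), (.t, true), (.t, true)]),
  (1662, [(.v, true), (.t, true), (.v, true), (.c, true), (.t, true), (.e, true), (.d, true)]),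
  (1663, [(.t, true), (.d, true), (.e, true), (.d, true), (.v, true), (.t, true)]),
  (1666, [(.t, true), (.d, true), (.e, true), (.d, true), (.c, true)]),
  (1694, [(.t, true), (.e, true), (.d, true), (.v, true), (.d, true), (.t, true), (.d, true)]),
  (1702, [(.d, true), (.e, true), (.d, true), (.v, true), (.d, true)]),
  (1714, [(.c, true), (.d, true), (.v, true), (.t, true), (.v, true), (.t, true), (.d, true)]),
  (1717, [(.d, true), (.t, true), (.e, true), (.t, true), (.e, true), (.c, true)]),
  (1725, [(.v, true), (.c, true), (.d, true), (.v, true), (.t, true), (.t, true)]),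
  (1766, [(.v, true), (.t, true), (.e, true), (.c, true), (.d, true), (.v, true)]),
  (1774, [(.d, true), (.v, true), (.d, true)]),
  (1775, [(.e, true), (.d, true), (.v, true), (.d, true), (.v, true), (.t, true)]),
  (1791, [(.t, true), (.e, true), (.t, true), (.t, true), (.t, true)]),
  (1800, [(.d, true), (.e, true), (.t, true), (.e, true), (.v, true), (.e, true), (.d, true)]),
  (1801, [(.t, true), (.v, true), (.t, true), (.v, true), (.t, true), (.e, true)]),
  (1804, [(.v, true), (.t, true), (.v, true), (.e, true), (.v, true)]),
  (1808, [(.v, true), (.d, true), (.v, true), (.d, true), (.c, true)]),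
  (1827, [(.v, true), (.c, true), (.t, true), (.e, true)]),
  (1835, [(.c, true), (.t, true), (.v, true), (.v, true), (.d, true), (.c, true)]),
  (1838, [(.t, true), (.v, true), (.t, true), (.v, true), (.v, true)]),
  (1847, [(.v, true), (.c, true), (.t, true), (.v, true), (.v, true)]),
  (1853, [(.d, true), (.v, true), (.v, true), (.t, true), (.e, true), (.c, true)]),
  (1862, [(.e, true), (.d, true), (.t, true), (.v, true), (.d, true), (.v, true)]),
  (1867, [(.v, true), (.e, true), (.v, true), (.t, true), (.v, true), (.v, true)]),
  (1880, [(.d, true), (.v, true), (.t, true), (.e, true), (.v, true), (.e, true)]),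
  (1886, [(.t, true), (.v, true), (.t, true), (.t, true), (.v, true)]),
  (1889, [(.e, true), (.d, true), (.v, true), (.t, true), (.d, true), (.v, true), (.d, true)]),
  (1914, [(.d, true), (.t, true), (.e, true), (.d, true), (.t, true)]),
  (1923, [(.d, true), (.t, true), (.d, true), (.e, true)]),
  (1937, [(.v, true)]),
  (1939, [(.d, true), (.t, true), (.v, true), (.t, true), (.e, true), (.v, true), (.e, true)]),
  (1946, [(.v, true), (.e, true), (.v, true), (.d, true), (.t, true), (.e, true), (.c, true)]),
  (1960, [(.e, true), (.v, true), (.t, true), (.c, true), (.d, true), (.e, true)]),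
  (1966, [(.t, true), (.v, true), (.t, true), (.d, true), (.v, true), (.d, true)]),
  (1987, [(.e, true), (.c, true), (.t, true), (.e, true), (.d, true)]),
  (2001, [(.t, true), (.v, true), (.t, true), (.e, true), (.d, true), (.v, true), (.c, true)]),
  (2003, [(.v, true), (.c, true), (.d, true), (.v, true), (.t, true)]),
  (2005, [(.v, true), (.v, true), (.c, true), (.t, true), (.e, true)]),
  (2019, [(.c, true), (.d, true), (.e, true), (.v, true), (.d, true)]),
  (2024, [(.d, true), (.v, true), (.t, true), (.c, true), (.d, true)]),
  (2032, [(.t, true), (.d, true), (.e, true), (.t, true), (.e, true), (.d, true)]),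
  (2041, [(.d, true), (.v, true), (.t, true), (.c, true)]),
  (2059, [(.e, true), (.v, true), (.d, true), (.e, true), (.t, true), (.d, true)]),
  (2072, [(.d, true), (.t, true), (.v, true), (.t, true)]),
  (2076, [(.v, true), (.c, true), (.d, true), (.t, true), (.t, true)]),
  (2077, [(.d, true), (.t, true)]),
  (2104, [(.e, true), (.v, true), (.t, true), (.v, true), (.d, true), (.t, true)]),
  (2105, [(.t, true), (.e, true), (.v, true), (.t, true), (.d, true), (.c, true)]),
  (2125, [(.t, true), (.e, true), (.t, true), (.v, true), (.v, true), (.d, true), (.c, true)]),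
  (2150, [(.e, true), (.d, true), (.t, true), (.d, true), (.e, true), (.d, true), (.c, true)]),
  (2163, [(.d, true), (.t, true), (.d, true), (.e, true), (.d, true), (.v, true), (.c, true)]),
  (2164, [(.d, true), (.t, true), (.v, true), (.d, true), (.v, true)]),
  (2173, [(.e, true), (.v, true), (.t, true), (.e, true), (.d, true), (.v, true), (.c, true)]),
  (2184, [(.v, true), (.e, true), (.v, true), (.d, true), (.t, true), (.e, true), (.d, true)]),
  (2205, [(.c, true), (.d, true), (.t, true), (.e, true)]),
  (2208, [(.e, true), (.t, true), (.e, true), (.c, true), (.t, true), (.c, true)]),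
  (2228, [(.v, true), (.t, true), (.v, true), (.t, true), (.e, true), (.t, true)]),
  (2233, [(.e, true), (.t, true), (.v, true), (.t, true), (.t, true), (.c, true)]),
  (2236, [(.t, true), (.t, true), (.c, true)]),
  (2248, [(.d, true), (.t, true), (.e, true), (.t, true), (.c, true)]),
  (2255, [(.e, true), (.v, true), (.d, true), (.t, true)]),
  (2277, [(.e, true), (.c, true), (.d, true), (.v, true), (.t, true)]),
  (2278, [(.t, true), (.e, true), (.t, true), (.e, true), (.c, true), (.t, true)]),
  (2282, [(.c, true), (.d, true), (.e, true)]),
  (2300, [(.e, true), (.t, true), (.e, true), (.c, true), (.d, true), (.v, true)]),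
  (2307, [(.e, true), (.t, true), (.d, true), (.v, true), (.d, true)]),
  (2310, [(.c, true), (.d, true), (.v, true), (.t, true), (.e, true), (.d, true)]),
  (2312, [(.v, true), (.c, true), (.d, true), (.t, true), (.v, true), (.d, true)]),
  (2313, [(.c, true), (.t, true), (.c, true), (.d, true)]),
  (2337, [(.t, true), (.v, true), (.t, true), (.c, true), (.d, true), (.e, true)]),
  (2338, [(.e, true), (.t, true), (.e, true), (.t, true), (.t, true)]),
  (2342, [(.c, true), (.d, true), (.e, true), (.t, true), (.d, true), (.v, true), (.d, true)]),
  (2344, [(.e, true), (.d, true), (.v, true), (.d, true), (.v, true), (.t, true), (.c, true)]),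
  (2361, [(.v, true), (.d, true), (.t, true), (.d, true)]),
  (2381, [(.e, true), (.v, true), (.t, true), (.v, true), (.t, true), (.t, true)]),
  (2386, [(.t, true), (.v, true), (.c, true), (.t, true), (.e, true)]),
  (2398, [(.c, true)]),
  (2441, [(.c, true), (.d, true), (.e, true), (.d, true), (.v, true), (.t, true), (.d, true)]),
  (2450, [(.e, true), (.d, true), (.v, true), (.t, true), (.d, true), (.v, true), (.c, true)]),
  (2451, [(.c, true), (.d, true), (.v, true), (.d, true), (.v, true), (.c, true)]),
  (2458, [(.v, true), (.d, true), (.v, true), (.c, true), (.d, true), (.c, true)]),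
  (2470, [(.v, true), (.d, true), (.e, true), (.t, true), (.e, true), (.d, true), (.c, true)]),
  (2479, [(.t, true), (.e, true), (.t, true), (.t, true)]),
  (2506, [(.t, true), (.e, true), (.d, true), (.v, true), (.t, true), (.c, true), (.d, true)]),
  (2509, [(.d, true), (.e, true), (.v, true), (.t, true), (.e, true)]),
  (2512, [(.v, true), (.e, true), (.v, true), (.t, true), (.v, true), (.c, true)]),
  (2520, [(.v, true), (.d, true), (.e, true), (.t, true), (.e, true), (.v, true), (.e, true)]),
  (2521, [(.e, true), (.d, true), (.v, true), (.c, true), (.d, true)]),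
  (2523, [(.d, true), (.e, true), (.t, true), (.v, true), (.t, true), (.t, true), (.c, true)]),
  (2531, [(.v, true), (.t, true), (.e, true), (.t, true)]),
  (2540, [(.v, true), (.d, true), (.e, true), (.t, true), (.v, true), (.v, true), (.d, true)]),
  (2541, [(.e, true), (.c, true), (.t, true), (.v, true), (.v, true)]),
  (2561, [(.t, true), (.v, true), (.e, true), (.c, true)]),
  (2569, [(.t, true), (.d, true), (.e, true), (.t, true), (.e, true), (.t, true), (.t, true)]),
  (2574, [(.v, true), (.t, true), (.e, true), (.d, true), (.t, true), (.e, true), (.c, true)]),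
  (2579, [(.d, true), (.t, true), (.v, true), (.t, true), (.d, true), (.c, true)]),
  (2588, [(.v, true), (.t, true), (.v, true), (.c, true), (.t, true)]),
  (2592, [(.v, true), (.d, true), (.t, true), (.d, true), (.e, true), (.d, true)]),
  (2617, [(.v, true), (.e, true), (.v, true), (.c, true)]),
  (2618, [(.e, true), (.d, true), (.v, true), (.t, true), (.c, true), (.d, true)]),
  (2619, [(.t, true), (.e, true), (.t, true), (.e, true), (.v, true)]),
  (2643, [(.d, true), (.v, true), (.v, true), (.c, true), (.t, true)]),
  (2664, [(.c, true), (.t, true), (.v, true), (.d, true), (.v, true), (.d, true), (.c, true)]),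
  (2681, [(.e, true), (.d, true), (.v, true), (.t, true)]),
  (2687, [(.v, true), (.t, true), (.e, true), (.t, true), (.c, true), (.d, true)]),
  (2691, [(.t, true), (.v, true), (.t, true), (.t, true), (.c, true)]),
  (2708, [(.v, true), (.v, true), (.t, true), (.e, true), (.t, true)]),
  (2733, [(.e, true), (.t, true), (.d, true), (.v, true), (.d, true), (.c, true)]),
  (2734, [(.v, true), (.d, true), (.e, true), (.d, true), (.t, true)]),
  (2752, [(.d, true), (.t, true), (.v, true)]),
  (2774, [(.d, true), (.t, true), (.e, true), (.t, true), (.v, true), (.t, true), (.d, true)]),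
  (2783, [(.d, true), (.e, true), (.c, true), (.t, true), (.e, true), (.v, true), (.d, true)]),
  (2797, [(.t, true), (.v, true), (.d, true), (.v, true), (.c, true), (.d, true)]),
  (2802, [(.v, true), (.t, true), (.v, true), (.c, true), (.d, true), (.t, true)]),
  (2803, [(.c, true), (.d, true), (.v, true), (.t, true), (.c, true), (.d, true)]),
  (2807, [(.t, true), (.t, true), (.v, true), (.t, true), (.e, true), (.v, true)]),
  (2809, [(.v, true), (.t, true), (.v, true), (.c, true), (.t, true), (.e, true)]),
  (2819, [(.d, true), (.e, true), (.t, true), (.d, true), (.v, true), (.t, true), (.c, true)]),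
  (2829, [(.t, true), (.v, true), (.d, true), (.t, true), (.e, true), (.c, true)]),
  (2848, [(.v, true), (.d, true), (.e, true), (.v, true)]),
  (2883, [(.v, true), (.v, true)]),
  (2912, [(.d, true), (.c, true), (.d, true)]),
  (2921, [(.t, true), (.e, true), (.v, true), (.t, true), (.v, true)]),
  (2928, [(.v, true), (.d, true), (.e, true), (.v, true), (.d, true), (.c, true)]),
  (2935, [(.d, true), (.e, true), (.t, true), (.t, true), (.d, true)]),
  (2939, [(.t, true), (.d, true), (.c, true)]),
  (2943, [(.t, true), (.e, true), (.v, true), (.t, true), (.e, true), (.c, true)]),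
  (2953, [(.d, true), (.v, true), (.t, true), (.c, true), (.d, true), (.e, true)]),
  (2957, [(.v, true), (.c, true), (.d, true), (.e, true), (.t, true)]),
  (2960, [(.v, true), (.t, true), (.v, true), (.e, true), (.c, true)]),
  (2962, [(.d, true), (.v, true), (.d, true), (.c, true)]),
  (2972, [(.e, true), (.c, true), (.t, true), (.v, true), (.v, true), (.c, true)]),
  (2974, [(.t, true), (.e, true), (.v, true), (.d, true), (.e, true), (.c, true), (.d, true)]),
  (2981, [(.t, true), (.v, true), (.t, true), (.v, true), (.e, true)]),
  (2986, [(.c, true), (.d, true), (.v, true), (.t, true), (.t, true)]),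
  (2996, [(.e, true), (.d, true), (.t, true), (.e, true)]),
  (3001, [(.e, true), (.c, true), (.t, true), (.e, true), (.c, true), (.d, true), (.c, true)]),
  (3016, [(.t, true), (.e, true), (.d, true), (.v, true), (.c, true), (.d, true)]),
  (3024, [(.e, true), (.t, true), (.d, true), (.e, true), (.t, true)]),
  (3036, [(.v, true), (.t, true), (.d, true), (.e, true), (.d, true), (.c, true)]),
  (3045, [(.t, true), (.t, true), (.t, true), (.d, true)]),
  (3052, [(.e, true), (.t, true), (.d, true), (.v, true), (.d, true), (.v, true)]),
  (3079, [(.t, true), (.v, true), (.e, true), (.v, true), (.v, true)]),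
  (3084, [(.t, true), (.v, true), (.e, true)]),
  (3103, [(.d, true), (.v, true), (.t, true), (.e, true), (.v, true), (.c, true)]),
  (3108, [(.e, true), (.t, true), (.t, true), (.t, true)]),
  (3118, [(.v, true), (.v, true), (.d, true), (.v, true), (.v, true), (.t, true), (.e, true)]),
  (3120, [(.e, true), (.v, true), (.t, true), (.v, true), (.d, true), (.v, true), (.c, true)]),
  (3135, [(.v, true), (.d, true), (.t, true), (.e, true), (.v, true), (.t, true)]),
  (3142, [(.e, true), (.d, true), (.t, true), (.t, true)]),
  (3153, [(.t, true), (.v, true), (.v, true), (.t, true), (.c, true)]),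
  (3165, [(.v, true), (.d, true), (.e, true), (.v, true), (.t, true), (.e, true)]),
  (3169, [(.v, true), (.d, true), (.v, true), (.d, true), (.v, true), (.t, true), (.c, true)]),
  (3174, [(.e, true), (.t, true), (.e, true), (.d, true), (.c, true), (.t, true)]),
  (3177, [(.c, true), (.t, true), (.e, true), (.c, true), (.d, true), (.c, true)]),
  (3183, [(.d, true), (.e, true), (.d, true), (.t, true), (.e, true), (.v, true), (.c, true)]),
  (3203, [(.t, true), (.d, true), (.e, true), (.d, true), (.t, true)]),
  (3216, [(.v, true), (.e, true), (.v, true), (.v, true)]),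
  (3219, [(.t, true), (.e, true), (.t, true), (.t, true), (.d, true), (.e, true)]),
  (3261, [(.t, true), (.e, true), (.c, true), (.t, true), (.e, true), (.c, true)]),
  (3265, [(.d, true), (.e, true), (.v, true), (.t, true), (.e, true), (.c, true)]),
  (3294, [(.d, true), (.v, true), (.c, true)]),
  (3315, [(.v, true), (.c, true), (.d, true), (.v, true), (.t, true), (.c, true), (.d, true)]),
  (3325, [(.c, true), (.t, true), (.v, true), (.d, true), (.v, true), (.d, true)]),
  (3339, [(.e, true), (.d, true), (.v, true), (.t, true), (.v, true), (.v, true)]),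
  (3345, [(.d, true), (.v, true), (.t, true), (.v, true), (.v, true), (.d, true), (.c, true)]),
  (3353, [(.v, true), (.t, true), (.t, true), (.t, true)]),
  (3371, [(.t, true), (.e, true), (.t, true), (.d, true), (.e, true), (.d, true)]),
  (3380, [(.t, true), (.e, true), (.t, true), (.e, true), (.d, true)]),
  (3383, [(.c, true), (.d, true), (.e, true), (.d, true), (.v, true), (.c, true)]),
  (3396, [(.t, true), (.t, true), (.d, true), (.e, true), (.v, true)]),
  (3399, [(.v, true), (.t, true), (.e, true), (.t, true), (.v, true)]),
  (3416, [(.v, true), (.t, true), (.d, true), (.v, true), (.d, true), (.c, true)]),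
  (3437, [(.d, true), (.v, true), (.t, true), (.e, true), (.c, true), (.t, true), (.c, true)]),
  (3438, [(.v, true), (.d, true), (.v, true), (.d, true), (.v, true)]),
  (3442, [(.e, true), (.d, true), (.t, true), (.v, true), (.v, true), (.t, true)]),
  (3466, [(.v, true), (.d, true), (.t, true), (.e, true), (.t, true), (.e, true), (.c, true)]),
  (3471, [(.c, true), (.d, true), (.e, true), (.t, true), (.v, true), (.v, true)]),
  (3475, [(.e, true), (.v, true), (.t, true), (.d, true), (.e, true), (.t, true)]),
  (3482, [(.e, true), (.c, true), (.t, true), (.e, true), (.d, true), (.v, true), (.c, true)]),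
  (3508, [(.v, true), (.c, true), (.d, true), (.v, true), (.t, true), (.e, true), (.c, true)]),
  (3525, [(.e, true), (.c, true), (.t, true), (.v, true), (.d, true), (.v, true), (.d, true)]),
  (3526, [(.v, true), (.d, true), (.t, true), (.e, true), (.d, true)]),
  (3550, [(.d, true), (.e, true), (.d, true), (.v, true), (.c, true), (.d, true)]),
  (3552, [(.t, true), (.d, true), (.v, true), (.t, true), (.e, true), (.c, true), (.d, true)]),
  (3574, [(.v, true), (.t, true), (.e, true), (.d, true), (.t, true), (.t, true)]),
  (3577, [(.e, true), (.t, true), (.v, true), (.d, true), (.t, true)]),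
  (3580, [(.v, true), (.d, true), (.e, true), (.t, true), (.t, true), (.c, true)]),
  (3655, [(.d, true), (.e, true), (.t, true), (.v, true), (.v, true), (.d, true), (.c, true)]),
  (3663, [(.d, true), (.v, true), (.c, true), (.t, true), (.c, true)]),
  (3712, [(.t, true), (.e, true), (.d, true), (.c, true), (.d, true)]),
  (3718, [(.t, true), (.d, true), (.e, true), (.t, true), (.e, true), (.c, true), (.d, true)]),
  (3726, [(.v, true), (.d, true), (.e, true), (.d, true), (.v, true)]),
  (3738, [(.d, true), (.e, true), (.t, true), (.d, true), (.e, true), (.d, true), (.c, true)]),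
  (3739, [(.e, true), (.t, true), (.v, true), (.v, true), (.d, true), (.v, true), (.t, true)]),
  (3740, [(.c, true), (.t, true), (.d, true), (.v, true), (.t, true), (.e, true), (.d, true)]),
  (3743, [(.e, true), (.v, true), (.t, true), (.v, true), (.d, true)]),
  (3754, [(.t, true), (.d, true), (.e, true), (.t, true), (.v, true), (.t, true)]),
  (3800, [(.e, true), (.d, true), (.t, true), (.e, true), (.t, true), (.d, true), (.c, true)]),
  (3803, [(.c, true), (.d, true), (.e, true), (.c, true), (.t, true)]),
  (3824, [(.e, true), (.v, true), (.d, true), (.e, true), (.t, true), (.e, true), (.d, true), (.c, true)]),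
  (3848, [(.t, true), (.d, true), (.v, true), (.t, true), (.e, true), (.d, true)]),
  (3852, [(.t, true), (.t, true), (.e, true), (.d, true), (.c, true)]),
  (3861, [(.d, true), (.e, true), (.c, true)]),
  (3865, [(.t, true), (.v, true), (.v, true), (.d, true), (.v, true), (.t, true), (.t, true)]),
  (3867, [(.v, true), (.t, true), (.v, true), (.d, true), (.t, true), (.t, true)]),
  (3872, [(.e, true), (.t, true), (.e, true), (.t, true), (.d, true)]),
  (3896, [(.e, true), (.t, true), (.e, true), (.t, true), (.d, true), (.c, true)]),
  (3900, [(.d, true), (.v, true), (.t, true), (.v, true), (.e, true), (.v, true), (.c, true)]),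
  (3902, [(.d, true), (.v, true), (.t, true), (.d, true), (.e, true), (.d, true)]),
  (3926, [(.t, true), (.e, true), (.t, true), (.t, true), (.d, true)]),
  (3931, [(.e, true), (.t, true), (.e, true), (.v, true), (.d, true)]),
  (3937, [(.v, true), (.c, true), (.d, true), (.v, true), (.t, true), (.v, true), (.c, true)]),
  (3944, [(.e, true), (.t, true), (.v, true), (.t, true)]),
  (3966, [(.e, true), (.c, true), (.d, true), (.v, true), (.t, true), (.d, true)]),
  (3973, [(.t, true), (.e, true), (.c, true), (.t, true), (.e, true), (.d, true), (.v, true)]),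
  (3974, [(.e, true), (.d, true), (.v, true), (.c, true), (.t, true), (.d, true)]),
  (3979, [(.t, true), (.d, true), (.e, true), (.t, true), (.e, true), (.v, true), (.e, true)]),
  (3981, [(.e, true), (.d, true), (.t, true), (.e, true), (.d, true), (.t, true), (.d, true)]),
  (4000, [(.d, true), (.v, true), (.t, true), (.t, true), (.d, true)]),
  (4004, [(.d, true), (.v, true), (.t, true), (.e, true), (.v, true), (.c, true), (.d, true)]),
  (4026, [(.v, true), (.t, true), (.d, true)]),
  (4028, [(.t, true), (.v, true), (.d, true), (.t, true), (.d, true), (.c, true)]),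
  (4035, [(.v, true), (.v, true), (.e, true), (.d, true), (.c, true)]),
  (4066, [(.e, true), (.v, true), (.t, true), (.e, true), (.d, true), (.v, true)]),
  (4070, [(.d, true), (.e, true), (.v, true), (.e, true), (.c, true)]),
  (4115, [(.v, true), (.v, true), (.d, true), (.v, true), (.t, true), (.t, true), (.c, true)]),
  (4128, [(.v, true), (.t, true), (.d, true), (.c, true)]),
  (4130, [(.t, true), (.v, true), (.t, true), (.e, true), (.t, true)]),
  (4131, [(.t, true), (.v, true), (.t, true), (.v, true), (.t, true), (.e, true), (.d, true)]),
  (4132, [(.e, true), (.c, true), (.d, true), (.t, true), (.t, true)]),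
  (4143, [(.d, true), (.e, true), (.t, true), (.e, true), (.c, true), (.d, true)]),
  (4147, [(.e, true), (.d, true), (.v, true), (.d, true), (.c, true), (.d, true)]),
  (4151, [(.d, true), (.v, true), (.t, true), (.d, true), (.v, true), (.v, true)]),
  (4177, [(.v, true), (.t, true), (.v, true), (.v, true), (.t, true)]),
  (4193, [(.c, true), (.d, true), (.t, true)]),
  (4201, [(.e, true), (.c, true), (.d, true), (.v, true), (.t, true), (.t, true)]),
  (4208, [(.e, true), (.d, true), (.t, true), (.e, true), (.d, true)]),
  (4215, [(.v, true), (.t, true), (.v, true), (.v, true), (.c, true), (.t, true)]),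
  (4219, [(.e, true), (.t, true), (.e, true), (.v, true), (.d, true), (.e, true), (.c, true)]),
  (4233, [(.e, true), (.t, true), (.d, true), (.v, true), (.v, true), (.t, true), (.c, true)]),
  (4243, [(.d, true), (.e, true), (.t, true), (.e, true), (.t, true), (.d, true)]),
  (4244, [(.e, true), (.v, true), (.d, true), (.t, true), (.e, true), (.c, true)]),
  (4279, [(.e, true), (.t, true), (.e, true), (.c, true), (.t, true), (.e, true)]),
  (4281, [(.t, true), (.t, true), (.v, true), (.t, true), (.v, true), (.v, true), (.c, true)]),
  (4282, [(.d, true), (.e, true), (.t, true), (.e, true), (.v, true), (.c, true)]),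
  (4307, [(.e, true), (.t, true), (.e, true), (.d, true), (.v, true), (.c, true)]),
  (4315, [(.e, true), (.v, true), (.c, true)]),
  (4317, [(.d, true), (.t, true), (.d, true), (.e, true), (.t, true)]),
  (4329, [(.e, true), (.d, true)]),
  (4344, [(.d, true), (.e, true), (.t, true), (.e, true), (.v, true), (.e, true), (.c, true)]),
  (4350, [(.t, true), (.v, true), (.t, true), (.e, true), (.t, true), (.d, true), (.c, true)]),
  (4356, [(.d, true), (.c, true), (.t, true)]),
  (4365, [(.e, true), (.v, true), (.d, true), (.t, true), (.e, true), (.d, true)]),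
  (4369, [(.d, true), (.v, true), (.c, true), (.t, true), (.e, true), (.v, true)]),
  (4370, [(.v, true), (.e, true), (.v, true), (.t, true), (.c, true)]),
  (4374, [(.e, true), (.c, true), (.d, true), (.v, true), (.t, true), (.c, true)]),
  (4378, [(.e, true), (.d, true), (.v, true), (.d, true), (.t, true), (.e, true), (.c, true)]),
  (4407, [(.t, true), (.t, true), (.d, true), (.e, true), (.t, true), (.e, true)]),
  (4431, [(.e, true), (.d, true), (.v, true), (.d, true), (.t, true), (.d, true)]),
  (4466, [(.d, true), (.v, true), (.t, true), (.e, true)]),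
  (4470, [(.t, true), (.v, true), (.c, true), (.t, true)]),
  (4479, [(.e, true), (.t, true), (.e, true), (.t, true), (.v, true), (.d, true)]),
  (4488, [(.d, true), (.e, true), (.d, true), (.v, true)]),
  (4489, [(.v, true), (.t, true), (.v, true), (.d, true), (.c, true)]),
  (4491, [(.e, true), (.t, true), (.d, true), (.v, true), (.v, true), (.d, true)]),
  (4511, [(.d, true), (.t, true), (.v, true), (.v, true), (.d, true)]),
  (4523, [(.d, true), (.c, true), (.t, true), (.c, true)]),
  (4526, [(.t, true), (.t, true), (.v, true), (.d, true)]),
  (4527, [(.t, true), (.e, true), (.t, true), (.d, true), (.v, true)]),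
  (4553, [(.d, true), (.e, true), (.d, true), (.v, true), (.t, true), (.d, true), (.e, true)]),
  (4560, [(.e, true), (.v, true), (.t, true), (.v, true), (.t, true)]),
  (4581, [(.e, true), (.d, true), (.v, true), (.t, true), (.v, true), (.c, true)]),
  (4584, [(.v, true), (.v, true), (.t, true), (.e, true), (.t, true), (.t, true), (.d, true)]),
  (4605, [(.v, true), (.t, true), (.v, true), (.v, true), (.e, true)]),
  (4617, [(.d, true), (.e, true), (.t, true), (.c, true), (.d, true), (.e, true)]),
  (4635, [(.e, true), (.d, true), (.t, true), (.v, true)]),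
  (4639, [(.e, true), (.t, true), (.v, true), (.v, true)]),
  (4677, [(.v, true), (.d, true), (.v, true), (.t, true), (.d, true)]),
  (4686, [(.t, true), (.e, true)]),
  (4688, [(.t, true), (.e, true), (.v, true), (.t, true), (.v, true), (.t, true)]),
  (4711, [(.e, true), (.t, true), (.v, true), (.d, true), (.t, true), (.d, true)]),
  (4729, [(.v, true), (.v, true), (.d, true)]),
  (4731, [(.e, true), (.c, true), (.d, true)]),
  (4749, [(.v, true), (.d, true), (.v, true), (.v, true), (.c, true)]),
  (4751, [(.d, true), (.v, true), (.t, true), (.e, true), (.t, true), (.v, true)]),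
  (4754, [(.v, true), (.t, true), (.t, true), (.v, true), (.c, true)]),
  (4755, [(.c, true), (.t, true), (.e, true), (.v, true), (.d, true), (.e, true)]),
  (4758, [(.d, true), (.t, true), (.e, true), (.t, true), (.e, true), (.t, true), (.d, true)]),
  (4770, [(.e, true), (.d, true), (.c, true), (.d, true)]),
  (4771, [(.v, true), (.t, true), (.e, true), (.t, true), (.d, true), (.v, true)]),
  (4796, [(.e, true), (.t, true), (.d, true), (.v, true), (.v, true), (.e, true), (.c, true)]),
  (4813, [(.d, true), (.e, true), (.d, true), (.t, true), (.d, true), (.e, true), (.d, true)]),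
  (4837, [(.d, true), (.e, true), (.d, true), (.t, true), (.e, true), (.d, true), (.c, true)]),
  (4840, [(.d, true), (.v, true), (.v, true), (.t, true), (.d, true)]),
  (4901, [(.c, true), (.t, true), (.e, true), (.d, true), (.v, true), (.t, true)]),
  (4902, [(.t, true), (.d, true), (.c, true), (.t, true)]),
  (4912, [(.t, true), (.e, true), (.t, true), (.e, true), (.c, true), (.d, true)]),
  (4925, [(.v, true), (.t, true), (.d, true), (.v, true), (.v, true), (.c, true)]),
  (4983, [(.t, true), (.v, true), (.t, true), (.t, true), (.d, true)]),
  (4984, [(.e, true), (.d, true), (.v, true), (.d, true), (.t, true), (.c, true)]),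
  (4993, [(.t, true), (.e, true), (.t, true), (.d, true), (.e, true), (.t, true)]),
  (5001, [(.v, true), (.t, true), (.v, true), (.d, true), (.c, true), (.d, true)]),
  (5020, [(.d, true), (.t, true), (.v, true), (.d, true)]),
  (5030, [(.v, true), (.v, true), (.t, true), (.e, true), (.c, true), (.d, true)]),
  (5031, [(.t, true), (.e, true), (.t, true)]),
  (5034, [(.v, true), (.t, true), (.t, true), (.d, true), (.e, true), (.t, true)]),
  (5038, [(.d, true), (.v, true), (.d, true), (.t, true), (.d, true), (.e, true)]),
  (5058, [(.d, true)]),
  (5067, [(.t, true), (.v, true), (.d, true), (.v, true), (.t, true), (.c, true), (.d, true)]),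
  (5068, [(.e, true), (.c, true), (.t, true), (.e, true), (.d, true), (.v, true)]),
  (5075, [(.d, true), (.t, true), (.e, true)]),
  (5095, [(.d, true), (.t, true), (.t, true), (.e, true), (.d, true)]),
  (5117, [(.t, true), (.e, true), (.t, true), (.e, true), (.d, true), (.v, true)]),
  (5118, [(.v, true), (.t, true), (.e, true), (.c, true), (.d, true), (.t, true), (.v, true)]),
  (5119, [(.v, true), (.t, true), (.v, true), (.d, true), (.v, true), (.c, true)]),
  (5121, [(.t, true), (.e, true), (.v, true), (.t, true), (.c, true)]),
  (5137, [(.t, true), (.d, true), (.e, true), (.d, true)]),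
  (5160, [(.e, true), (.c, true), (.t, true), (.v, true), (.c, true)]),
  (5161, [(.t, true), (.e, true), (.v, true), (.d, true), (.t, true)]),
  (5169, [(.t, true), (.e, true), (.t, true), (.e, true), (.t, true), (.d, true)]),
  (5174, [(.v, true), (.e, true), (.v, true), (.t, true)]),
  (5176, [(.e, true), (.d, true), (.t, true), (.d, true)]),
  (5195, [(.d, true), (.e, true), (.c, true), (.t, true), (.e, true), (.v, true)]),
  (5214, [(.e, true), (.v, true), (.d, true), (.e, true), (.t, true), (.v, true)]),
  (5219, [(.v, true), (.e, true), (.v, true), (.v, true), (.c, true)]),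
  (5233, [(.e, true), (.t, true), (.e, true), (.v, true), (.t, true)]),
  (5247, [(.e, true), (.d, true), (.t, true), (.d, true), (.e, true), (.t, true)]),
  (5250, [(.v, true), (.t, true), (.v, true), (.e, true)]),
  (5256, [(.v, true), (.v, true), (.t, true), (.e, true), (.t, true), (.t, true)]),
  (5275, [(.v, true), (.c, true), (.t, true), (.e, true), (.d, true)]),
  (5283, [(.e, true), (.t, true), (.d, true), (.v, true), (.d, true), (.t, true)]),
  (5313, [(.c, true), (.d, true), (.e, true), (.v, true), (.e, true)]),
  (5341, [(.t, true), (.v, true), (.d, true), (.t, true), (.e, true)]),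
  (5362, [(.d, true), (.e, true), (.v, true), (.c, true), (.t, true)]),
  (5388, [(.v, true), (.c, true), (.d, true), (.v, true), (.v, true)]),
  (5438, [(.t, true), (.v, true), (.d, true), (.v, true), (.t, true), (.d, true), (.c, true)]),
  (5440, [(.v, true), (.v, true), (.d, true), (.v, true), (.t, true)]),
  (5442, [(.v, true), (.t, true), (.e, true), (.d, true)]),
  (5452, [(.d, true), (.e, true), (.t, true), (.v, true), (.e, true), (.c, true)]),
  (5469, [(.v, true), (.t, true), (.e, true), (.c, true), (.d, true), (.c, true)]),
  (5476, [(.t, true), (.e, true), (.t, true), (.e, true), (.c, true)]),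
  (5480, [(.v, true), (.d, true), (.t, true), (.v, true), (.v, true), (.d, true)]),
  (5484, [(.e, true), (.c, true), (.t, true), (.e, true), (.v, true), (.d, true), (.c, true)]),
  (5487, [(.t, true), (.c, true), (.d, true), (.e, true), (.v, true)]),
  (5490, [(.t, true), (.d, true), (.e, true), (.t, true), (.d, true), (.c, true)]),
  (5499, [(.t, true), (.t, true), (.v, true), (.t, true), (.e, true), (.d, true), (.c, true)]),
  (5538, [(.t, true), (.d, true), (.v, true), (.v, true), (.e, true), (.c, true)]),
  (5549, [(.v, true), (.c, true), (.d, true), (.v, true), (.t, true), (.d, true)]),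
  (5586, [(.t, true), (.d, true), (.e, true), (.d, true), (.c, true), (.d, true)]),
  (5603, [(.e, true), (.t, true), (.e, true), (.c, true), (.d, true), (.c, true)]),
  (5606, [(.v, true), (.e, true), (.v, true), (.d, true)]),
  (5637, [(.c, true), (.d, true), (.v, true), (.t, true), (.e, true), (.c, true), (.d, true), (.c, true)]),
  (5639, [(.d, true), (.t, true), (.e, true), (.d, true)]),
  (5645, [(.e, true), (.t, true), (.e, true), (.d, true), (.t, true), (.e, true), (.c, true)]),
  (5657, [(.e, true), (.t, true), (.e, true), (.c, true), (.d, true)]),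
  (5658, [(.c, true), (.t, true), (.v, true), (.v, true), (.d, true)]),
  (5667, [(.e, true), (.d, true), (.v, true), (.d, true), (.v, true), (.c, true)]),
  (5706, [(.e, true), (.t, true), (.e, true), (.d, true)]),
  (5716, [(.e, true), (.t, true), (.e, true), (.t, true), (.v, true), (.e, true)]),
  (5723, [(.d, true), (.e, true), (.d, true), (.c, true)]),
  (5735, [(.v, true), (.d, true), (.t, true), (.t, true)]),
  (5740, [(.d, true), (.e, true), (.v, true), (.t, true), (.v, true), (.d, true), (.e, true)]),
  (5760, [(.e, true), (.v, true), (.d, true), (.t, true), (.v, true), (.c, true)]),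
  (5761, [(.d, true), (.e, true), (.v, true), (.t, true), (.c, true)]),
  (5771, [(.d, true), (.v, true), (.t, true), (.e, true), (.c, true), (.t, true)]),
  (5779, [(.t, true), (.v, true), (.v, true), (.d, true)]),
  (5799, [(.t, true), (.e, true), (.v, true), (.e, true), (.c, true)]),
  (5826, [(.d, true), (.e, true), (.c, true), (.t, true), (.e, true), (.d, true)]),
  (5827, [(.d, true), (.t, true), (.e, true), (.v, true), (.c, true)]),
  (5831, [(.e, true), (.c, true), (.t, true), (.v, true), (.v, true), (.d, true)]),
  (5840, [(.t, true), (.v, true), (.t, true), (.e, true), (.c, true), (.d, true)]),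
  (5848, [(.v, true), (.c, true), (.t, true), (.c, true), (.d, true), (.e, true)]),
  (5851, [(.e, true), (.v, true), (.t, true), (.v, true), (.c, true), (.t, true), (.d, true)]),
  (5858, [(.t, true), (.v, true), (.c, true), (.d, true), (.v, true)]),
  (5873, [(.d, true), (.v, true), (.c, true), (.t, true), (.e, true), (.v, true), (.c, true)]),
  (5877, [(.d, true), (.e, true), (.t, true), (.e, true), (.d, true)]),
  (5879, [(.t, true), (.v, true), (.e, true), (.v, true), (.d, true), (.c, true)]),
  (5921, [(.d, true), (.v, true), (.t, true), (.e, true), (.d, true)]),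
  (5922, [(.d, true), (.e, true), (.d, true), (.v, true), (.c, true)]),
  (5926, [(.e, true), (.v, true), (.t, true), (.v, true), (.t, true), (.t, true), (.d, true)]),
  (5935, [(.v, true), (.v, true), (.t, true), (.e, true), (.t, true), (.d, true)]),
  (5942, [(.d, true), (.v, true), (.c, true), (.t, true), (.v, true)]),
  (5943, [(.v, true), (.d, true), (.c, true), (.d, true), (.v, true), (.v, true)]),
  (5945, [(.d, true), (.v, true), (.t, true), (.v, true), (.v, true), (.c, true)]),
  (5951, [(.e, true), (.t, true), (.v, true), (.c, true), (.t, true), (.d, true)]),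
  (5960, [(.e, true), (.t, true), (.v, true), (.t, true), (.c, true), (.d, true)]),
  (5961, [(.e, true), (.t, true), (.v, true), (.v, true), (.t, true), (.c, true)]),
  (5963, [(.v, true), (.v, true), (.d, true), (.v, true), (.t, true), (.v, true), (.e, true)]),
  (5987, [(.d, true), (.v, true), (.t, true), (.v, true), (.c, true)]),
  (5998, [(.t, true), (.v, true), (.t, true), (.t, true), (.t, true)]),
  (6000, [(.v, true), (.t, true), (.e, true), (.t, true), (.d, true), (.v, true), (.c, true)]),
  (6002, [(.t, true), (.v, true), (.t, true), (.e, true), (.c, true), (.t, true)]),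
  (6004, [(.t, true), (.e, true), (.c, true), (.d, true), (.t, true), (.e, true)]),
  (6019, [(.v, true), (.t, true), (.v, true), (.c, true), (.d, true), (.v, true), (.d, true)]),
  (6022, [(.v, true), (.v, true), (.c, true), (.t, true), (.e, true), (.d, true)]),
  (6023, [(.d, true), (.e, true), (.t, true), (.v, true), (.e, true)]),
  (6025, [(.d, true), (.v, true), (.t, true), (.t, true), (.v, true), (.c, true)]),
  (6031, [(.t, true), (.v, true), (.v, true), (.d, true), (.c, true)]),
  (6034, [(.v, true), (.t, true), (.d, true), (.e, true), (.t, true), (.d, true)]),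
  (6039, [(.d, true), (.t, true), (.t, true), (.e, true)]),
  (6040, [(.t, true), (.e, true), (.t, true), (.c, true), (.d, true)]),
  (6047, [(.t, true), (.e, true), (.t, true), (.v, true)]),
  (6057, [(.c, true), (.d, true), (.e, true), (.v, true), (.t, true)]),
  (6068, [(.d, true), (.v, true), (.d, true), (.v, true), (.t, true)]),
  (6072, [(.e, true), (.v, true), (.t, true), (.v, true), (.t, true), (.v, true)]),
  (6080, [(.d, true), (.t, true), (.v, true), (.t, true), (.e, true), (.t, true)]),
  (6086, [(.t, true), (.t, true), (.v, true), (.d, true), (.v, true)]),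
  (6099, [(.e, true), (.d, true), (.v, true), (.v, true), (.t, true), (.e, true), (.d, true), (.c, true)]),
  (6104, [(.v, true), (.t, true), (.v, true), (.v, true), (.c, true)]),
  (6111, [(.e, true), (.d, true), (.t, true), (.v, true), (.v, true), (.d, true)]),
  (6131, [(.d, true), (.e, true), (.d, true), (.t, true), (.t, true), (.e, true)]),
  (6139, [(.v, true), (.d, true), (.t, true), (.d, true), (.e, true), (.v, true)]),
  (6143, [(.d, true), (.t, true), (.e, true), (.v, true), (.d, true), (.e, true), (.c, true)]),
  (6153, [(.v, true), (.d, true), (.c, true), (.d, true)]),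
  (6159, [(.e, true), (.v, true), (.c, true), (.d, true), (.e, true), (.c, true)]),
  (6167, [(.e, true), (.t, true), (.e, true), (.v, true), (.c, true), (.d, true), (.e, true)]),
  (6185, [(.d, true), (.e, true), (.d, true), (.t, true), (.e, true), (.d, true)]),
  (6196, [(.v, true), (.d, true), (.e, true), (.v, true), (.t, true), (.c, true)]),
  (6199, [(.e, true), (.v, true), (.t, true), (.v, true), (.d, true), (.e, true), (.c, true)]),
  (6218, [(.t, true), (.e, true), (.t, true), (.v, true), (.v, true)]),
  (6247, [(.v, true), (.t, true), (.v, true), (.c, true), (.d, true), (.t, true), (.d, true)]),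
  (6266, [(.t, true), (.v, true), (.t, true), (.d, true), (.v, true), (.v, true)]),
  (6269, [(.d, true), (.e, true), (.t, true), (.d, true), (.v, true), (.t, true)]),
  (6275, [(.t, true), (.c, true), (.d, true), (.e, true), (.d, true), (.c, true)]),
  (6281, [(.t, true), (.v, true), (.c, true), (.d, true), (.v, true), (.t, true)]),
  (6289, [(.d, true), (.v, true), (.v, true), (.e, true), (.d, true)]),
  (6297, [(.c, true), (.d, true), (.e, true), (.d, true), (.v, true), (.c, true), (.d, true)]),
  (6305, [(.v, true), (.t, true), (.c, true), (.d, true), (.e, true), (.d, true), (.c, true)]),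
  (6312, [(.d, true), (.t, true), (.v, true), (.v, true), (.e, true)]),
  (6348, [(.t, true), (.e, true), (.d, true), (.v, true), (.d, true), (.v, true), (.c, true)]),
  (6350, [(.c, true), (.t, true), (.v, true), (.c, true), (.d, true)]),
  (6382, [(.d, true), (.e, true), (.t, true), (.e, true), (.t, true), (.v, true), (.d, true)]),
  (6394, [(.d, true), (.t, true), (.e, true), (.t, true), (.d, true), (.c, true)]),
  (6395, [(.t, true), (.d, true), (.v, true), (.v, true), (.e, true)]),
  (6396, [(.t, true), (.e, true), (.t, true), (.v, true), (.t, true), (.c, true)]),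
  (6400, [(.d, true), (.v, true), (.v, true), (.e, true), (.d, true), (.c, true)]),
  (6411, [(.d, true), (.e, true), (.d, true), (.v, true), (.t, true)]),
  (6416, [(.t, true), (.v, true), (.c, true), (.d, true), (.t, true), (.e, true)]),
  (6438, [(.t, true), (.d, true), (.v, true), (.d, true), (.t, true), (.e, true)]),
  (6444, [(.d, true), (.v, true), (.c, true), (.d, true), (.v, true), (.t, true), (.v, true)]),
  (6457, [(.t, true), (.v, true), (.d, true), (.v, true), (.d, true), (.v, true)]),
  (6474, [(.d, true), (.e, true), (.d, true), (.t, true), (.e, true), (.c, true)]),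
  (6477, [(.e, true), (.t, true), (.e, true), (.d, true), (.t, true)]),
  (6485, [(.v, true), (.t, true), (.e, true)]),
  (6490, [(.t, true), (.d, true), (.v, true), (.t, true), (.e, true)]),
  (6499, [(.e, true), (.t, true), (.c, true), (.d, true), (.e, true), (.d, true), (.c, true)]),
  (6507, [(.c, true), (.t, true), (.d, true), (.v, true)]),
  (6522, [(.v, true), (.t, true), (.v, true), (.c, true), (.d, true), (.v, true)]),
  (6527, [(.e, true), (.d, true), (.v, true), (.t, true), (.e, true), (.v, true), (.c, true)]),
  (6548, [(.t, true), (.d, true), (.e, true), (.t, true), (.t, true), (.e, true)]),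
  (6552, [(.t, true), (.e, true), (.d, true), (.v, true), (.d, true), (.v, true), (.d, true)]),
  (6628, [(.v, true), (.t, true), (.v, true), (.t, true), (.e, true), (.d, true)]),
  (6629, [(.v, true), (.c, true), (.t, true), (.e, true), (.v, true)]),
  (6632, [(.e, true), (.t, true), (.e, true), (.t, true), (.e, true), (.d, true), (.c, true)]),
  (6635, [(.d, true), (.v, true), (.c, true), (.d, true), (.v, true), (.t, true)]),
  (6654, [(.d, true), (.t, true), (.e, true), (.t, true), (.e, true), (.d, true)]),
  (6672, [(.v, true), (.d, true), (.c, true), (.d, true), (.v, true)]),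
  (6679, [(.v, true), (.d, true), (.t, true), (.c, true)]),
  (6699, [(.v, true), (.d, true), (.t, true), (.v, true), (.v, true), (.d, true), (.c, true)]),
  (6705, [(.e, true), (.t, true), (.d, true), (.v, true), (.d, true), (.v, true), (.c, true)]),
  (6715, [(.v, true), (.v, true), (.t, true), (.e, true), (.t, true), (.v, true)]),
  (6747, [(.v, true), (.t, true), (.v, true), (.t, true), (.d, true), (.e, true), (.d, true)]),
  (6801, [(.d, true), (.e, true), (.d, true), (.v, true), (.t, true), (.e, true), (.c, true)]),
  (6824, [(.c, true), (.d, true), (.v, true), (.v, true), (.t, true), (.c, true)]),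
  (6826, [(.d, true), (.e, true), (.t, true), (.e, true), (.v, true), (.t, true), (.c, true)]),
  (6832, [(.d, true), (.e, true), (.t, true), (.e, true), (.t, true), (.v, true)]),
  (6834, [(.v, true), (.t, true), (.d, true), (.e, true), (.d, true), (.c, true), (.d, true)]),
  (6842, [(.t, true), (.e, true), (.v, true), (.t, true), (.v, true), (.d, true), (.c, true)]),
  (6848, [(.c, true), (.d, true), (.v, true), (.t, true), (.v, true)]),
  (6911, [(.d, true), (.e, true), (.t, true), (.e, true), (.t, true), (.c, true)]),
  (6912, [(.v, true), (.e, true), (.v, true), (.c, true), (.d, true), (.c, true)]),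
  (6914, [(.v, true), (.v, true), (.t, true), (.e, true), (.d, true), (.t, true), (.c, true)]),
  (6927, [(.t, true), (.d, true), (.e, true), (.t, true), (.v, true), (.c, true)]),
  (6938, [(.d, true), (.v, true), (.c, true), (.d, true)]),
  (6945, [(.v, true), (.c, true), (.d, true), (.v, true), (.d, true), (.v, true)]),
  (6947, [(.d, true), (.e, true)]),
  (6950, [(.e, true), (.t, true), (.d, true), (.e, true), (.t, true), (.e, true)]),
  (6952, [(.d, true), (.v, true), (.v, true), (.d, true)]),
  (6960, [(.d, true), (.v, true), (.d, true), (.v, true), (.t, true), (.e, true)]),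
  (6988, [(.t, true), (.v, true), (.c, true), (.d, true)]),
  (6990, [(.e, true), (.d, true), (.v, true), (.t, true), (.t, true), (.c, true)]),
  (6996, [(.v, true), (.t, true), (.v, true)]),
  (7000, [(.d, true), (.e, true), (.c, true), (.t, true), (.c, true)]),
  (7012, [(.v, true), (.t, true), (.v, true), (.t, true), (.t, true), (.d, true)]),
  (7028, [(.d, true), (.v, true), (.t, true), (.d, true), (.e, true), (.d, true), (.c, true)]),
  (7033, [(.t, true), (.v, true), (.d, true), (.v, true), (.t, true), (.d, true)]),
  (7034, [(.e, true), (.t, true), (.v, true), (.v, true), (.t, true)]),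
  (7052, [(.t, true), (.v, true), (.t, true), (.d, true), (.e, true), (.d, true), (.c, true)]),
  (7077, [(.v, true), (.t, true), (.v, true), (.v, true), (.d, true), (.c, true)]),
  (7078, [(.e, true), (.v, true), (.d, true), (.t, true), (.c, true)]),
  (7116, [(.c, true), (.t, true), (.v, true), (.d, true), (.v, true), (.c, true)]),
  (7125, [(.e, true), (.t, true), (.e, true), (.v, true), (.t, true), (.c, true)]),
  (7143, [(.c, true), (.d, true), (.v, true), (.d, true), (.t, true), (.c, true)]),
  (7153, [(.t, true), (.v, true), (.v, true), (.e, true)]),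
  (7157, [(.d, true), (.e, true), (.t, true), (.d, true), (.v, true), (.d, true)]),
  (7169, [(.v, true), (.d, true), (.t, true), (.e, true), (.t, true), (.c, true)]),
  (7175, [(.d, true), (.e, true), (.v, true), (.t, true)]),
  (7188, [(.c, true), (.t, true), (.v, true), (.d, true)]),
  (7189, [(.t, true), (.v, true), (.t, true), (.v, true), (.t, true)]),
  (7204, [(.d, true), (.v, true), (.c, true), (.d, true), (.c, true)]),
  (7214, [(.d, true), (.v, true), (.d, true), (.v, true)]),
  (7218, [(.t, true), (.v, true), (.v, true), (.d, true), (.v, true)]),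
  (7221, [(.e, true), (.t, true), (.d, true), (.v, true), (.d, true), (.t, true), (.c, true)]),
  (7253, [(.t, true), (.d, true), (.e, true)]),
  (7289, [(.d, true), (.v, true), (.c, true), (.t, true), (.e, true), (.c, true)]),
  (7296, [(.t, true), (.d, true), (.v, true), (.t, true), (.e, true), (.v, true)]),
  (7297, [(.t, true), (.v, true), (.t, true), (.e, true), (.v, true)]),
  (7298, [(.v, true), (.c, true), (.t, true), (.e, true), (.v, true), (.c, true)]),
  (7306, [(.d, true), (.t, true), (.e, true), (.t, true), (.e, true), (.v, true)]),
  (7316, [(.t, true), (.v, true), (.c, true), (.d, true), (.v, true), (.t, true), (.c, true)]),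
  (7334, [(.d, true), (.v, true), (.t, true), (.v, true), (.c, true), (.t, true), (.e, true)]),
  (7357, [(.d, true), (.v, true), (.v, true), (.c, true)]),
  (7375, [(.d, true), (.t, true), (.v, true), (.d, true), (.v, true), (.e, true)]),
  (7378, [(.d, true), (.t, true), (.v, true), (.t, true), (.v, true), (.v, true), (.d, true)]),
  (7381, [(.d, true), (.e, true), (.c, true), (.t, true), (.e, true), (.c, true)]),
  (7387, [(.t, true), (.t, true), (.v, true), (.t, true), (.e, true), (.d, true), (.v, true)]),
  (7398, [(.e, true), (.c, true), (.d, true), (.v, true), (.t, true), (.e, true)]),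
  (7432, [(.t, true), (.t, true), (.v, true), (.v, true)]),
  (7461, [(.d, true), (.v, true), (.t, true), (.e, true), (.d, true), (.c, true)]),
  (7468, [(.d, true), (.e, true), (.v, true), (.t, true), (.v, true), (.v, true), (.c, true)]),
  (7482, [(.t, true), (.v, true), (.d, true), (.v, true), (.d, true)]),
  (7484, [(.d, true), (.t, true), (.e, true), (.d, true), (.c, true)]),
  (7490, [(.t, true), (.e, true), (.t, true), (.d, true), (.v, true), (.d, true)]),
  (7492, [(.d, true), (.e, true), (.d, true), (.v, true), (.t, true), (.d, true)]),
  (7494, [(.d, true), (.t, true), (.e, true), (.v, true), (.t, true), (.e, true)]),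
  (7539, [(.t, true), (.e, true), (.v, true), (.c, true)]),
  (7551, [(.d, true), (.v, true), (.t, true), (.d, true), (.v, true), (.d, true)]),
  (7556, [(.e, true), (.t, true), (.e, true), (.c, true), (.t, true), (.e, true), (.c, true)]),
  (7563, [(.d, true), (.v, true), (.d, true), (.c, true), (.t, true), (.c, true)]),
  (7573, [(.d, true), (.v, true), (.t, true), (.v, true), (.v, true)]),
  (7584, [(.t, true), (.v, true), (.d, true), (.v, true), (.d, true), (.v, true), (.c, true)]),
  (7591, [(.v, true), (.t, true), (.v, true), (.d, true), (.v, true), (.d, true)]),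
  (7597, [(.v, true), (.t, true), (.d, true), (.v, true), (.t, true), (.e, true), (.v, true)]),
  (7607, [(.e, true), (.d, true), (.v, true), (.t, true), (.v, true), (.v, true), (.c, true)]),
  (7651, [(.v, true), (.t, true), (.e, true), (.v, true), (.e, true), (.c, true)]),
  (7674, [(.v, true), (.v, true), (.t, true), (.e, true), (.t, true), (.t, true), (.c, true)]),
  (7680, [(.t, true), (.e, true), (.v, true), (.t, true), (.v, true), (.v, true), (.e, true)]),
  (7684, [(.v, true), (.t, true), (.v, true), (.d, true), (.e, true), (.v, true), (.d, true)]),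
  (7702, [(.v, true), (.t, true), (.d, true), (.v, true), (.v, true), (.t, true), (.c, true)]),
  (7703, [(.v, true), (.t, true), (.v, true), (.d, true)]),
  (7723, [(.e, true), (.t, true), (.e, true), (.v, true), (.c, true), (.t, true)]),
  (7724, [(.t, true), (.d, true), (.v, true), (.d, true), (.v, true), (.c, true)]),
  (7725, [(.d, true), (.e, true), (.t, true), (.e, true), (.t, true), (.v, true), (.c, true)]),
  (7728, [(.d, true), (.e, true), (.d, true), (.v, true), (.t, true), (.e, true)]),
  (7741, [(.t, true), (.e, true), (.v, true), (.t, true), (.e, true), (.d, true), (.c, true)]),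
  (7742, [(.v, true), (.t, true), (.v, true), (.v, true), (.e, true), (.d, true)]),
  (7774, [(.e, true), (.v, true), (.t, true), (.e, true), (.d, true), (.t, true)]),
  (7799, [(.t, true), (.d, true), (.v, true), (.v, true), (.t, true), (.d, true)]),
  (7805, [(.t, true), (.e, true), (.c, true), (.t, true), (.v, true)]),
  (7813, [(.t, true), (.v, true), (.t, true), (.t, true), (.v, true), (.d, true)]),
  (7814, [(.e, true), (.v, true), (.v, true), (.t, true)]),
  (7830, [(.d, true), (.v, true), (.v, true), (.t, true), (.e, true), (.d, true), (.c, true)]),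
  (7834, [(.d, true), (.v, true), (.v, true), (.e, true)]),
  (7858, [(.d, true), (.t, true), (.e, true), (.t, true), (.e, true)]),
  (7862, [(.e, true), (.d, true), (.v, true), (.t, true), (.v, true), (.t, true)]),
  (7867, [(.t, true), (.e, true), (.t, true), (.v, true), (.d, true), (.v, true)]),
  (7882, [(.d, true), (.e, true), (.c, true), (.t, true), (.e, true), (.c, true), (.d, true)]),
  (7886, [(.v, true), (.c, true), (.t, true), (.v, true)]),
  (7901, [(.t, true), (.c, true), (.d, true)]),
  (7905, [(.c, true), (.t, true), (.e, true), (.v, true)]),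
  (7912, [(.t, true), (.v, true), (.d, true), (.v, true), (.d, true), (.t, true), (.t, true)]),
  (7919, [(.v, true), (.v, true), (.t, true), (.e, true), (.d, true), (.c, true)]),
  (7936, [(.t, true), (.d, true), (.v, true), (.v, true), (.t, true), (.e, true), (.c, true)]),
  (7939, [(.e, true), (.d, true), (.t, true), (.v, true), (.v, true)]),
  (7942, [(.d, true), (.t, true), (.v, true), (.t, true), (.e, true), (.d, true)]),
  (7944, [(.t, true), (.t, true), (.v, true), (.t, true), (.c, true)]),
  (7948, [(.e, true), (.t, true), (.e, true), (.t, true), (.t, true), (.c, true)]),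
  (7949, [(.v, true), (.t, true), (.v, true), (.d, true), (.v, true), (.e, true)]),
  (7982, [(.e, true), (.t, true), (.t, true), (.d, true), (.e, true), (.t, true)]),
  (7983, [(.v, true), (.d, true), (.v, true), (.t, true), (.v, true), (.e, true)]),
  (7991, [(.e, true), (.d, true), (.t, true), (.d, true), (.e, true), (.d, true), (.v, true)]),
  (8014, [(.d, true), (.t, true), (.d, true), (.e, true), (.t, true), (.e, true)]),
  (8021, [(.v, true), (.v, true), (.d, true), (.v, true)]),
  (8073, [(.e, true), (.t, true), (.t, true), (.d, true)]),
  (8080, [(.d, true), (.v, true), (.t, true), (.v, true), (.t, true)]),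
  (8114, [(.c, true), (.d, true), (.v, true), (.d, true), (.c, true), (.d, true)]),
  (8115, [(.e, true), (.t, true), (.v, true), (.c, true), (.t, true), (.c, true)]),
  (8152, [(.c, true), (.d, true), (.v, true), (.v, true), (.t, true)]),
  (8157, [(.e, true), (.d, true), (.v, true), (.v, true), (.t, true), (.c, true)]),
  (8159, [(.t, true), (.e, true), (.t, true), (.d, true), (.e, true)]),
  (8162, [(.v, true), (.d, true), (.c, true), (.t, true), (.c, true)]),
  (8165, [(.v, true), (.t, true), (.e, true), (.c, true), (.d, true), (.t, true)]),
  (8173, [(.v, true), (.t, true), (.c, true), (.d, true), (.e, true)]),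
  (8178, [(.t, true), (.e, true), (.d, true), (.t, true), (.e, true), (.v, true)]),
  (8196, [(.e, true), (.d, true), (.t, true), (.v, true), (.t, true)]),
  (8208, [(.t, true), (.v, true), (.t, true), (.v, true), (.v, true), (.d, true), (.c, true)]),
  (8209, [(.c, true), (.d, true), (.t, true), (.t, true)]),
  (8220, [(.t, true), (.v, true), (.d, true), (.c, true)]),
  (8225, [(.c, true), (.d, true), (.e, true), (.t, true), (.e, true)]),
  (8235, [(.e, true), (.t, true), (.e, true), (.c, true), (.d, true), (.t, true)]),
  (8251, [(.v, true), (.d, true), (.v, true), (.d, true), (.t, true), (.e, true), (.c, true)]),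
  (8259, [(.v, true), (.d, true), (.v, true), (.t, true), (.t, true), (.c, true)]),
  (8267, [(.c, true), (.t, true), (.v, true), (.c, true), (.d, true), (.c, true)]),
  (8272, [(.e, true), (.d, true), (.v, true), (.d, true), (.t, true), (.t, true)]),
  (8276, [(.d, true), (.v, true), (.d, true), (.t, true), (.d, true), (.c, true)]),
  (8286, [(.c, true), (.t, true), (.v, true), (.c, true)]),
  (8289, [(.v, true), (.t, true), (.v, true), (.e, true), (.v, true), (.d, true), (.c, true)]),
  (8292, [(.v, true), (.v, true), (.d, true), (.t, true)]),
  (8300, [(.v, true), (.t, true), (.v, true), (.t, true), (.t, true), (.t, true)]),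
  (8313, [(.v, true), (.d, true), (.v, true), (.v, true), (.t, true), (.e, true)]),
  (8325, [(.t, true), (.e, true), (.v, true), (.d, true), (.e, true), (.t, true)]),
  (8328, [(.c, true), (.t, true), (.e, true), (.d, true), (.t, true)]),
  (8330, [(.e, true), (.t, true), (.v, true), (.t, true), (.d, true), (.c, true)]),
  (8349, [(.v, true), (.t, true), (.e, true), (.v, true), (.e, true), (.d, true)]),
  (8355, [(.d, true), (.v, true), (.t, true), (.v, true), (.t, true), (.t, true), (.c, true)]),
  (8362, [(.e, true), (.t, true), (.d, true), (.v, true), (.t, true), (.e, true), (.c, true)]),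
  (8379, [(.t, true), (.v, true), (.v, true), (.d, true), (.v, true), (.t, true), (.d, true)]),
  (8387, [(.t, true), (.v, true), (.v, true), (.d, true), (.v, true), (.t, true), (.e, true)]),
  (8395, [(.v, true), (.t, true), (.e, true), (.t, true), (.t, true), (.d, true)]),
  (8417, [(.v, true), (.d, true), (.t, true), (.t, true), (.e, true)]),
  (8423, [(.d, true), (.v, true), (.t, true), (.e, true), (.v, true), (.t, true), (.d, true)]),
  (8429, [(.t, true), (.e, true), (.t, true), (.e, true), (.t, true), (.c, true)]),
  (8436, [(.t, true), (.t, true), (.e, true), (.c, true), (.d, true)]),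
  (8441, [(.e, true), (.d, true), (.t, true), (.e, true), (.t, true), (.e, true), (.c, true)]),
  (8456, [(.v, true), (.d, true), (.e, true), (.t, true), (.t, true)]),
  (8474, [(.e, true), (.v, true), (.c, true), (.t, true)]),
  (8475, [(.v, true), (.d, true), (.e, true), (.t, true), (.e, true), (.v, true), (.c, true)]),
  (8492, [(.t, true), (.t, true), (.v, true), (.t, true), (.d, true)]),
  (8497, [(.e, true), (.c, true), (.t, true), (.c, true), (.d, true)]),
  (8512, [(.d, true), (.e, true), (.t, true), (.d, true), (.c, true)]),
  (8524, [(.v, true), (.t, true), (.v, true), (.c, true), (.t, true), (.e, true), (.d, true), (.c, true)]),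
  (8525, [(.v, true), (.v, true), (.d, true), (.t, true), (.c, true)]),
  (8528, [(.t, true), (.v, true), (.v, true), (.e, true), (.d, true)]),
  (8546, [(.t, true), (.d, true), (.v, true), (.d, true), (.v, true)]),
  (8550, [(.v, true), (.t, true), (.v, true), (.t, true), (.d, true), (.e, true)]),
  (8561, [(.v, true), (.v, true), (.t, true), (.c, true)]),
  (8564, [(.d, true), (.e, true), (.t, true), (.e, true), (.v, true), (.d, true)]),
  (8568, [(.v, true), (.t, true), (.c, true), (.d, true)]),
  (8581, [(.v, true), (.c, true), (.d, true), (.t, true), (.v, true)]),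
  (8586, [(.c, true), (.d, true), (.v, true), (.t, true), (.d, true), (.v, true)]),
  (8587, [(.v, true), (.t, true), (.t, true), (.d, true)]),
  (8601, [(.d, true), (.e, true), (.d, true), (.t, true), (.c, true)]),
  (8613, [(.e, true), (.d, true), (.v, true), (.t, true), (.e, true), (.d, true)]),
  (8614, [(.t, true), (.t, true), (.v, true), (.t, true), (.v, true)]),
  (8616, [(.e, true), (.t, true), (.e, true), (.t, true), (.t, true), (.d, true)]),
  (8617, [(.v, true), (.v, true), (.d, true), (.t, true), (.v, true), (.d, true)]),
  (8639, [(.t, true), (.e, true), (.v, true), (.t, true), (.c, true), (.d, true)]),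
  (8640, [(.v, true), (.v, true), (.d, true), (.v, true), (.c, true)]),
  (8643, [(.e, true), (.v, true), (.d, true), (.t, true), (.d, true), (.c, true)]),
  (8660, [(.t, true), (.e, true), (.v, true), (.t, true), (.e, true), (.d, true)]),
  (8671, [(.e, true), (.c, true), (.t, true), (.e, true), (.v, true), (.d, true)]),
  (8684, [(.d, true), (.t, true), (.e, true), (.v, true), (.d, true), (.c, true)]),
  (8691, [(.t, true), (.e, true), (.c, true), (.t, true), (.c, true)]),
  (8704, [(.t, true), (.e, true), (.t, true), (.e, true), (.d, true), (.c, true)]),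
  (8718, [(.d, true), (.e, true), (.t, true), (.e, true), (.t, true), (.t, true)]),
  (8734, [(.v, true), (.c, true), (.t, true), (.e, true), (.d, true), (.v, true), (.c, true)]),
  (8735, [(.e, true), (.d, true), (.v, true), (.t, true), (.e, true), (.c, true)]),
  (8736, [(.e, true), (.v, true), (.d, true), (.t, true), (.v, true), (.t, true)]),
  (8740, [(.e, true), (.d, true), (.v, true), (.t, true), (.v, true)]),
  (8742, [(.e, true), (.v, true), (.t, true), (.v, true), (.t, true), (.d, true), (.c, true)]),
  (8749, [(.v, true), (.t, true), (.e, true), (.d, true), (.c, true)]),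
  (8752, [(.d, true), (.t, true), (.v, true), (.d, true), (.c, true)]),
  (8759, [(.e, true), (.v, true), (.t, true), (.c, true), (.d, true)]),
  (8768, [(.e, true), (.t, true), (.e, true), (.t, true), (.v, true)]),
  (8791, [(.c, true), (.d, true), (.e, true), (.t, true), (.d, true), (.v, true), (.d, true), (.c, true)]),
  (8808, [(.t, true), (.v, true), (.c, true), (.t, true), (.d, true)]),
  (8813, [(.e, true), (.d, true), (.v, true), (.t, true), (.c, true)]),
  (8848, [(.c, true), (.t, true), (.d, true), (.v, true), (.v, true)]),
  (8857, [(.e, true), (.t, true), (.e, true), (.v, true), (.d, true), (.c, true)]),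
  (8870, [(.e, true), (.d, true), (.v, true), (.c, true), (.d, true), (.c, true)]),
  (8887, [(.t, true), (.v, true), (.c, true), (.d, true), (.t, true)]),
  (8894, [(.d, true), (.v, true), (.c, true), (.t, true), (.e, true), (.d, true), (.c, true)]),
  (8898, [(.t, true), (.t, true), (.d, true)]),
  (8925, [(.v, true), (.c, true), (.t, true), (.v, true), (.d, true), (.v, true), (.d, true)]),
  (8973, [(.c, true), (.d, true), (.e, true), (.t, true), (.v, true)]),
  (8974, [(.t, true), (.v, true), (.t, true), (.e, true), (.d, true), (.c, true)]),
  (8977, [(.d, true), (.v, true), (.t, true), (.e, true), (.t, true), (.t, true), (.c, true)]),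
  (8981, [(.t, true), (.t, true), (.v, true), (.c, true)]),
  (8984, [(.v, true), (.t, true), (.t, true), (.e, true)]),
  (8996, [(.d, true), (.v, true), (.d, true), (.v, true), (.t, true), (.e, true), (.c, true)]),
  (9004, [(.t, true), (.d, true), (.v, true), (.t, true), (.e, true), (.v, true), (.d, true)]),
  (9031, [(.t, true), (.d, true), (.v, true), (.v, true), (.e, true), (.d, true)]),
  (9040, [(.c, true), (.t, true), (.e, true), (.d, true), (.v, true), (.c, true)]),
  (9052, [(.d, true), (.e, true), (.t, true), (.e, true), (.v, true), (.e, true)]),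
  (9058, [(.e, true), (.t, true), (.e, true), (.d, true), (.t, true), (.t, true)]),
  (9062, [(.e, true), (.v, true), (.t, true), (.d, true), (.e, true), (.d, true), (.c, true)]),
  (9065, [(.t, true), (.v, true), (.d, true), (.v, true), (.t, true), (.c, true)]),
  (9066, [(.e, true), (.t, true), (.t, true), (.c, true)]),
  (9074, [(.v, true), (.t, true), (.v, true), (.e, true), (.v, true), (.c, true)]),
  (9079, [(.e, true), (.v, true), (.c, true), (.t, true), (.e, true), (.d, true)]),
  (9084, [(.e, true), (.d, true), (.v, true), (.t, true), (.e, true), (.d, true), (.c, true)]),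
  (9101, [(.e, true), (.t, true), (.v, true), (.t, true), (.c, true)]),
  (9104, [(.d, true), (.v, true), (.t, true), (.d, true), (.v, true), (.d, true), (.c, true)]),
  (9122, [(.c, true), (.d, true), (.e, true), (.t, true), (.e, true), (.d, true)]),
  (9137, [(.c, true), (.d, true), (.v, true), (.d, true), (.t, true), (.e, true)]),
  (9139, [(.e, true), (.t, true), (.c, true), (.d, true)]),
  (9148, [(.v, true), (.t, true), (.v, true), (.d, true), (.e, true), (.c, true)]),
  (9155, [(.t, true), (.e, true), (.d, true), (.v, true), (.d, true), (.c, true)]),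
  (9157, [(.t, true), (.e, true), (.t, true), (.v, true), (.v, true), (.d, true)]),
  (9168, [(.t, true), (.v, true), (.d, true), (.v, true), (.d, true), (.t, true), (.c, true)]),
  (9196, [(.t, true), (.v, true), (.d, true), (.v, true), (.d, true), (.v, true), (.d, true)]),
  (9210, [(.d, true), (.t, true), (.e, true), (.d, true), (.v, true), (.c, true), (.d, true)]),
  (9220, [(.d, true), (.v, true), (.t, true), (.d, true), (.e, true), (.t, true), (.d, true)]),
  (9227, [(.v, true), (.c, true), (.d, true), (.v, true), (.t, true), (.e, true)]),
  (9235, [(.c, true), (.t, true), (.c, true)]),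
  (9237, [(.v, true), (.c, true), (.d, true), (.e, true), (.t, true), (.e, true)]),
  (9239, [(.v, true), (.v, true), (.e, true), (.v, true)]),
  (9240, [(.e, true), (.c, true)]),
  (9247, [(.v, true), (.c, true), (.d, true), (.t, true), (.d, true)]),
  (9257, [(.t, true), (.d, true), (.v, true), (.d, true), (.v, true), (.c, true), (.d, true)]),
  (9272, [(.t, true), (.t, true), (.v, true), (.t, true), (.v, true), (.c, true)]),
  (9296, [(.v, true), (.v, true), (.d, true), (.v, true), (.t, true), (.t, true), (.d, true)]),
  (9310, [(.t, true), (.v, true)]),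
  (9316, [(.v, true), (.c, true), (.t, true), (.c, true)]),
  (9318, [(.c, true), (.d, true), (.e, true), (.t, true), (.e, true), (.v, true)]),
  (9323, [(.v, true), (.t, true), (.e, true), (.c, true), (.t, true)]),
  (9327, [(.e, true), (.d, true), (.t, true), (.e, true), (.t, true), (.c, true)]),
  (9340, [(.v, true), (.d, true), (.v, true), (.c, true), (.d, true)]),
  (9344, [(.e, true), (.t, true), (.d, true), (.v, true), (.v, true), (.t, true)]),
  (9353, [(.e, true), (.d, true), (.v, true), (.v, true)]),
  (9354, [(.t, true), (.t, true), (.v, true), (.t, true), (.d, true), (.c, true)]),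
  (9360, [(.v, true), (.d, true), (.e, true), (.t, true), (.v, true), (.v, true)]),
  (9379, [(.e, true), (.v, true), (.t, true), (.v, true), (.c, true)]),
  (9386, [(.c, true), (.t, true), (.d, true), (.v, true), (.d, true)]),
  (9387, [(.d, true), (.e, true), (.t, true), (.e, true), (.t, true)]),
  (9389, [(.v, true), (.d, true), (.e, true), (.t, true), (.d, true), (.e, true), (.d, true)]),
  (9406, [(.e, true), (.t, true), (.v, true), (.d, true), (.v, true), (.c, true)]),
  (9423, [(.v, true), (.d, true), (.e, true), (.v, true), (.t, true), (.e, true), (.d, true)]),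
  (9448, [(.v, true), (.c, true), (.d, true), (.t, true)]),
  (9453, [(.e, true), (.c, true), (.d, true), (.v, true), (.v, true)]),
  (9466, [(.c, true), (.d, true), (.v, true), (.d, true)]),
  (9478, [(.d, true), (.e, true), (.c, true), (.d, true), (.c, true)]),
  (9497, [(.t, true), (.v, true), (.c, true)]),
  (9505, [(.c, true), (.t, true), (.e, true), (.d, true)]),
  (9508, [(.t, true), (.e, true), (.t, true), (.c, true), (.d, true), (.e, true)]),
  (9519, [(.e, true), (.t, true), (.e, true), (.v, true), (.c, true), (.t, true), (.d, true)]),
  (9525, [(.t, true), (.v, true), (.t, true), (.v, true)]),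
  (9534, [(.d, true), (.e, true), (.c, true), (.d, true), (.v, true), (.t, true)]),
  (9544, [(.e, true), (.v, true), (.t, true), (.e, true), (.d, true), (.t, true), (.c, true)]),
  (9548, [(.d, true), (.e, true), (.d, true), (.t, true), (.d, true), (.e, true), (.d, true), (.c, true)]),
  (9558, [(.t, true), (.v, true), (.v, true), (.t, true), (.d, true)]),
  (9562, [(.e, true), (.v, true), (.d, true), (.e, true), (.t, true), (.c, true)]),
  (9569, [(.v, true), (.t, true), (.v, true), (.t, true), (.v, true), (.e, true)]),
  (9573, [(.e, true), (.v, true), (.d, true), (.e, true), (.c, true), (.t, true)]),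
  (9579, [(.e, true), (.d, true), (.t, true), (.e, true), (.v, true), (.d, true)]),
  (9588, [(.c, true), (.d, true), (.e, true), (.t, true), (.e, true), (.d, true), (.c, true)]),
  (9597, [(.t, true), (.e, true), (.v, true), (.d, true), (.e, true), (.c, true)]),
  (9610, [(.e, true), (.t, true), (.v, true), (.v, true), (.e, true), (.c, true)]),
  (9621, [(.t, true), (.v, true), (.t, true), (.t, true), (.d, true), (.e, true), (.t, true)]),
  (9626, [(.t, true), (.e, true), (.v, true), (.d, true), (.e, true)]),
  (9638, [(.d, true), (.v, true), (.t, true), (.d, true), (.c, true)]),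
  (9642, [(.c, true), (.d, true), (.c, true)]),
  (9647, [(.c, true), (.d, true), (.v, true), (.t, true), (.t, true), (.e, true)]),
  (9672, [(.d, true), (.t, true), (.e, true), (.d, true), (.v, true)]),
  (9673, [(.d, true), (.e, true), (.t, true), (.t, true), (.c, true)]),
  (9677, [(.v, true), (.d, true), (.v, true), (.c, true)]),
  (9690, [(.d, true), (.v, true), (.t, true), (.e, true), (.d, true), (.t, true), (.c, true)]),
  (9707, [(.t, true), (.e, true), (.t, true), (.d, true), (.v, true), (.c, true)]),
  (9711, [(.v, true), (.d, true), (.t, true), (.v, true), (.d, true)]),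
  (9721, [(.v, true), (.d, true), (.t, true), (.v, true), (.t, true), (.e, true)]),
  (9723, [(.v, true), (.d, true), (.v, true), (.d, true), (.c, true), (.t, true)]),
  (9726, [(.e, true), (.d, true), (.v, true), (.d, true)]),
  (9732, [(.c, true), (.d, true), (.e, true), (.d, true), (.v, true), (.t, true)]),
  (9790, [(.v, true), (.t, true), (.e, true), (.v, true), (.d, true), (.c, true)]),
  (9795, [(.c, true), (.d, true), (.v, true), (.v, true)]),
  (9812, [(.v, true), (.t, true), (.e, true), (.t, true), (.v, true), (.c, true)]),
  (9815, [(.t, true), (.v, true), (.v, true), (.d, true), (.v, true), (.t, true)]),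
  (9817, [(.e, true), (.t, true), (.c, true)]),
  (9821, [(.t, true), (.e, true), (.d, true), (.v, true), (.t, true), (.d, true)]),
  (9831, [(.e, true), (.t, true), (.e, true), (.c, true), (.t, true)]),
  (9835, [(.t, true), (.v, true), (.t, true), (.e, true), (.v, true), (.c, true)]),
  (9849, [(.v, true), (.v, true), (.c, true), (.t, true)]),
  (9850, [(.v, true), (.c, true), (.t, true), (.v, true), (.d, true), (.v, true), (.c, true)]),
  (9852, [(.v, true), (.d, true), (.v, true), (.d, true), (.t, true), (.e, true), (.d, true)]),
  (9862, [(.v, true), (.t, true), (.v, true), (.c, true), (.d, true), (.c, true)]),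
  (9868, [(.v, true), (.c, true), (.d, true), (.t, true), (.e, true)]),
  (9880, [(.t, true), (.t, true), (.e, true), (.d, true)]),
  (9884, [(.d, true), (.e, true), (.v, true), (.c, true), (.d, true), (.e, true)]),
  (9887, [(.v, true), (.v, true), (.e, true), (.v, true), (.t, true), (.c, true)]),
  (9888, [(.v, true), (.d, true), (.v, true), (.t, true), (.e, true), (.v, true), (.c, true)]),
  (9890, [(.v, true), (.c, true), (.d, true), (.c, true)]),
  (9892, [(.v, true), (.t, true), (.e, true), (.v, true), (.e, true)]),
  (9899, [(.t, true), (.v, true), (.d, true), (.e, true), (.v, true), (.c, true)]),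
  (9907, [(.d, true), (.v, true), (.t, true), (.e, true), (.c, true), (.d, true), (.c, true)]),
  (9914, [(.v, true), (.d, true), (.v, true), (.t, true), (.t, true)]),
  (9921, [(.t, true), (.v, true), (.d, true), (.e, true)]),
  (9947, [(.t, true), (.t, true), (.d, true), (.e, true), (.d, true)]),
  (9948, [(.d, true), (.e, true), (.v, true), (.t, true), (.v, true), (.c, true)]),
  (9958, [(.t, true), (.e, true), (.t, true), (.d, true), (.c, true)]),
  (9960, [(.t, true), (.d, true), (.c, true), (.t, true), (.c, true)]),
  (9962, [(.e, true), (.v, true), (.c, true), (.d, true)]),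
  (9968, [(.d, true), (.v, true), (.c, true), (.d, true), (.t, true), (.d, true)]),
  (9976, [(.v, true), (.t, true), (.v, true), (.t, true)]),
  (9980, [(.d, true), (.c, true), (.d, true), (.v, true), (.v, true), (.d, true)]),
  (9982, [(.e, true), (.t, true), (.d, true), (.e, true), (.d, true), (.v, true)]),
  (9990, [(.v, true), (.t, true), (.t, true), (.e, true), (.c, true)]),
  (9994, [(.d, true), (.e, true), (.t, true), (.v, true), (.t, true), (.c, true)]),
  (9997, [(.d, true), (.e, true), (.t, true), (.v, true), (.v, true)]),
  (10020, [(.t, true), (.v, true), (.t, true), (.v, true), (.v, true), (.d, true)]),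
  (10023, [(.e, true), (.d, true), (.t, true), (.e, true), (.t, true)]),
  (10029, [(.v, true), (.t, true), (.e, true), (.t, true), (.d, true), (.e, true)]),
  (10035, [(.e, true), (.d, true), (.t, true), (.e, true), (.d, true), (.c, true)]),
  (10037, [(.e, true), (.d, true), (.t, true), (.d, true), (.e, true)]),
  (10042, [(.d, true), (.t, true), (.v, true), (.c, true), (.t, true), (.e, true)]),
  (10050, [(.d, true), (.t, true), (.d, true), (.c, true)]),
  (10060, [(.v, true), (.e, true), (.v, true), (.d, true), (.t, true)]),
  (10077, [(.v, true), (.c, true), (.d, true), (.v, true), (.t, true), (.v, true)]),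
  (10082, [(.v, true), (.t, true), (.d, true), (.e, true), (.d, true), (.t, true), (.c, true)]),
  (10083, [(.c, true), (.t, true), (.v, true), (.d, true), (.v, true), (.d, true), (.v, true)]),
  (10112, [(.v, true), (.t, true), (.v, true), (.d, true), (.t, true), (.e, true), (.c, true)]),
  (10138, [(.e, true), (.t, true), (.e, true), (.v, true), (.t, true), (.c, true), (.d, true)]),
  (10144, [(.v, true), (.e, true), (.v, true), (.t, true), (.v, true)]),
  (10147, [(.e, true), (.d, true), (.v, true), (.t, true), (.d, true), (.v, true)]),
  (10171, [(.v, true), (.v, true), (.d, true), (.t, true), (.v, true), (.c, true)]),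
  (10174, [(.d, true), (.v, true), (.t, true), (.d, true)]),
  (10175, [(.e, true), (.c, true), (.t, true), (.v, true), (.v, true), (.d, true), (.c, true)]),
  (10185, [(.d, true), (.t, true), (.t, true), (.d, true)]),
  (10197, [(.v, true), (.t, true), (.v, true), (.t, true), (.c, true), (.d, true)]),
  (10203, [(.d, true), (.e, true), (.t, true), (.d, true), (.v, true), (.v, true)]),
  (10228, [(.e, true), (.d, true), (.v, true), (.c, true), (.t, true), (.c, true)]),
  (10237, [(.e, true), (.v, true), (.t, true), (.v, true), (.c, true), (.d, true)]),
  (10246, [(.v, true), (.d, true), (.t, true), (.e, true), (.t, true), (.d, true)]),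
  (10252, [(.t, true), (.v, true), (.d, true), (.v, true), (.v, true), (.c, true)]),
  (10256, [(.v, true), (.v, true), (.t, true), (.d, true)]),
  (10260, [(.t, true), (.e, true), (.d, true), (.v, true), (.c, true)]),
  (10266, [(.d, true), (.e, true), (.t, true), (.v, true), (.t, true)]),
  (10273, [(.v, true), (.t, true), (.d, true), (.v, true), (.t, true)]),
  (10277, [(.t, true), (.v, true), (.d, true), (.v, true), (.e, true)]),
  (10280, [(.t, true), (.c, true), (.d, true), (.t, true), (.d, true)]),
  (10284, [(.t, true), (.d, true), (.e, true), (.t, true), (.c, true)]),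
  (10292, [(.t, true), (.e, true), (.t, true), (.t, true), (.d, true), (.e, true), (.t, true)]),
  (10297, [(.d, true), (.v, true), (.c, true), (.d, true), (.v, true), (.t, true), (.d, true)]),
  (10311, [(.v, true), (.t, true), (.d, true), (.e, true), (.t, true)]),
  (10314, [(.v, true), (.d, true), (.v, true), (.t, true), (.v, true), (.v, true)]),
  (10339, [(.v, true), (.c, true), (.t, true), (.e, true), (.c, true), (.d, true)]),
  (10348, [(.t, true), (.v, true), (.t, true)]),
  (10353, [(.d, true), (.v, true), (.t, true), (.e, true), (.t, true), (.v, true), (.e, true)]),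
  (10360, [(.t, true), (.e, true), (.t, true), (.c, true)]),
  (10366, [(.e, true), (.v, true), (.c, true), (.t, true), (.e, true), (.c, true)]),
  (10369, [(.d, true), (.e, true), (.v, true), (.t, true), (.v, true), (.t, true), (.t, true), (.c, true)]),
  (10375, [(.c, true), (.d, true), (.t, true), (.v, true), (.d, true), (.v, true)]),
  (10380, [(.v, true), (.e, true)]),
  (10390, [(.e, true), (.v, true), (.c, true), (.t, true), (.e, true)]),
  (10423, [(.t, true), (.v, true), (.d, true), (.e, true), (.v, true)]),
  (10428, [(.c, true), (.t, true), (.e, true), (.c, true)]),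
  (10463, [(.v, true), (.v, true), (.d, true), (.t, true), (.v, true)]),
  (10477, [(.c, true), (.t, true), (.v, true)]),
  (10511, [(.e, true), (.v, true), (.v, true), (.c, true)]),
  (10522, [(.t, true), (.v, true), (.d, true), (.v, true), (.c, true), (.d, true), (.c, true)]),
  (10545, [(.e, true), (.t, true), (.v, true), (.v, true), (.t, true), (.d, true)]),
  (10548, [(.d, true), (.t, true), (.v, true), (.v, true)]),
  (10558, [(.v, true), (.t, true), (.v, true), (.v, true)]),
  (10566, [(.d, true), (.t, true), (.v, true), (.v, true), (.t, true), (.e, true), (.d, true)]),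
  (10575, [(.t, true), (.v, true), (.t, true), (.c, true)]),
  (10602, [(.e, true), (.v, true), (.c, true), (.t, true), (.v, true), (.v, true)]),
  (10636, [(.t, true), (.e, true), (.d, true), (.t, true), (.t, true), (.e, true)]),
  (10642, [(.c, true), (.d, true), (.v, true), (.t, true), (.e, true), (.c, true), (.d, true)]),
  (10657, [(.t, true), (.v, true), (.e, true), (.v, true)]),
  (10660, [(.d, true), (.t, true), (.v, true), (.d, true), (.v, true), (.c, true)]),
  (10663, [(.v, true), (.t, true), (.e, true), (.t, true), (.v, true), (.e, true)]),
  (10676, [(.d, true), (.t, true), (.v, true), (.c, true), (.t, true), (.d, true)]),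
  (10726, [(.v, true), (.c, true), (.d, true), (.t, true), (.e, true), (.d, true)]),
  (10727, [(.v, true), (.t, true), (.e, true), (.t, true), (.v, true), (.v, true)]),
  (10728, [(.t, true), (.e, true), (.d, true), (.v, true), (.d, true), (.t, true)]),
  (10759, [(.t, true), (.t, true), (.e, true), (.c, true)]),
  (10778, [(.d, true), (.t, true), (.v, true), (.c, true), (.t, true)]),
  (10787, [(.d, true), (.t, true), (.e, true), (.t, true), (.v, true)]),
  (10818, [(.c, true), (.d, true), (.v, true), (.d, true), (.v, true), (.d, true)]),
  (10819, [(.t, true), (.e, true), (.v, true), (.e, true), (.d, true)]),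
  (10820, [(.e, true), (.c, true), (.t, true), (.e, true), (.c, true)]),
  (10831, [(.e, true), (.t, true), (.v, true), (.d, true), (.v, true)]),
  (10861, [(.t, true), (.e, true), (.d, true), (.v, true), (.d, true), (.t, true), (.c, true)]),
  (10862, [(.e, true), (.t, true), (.d, true), (.e, true), (.t, true), (.d, true), (.c, true)]),
  (10867, [(.d, true), (.v, true), (.t, true), (.v, true), (.d, true)]),
  (10913, [(.e, true), (.t, true), (.d, true), (.e, true), (.d, true), (.c, true)]),
  (10923, [(.t, true), (.d, true), (.v, true), (.t, true), (.c, true)]),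
  (10941, [(.v, true), (.d, true), (.v, true), (.c, true), (.t, true), (.d, true)]),
  (10950, [(.v, true), (.t, true), (.v, true), (.c, true), (.t, true), (.d, true)]),
  (10974, [(.d, true), (.t, true), (.d, true), (.e, true), (.d, true), (.c, true)]),
  (10987, [(.d, true), (.e, true), (.t, true), (.e, true), (.v, true)]),
  (10992, [(.c, true), (.d, true), (.t, true), (.v, true), (.d, true)]),
  (11001, [(.d, true), (.v, true), (.t, true), (.v, true), (.t, true), (.e, true), (.t, true)]),
  (11006, [(.v, true), (.c, true), (.d, true), (.t, true), (.t, true), (.e, true)]),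
  (11009, [(.c, true), (.t, true), (.e, true), (.v, true), (.d, true), (.c, true)]),
  (11022, [(.t, true), (.e, true), (.v, true), (.t, true), (.d, true)]),
  (11024, [(.t, true), (.v, true), (.t, true), (.d, true), (.v, true), (.c, true)]),
  (11025, [(.v, true), (.d, true), (.v, true), (.v, true)]),
  (11030, [(.t, true), (.e, true), (.t, true), (.v, true), (.t, true), (.d, true), (.c, true)]),
  (11032, [(.v, true), (.d, true), (.v, true), (.v, true), (.d, true), (.c, true)]),
  (11033, [(.v, true), (.d, true), (.v, true), (.t, true), (.v, true), (.e, true), (.c, true)]),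
  (11039, [(.d, true), (.e, true), (.d, true), (.c, true), (.t, true)]),
  (11054, [(.e, true), (.v, true), (.t, true), (.v, true), (.v, true), (.e, true)]),
  (11061, [(.v, true), (.d, true), (.e, true), (.d, true)]),
  (11063, [(.t, true), (.e, true), (.t, true), (.v, true), (.t, true), (.d, true)]),
  (11066, [(.v, true), (.v, true), (.d, true), (.v, true), (.v, true), (.c, true)]),
  (11084, [(.v, true), (.v, true), (.t, true), (.e, true), (.d, true), (.t, true), (.e, true)]),
  (11085, [(.t, true), (.e, true), (.c, true), (.d, true), (.t, true), (.v, true)]),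
  (11096, [(.v, true), (.v, true), (.e, true), (.c, true)]),
  (11106, [(.e, true)]),
  (11112, [(.d, true), (.v, true), (.c, true), (.t, true)]),
  (11119, [(.v, true), (.c, true), (.d, true), (.v, true), (.d, true)]),
  (11125, [(.d, true), (.t, true), (.v, true), (.t, true), (.e, true), (.d, true), (.c, true)]),
  (11128, [(.t, true), (.e, true), (.d, true), (.t, true), (.e, true), (.d, true), (.c, true)]),
  (11129, [(.d, true), (.t, true), (.v, true), (.c, true), (.t, true), (.e, true), (.d, true), (.c, true)]),
  (11132, [(.t, true), (.e, true), (.t, true), (.e, true), (.v, true), (.c, true)]),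
  (11151, [(.e, true), (.v, true), (.t, true), (.d, true), (.e, true)]),
  (11154, [(.d, true), (.v, true), (.t, true), (.t, true), (.e, true)]),
  (11164, [(.d, true), (.e, true), (.v, true), (.t, true), (.v, true), (.t, true), (.t, true)]),
  (11169, [(.v, true), (.d, true), (.e, true), (.c, true)]),
  (11176, [(.d, true), (.e, true), (.v, true), (.t, true), (.v, true), (.v, true)]),
  (11182, [(.d, true), (.v, true), (.v, true)]),
  (11196, [(.t, true), (.e, true), (.c, true), (.t, true)]),
  (11201, [(.d, true), (.e, true), (.c, true), (.d, true)]),
  (11211, [(.d, true), (.v, true), (.c, true), (.d, true), (.t, true)]),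
  (11216, [(.v, true), (.d, true), (.e, true), (.c, true), (.d, true), (.c, true)]),
  (11251, [(.t, true), (.e, true), (.d, true), (.t, true), (.d, true)]),
  (11279, [(.d, true), (.e, true), (.t, true), (.v, true), (.v, true), (.c, true)]),
  (11287, [(.c, true), (.d, true), (.v, true), (.t, true), (.t, true), (.t, true)]),
  (11290, [(.t, true), (.v, true), (.c, true), (.t, true), (.c, true)]),
  (11366, [(.v, true), (.t, true), (.e, true), (.v, true), (.t, true), (.d, true)]),
  (11375, [(.e, true), (.t, true), (.t, true), (.e, true), (.d, true), (.c, true)]),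
  (11397, [(.t, true), (.v, true), (.d, true), (.e, true), (.v, true), (.d, true)]),
  (11404, [(.e, true), (.d, true), (.t, true), (.e, true), (.t, true), (.d, true)]),
  (11408, [(.v, true), (.t, true), (.e, true), (.v, true), (.c, true), (.t, true)]),
  (11416, [(.e, true), (.v, true), (.d, true), (.t, true), (.v, true)]),
  (11423, [(.d, true), (.t, true), (.e, true), (.v, true), (.d, true)]),
  (11439, [(.v, true), (.e, true), (.v, true), (.d, true), (.t, true), (.c, true)]),
  (11465, [(.c, true), (.t, true)]),
  (11475, [(.t, true), (.t, true), (.v, true), (.t, true)]),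
  (11513, [(.v, true), (.v, true), (.d, true), (.v, true), (.t, true), (.e, true), (.d, true)]),
  (11538, [(.d, true), (.v, true), (.c, true), (.d, true), (.v, true), (.d, true)]),
  (11554, [(.t, true), (.v, true), (.e, true), (.v, true), (.d, true)]),
  (11563, [(.e, true), (.v, true), (.t, true), (.e, true), (.d, true), (.c, true)]),
  (11569, [(.t, true), (.c, true), (.d, true), (.e, true), (.d, true)]),
  (11582, [(.v, true), (.t, true), (.v, true), (.t, true), (.d, true), (.v, true)]),
  (11594, [(.d, true), (.e, true), (.v, true), (.t, true), (.v, true), (.t, true)]),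
  (11603, [(.v, true), (.t, true), (.v, true), (.d, true), (.v, true), (.d, true), (.c, true)]),
  (11640, [(.d, true), (.e, true), (.t, true)]),
  (11695, [(.v, true), (.d, true), (.c, true), (.d, true), (.v, true), (.v, true), (.d, true)]),
  (11705, [(.d, true), (.e, true), (.t, true), (.e, true), (.d, true), (.t, true)]),
  (11751, [(.d, true), (.e, true), (.c, true), (.d, true), (.v, true), (.t, true), (.v, true)]),
  (11754, [(.e, true), (.v, true), (.t, true), (.e, true), (.d, true)]),
  (11761, [(.c, true), (.d, true), (.e, true), (.c, true), (.t, true), (.e, true)]),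
  (11763, [(.e, true), (.t, true), (.e, true), (.d, true), (.c, true)]),
  (11796, [(.c, true), (.d, true), (.v, true), (.t, true), (.e, true), (.d, true), (.c, true)]),
  (11804, [(.t, true), (.d, true), (.e, true), (.t, true), (.t, true)]),
  (11806, [(.d, true), (.t, true), (.e, true), (.t, true), (.v, true), (.t, true)]),
  (11810, [(.d, true), (.e, true), (.v, true), (.t, true), (.v, true), (.t, true), (.d, true)]),
  (11815, [(.e, true), (.t, true), (.d, true), (.c, true), (.t, true)]),
  (11829, [(.t, true), (.e, true), (.d, true), (.v, true), (.t, true)]),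
  (11853, [(.t, true), (.d, true), (.e, true), (.v, true), (.t, true)]),
  (11866, [(.e, true), (.t, true), (.v, true), (.d, true)]),
  (11872, [(.v, true), (.t, true), (.e, true), (.v, true), (.t, true), (.e, true)]),
  (11875, [(.v, true), (.v, true), (.t, true), (.e, true), (.d, true), (.t, true)]),
  (11893, [(.t, true), (.d, true), (.e, true), (.v, true)]),
  (11894, [(.t, true), (.e, true), (.c, true)]),
  (11905, [(.d, true), (.v, true), (.d, true), (.t, true), (.e, true), (.d, true)]),
  (11922, [(.c, true), (.t, true), (.e, true), (.d, true), (.c, true)]),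
  (11924, [(.e, true), (.t, true), (.e, true), (.v, true), (.t, true), (.e, true)]),
  (11931, [(.t, true), (.e, true), (.t, true), (.v, true), (.d, true), (.t, true)]),
  (11982, [(.e, true), (.v, true), (.c, true), (.t, true), (.v, true), (.d, true), (.c, true)]),
  (11996, [(.v, true), (.d, true), (.v, true), (.t, true), (.e, true), (.c, true)]),
  (12014, [(.t, true), (.e, true), (.d, true)]),
  (12022, [(.v, true), (.t, true), (.v, true), (.v, true), (.t, true), (.d, true)]),
  (12036, [(.t, true), (.v, true), (.t, true), (.v, true), (.t, true), (.d, true)]),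
  (12046, [(.v, true), (.d, true), (.e, true), (.t, true), (.v, true)]),
  (12051, [(.t, true), (.v, true), (.t, true), (.v, true), (.t, true), (.c, true)]),
  (12053, [(.d, true), (.e, true), (.v, true), (.d, true), (.c, true)]),
  (12069, [(.v, true), (.d, true), (.t, true), (.e, true), (.v, true), (.d, true)]),
  (12071, [(.e, true), (.d, true), (.t, true), (.e, true), (.t, true), (.c, true), (.d, true)]),
  (12076, [(.e, true), (.d, true), (.v, true), (.t, true), (.e, true), (.v, true)]),
  (12080, [(.e, true), (.v, true), (.d, true), (.e, true), (.t, true)]),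
  (12095, [(.d, true), (.v, true), (.c, true), (.t, true), (.v, true), (.v, true)]),
  (12099, [(.v, true), (.t, true), (.v, true), (.t, true), (.e, true), (.v, true), (.e, true)]),
  (12155, [(.v, true), (.t, true), (.e, true), (.c, true), (.d, true)]),
  (12178, [(.t, true), (.v, true), (.d, true), (.v, true), (.c, true)]),
  (12202, [(.d, true), (.t, true), (.v, true), (.d, true), (.v, true), (.c, true), (.d, true)]),
  (12207, [(.t, true), (.v, true), (.v, true), (.t, true), (.e, true)]),
  (12225, [(.v, true), (.d, true), (.t, true), (.v, true), (.v, true), (.c, true)]),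
  (12226, [(.d, true), (.t, true), (.e, true), (.v, true), (.t, true), (.c, true)]),
  (12247, [(.t, true), (.d, true), (.v, true), (.d, true), (.t, true), (.c, true)]),
  (12249, [(.d, true), (.v, true), (.c, true), (.t, true), (.d, true)]),
  (12318, [(.d, true), (.e, true), (.d, true), (.t, true), (.e, true)]),
  (12324, [(.t, true), (.e, true), (.t, true), (.v, true), (.d, true), (.t, true), (.d, true)]),
  (12335, [(.v, true), (.d, true), (.v, true), (.t, true), (.v, true), (.c, true)]),
  (12341, [(.v, true), (.t, true), (.v, true), (.d, true), (.t, true), (.e, true)]),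
  (12347, [(.v, true), (.d, true), (.t, true), (.e, true), (.d, true), (.c, true)]),
  (12351, [(.c, true), (.d, true), (.t, true), (.t, true), (.e, true)]),
  (12370, [(.e, true), (.v, true), (.e, true), (.d, true)]),
  (12376, [(.t, true), (.t, true), (.d, true), (.e, true)]),
  (12400, [(.v, true), (.t, true), (.e, true), (.t, true), (.v, true), (.e, true), (.c, true)]),
  (12414, [(.t, true), (.v, true), (.t, true), (.v, true), (.c, true)]),
  (12428, [(.t, true), (.e, true), (.v, true), (.t, true), (.v, true), (.v, true)]),
  (12435, [(.t, true), (.e, true), (.d, true), (.t, true), (.e, true), (.c, true)]),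
  (12440, [(.t, true), (.d, true), (.e, true), (.t, true), (.v, true), (.v, true), (.d, true)]),
  (12446, [(.t, true), (.v, true), (.t, true), (.t, true)]),
  (12453, [(.t, true), (.e, true), (.v, true), (.d, true), (.t, true), (.v, true)]),
  (12460, [(.t, true), (.v, true), (.d, true), (.v, true), (.d, true), (.t, true)]),
  (12467, [(.v, true), (.e, true), (.d, true)]),
  (12474, [(.v, true), (.e, true), (.v, true), (.v, true), (.t, true)]),
  (12479, [(.v, true), (.t, true), (.d, true), (.e, true), (.t, true), (.d, true), (.c, true)]),
  (12485, [(.v, true), (.t, true), (.e, true), (.v, true), (.d, true), (.e, true), (.c, true)]),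
  (12491, [(.v, true), (.d, true), (.v, true), (.t, true), (.v, true), (.v, true), (.c, true)]),
  (12495, [(.t, true), (.v, true), (.t, true), (.v, true), (.c, true), (.t, true)]),
  (12506, [(.v, true), (.d, true), (.v, true), (.d, true), (.t, true), (.c, true)]),
  (12516, [(.e, true), (.t, true), (.e, true), (.v, true), (.t, true), (.d, true)]),
  (12526, [(.v, true), (.c, true), (.d, true), (.e, true), (.c, true)]),
  (12566, [(.t, true), (.v, true), (.v, true), (.c, true), (.t, true)]),
  (12572, [(.c, true), (.d, true), (.e, true), (.d, true), (.t, true), (.e, true)]),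
  (12579, [(.e, true), (.t, true), (.v, true), (.t, true), (.t, true)]),
  (12596, [(.e, true), (.t, true), (.e, true), (.t, true), (.c, true)]),
  (12604, [(.d, true), (.e, true), (.v, true), (.c, true), (.t, true), (.e, true)]),
  (12612, [(.e, true), (.t, true), (.d, true), (.v, true), (.t, true), (.e, true)]),
  (12662, [(.c, true), (.t, true), (.c, true), (.d, true), (.e, true)]),
  (12665, [(.v, true), (.c, true), (.t, true), (.v, true), (.v, true), (.d, true)]),
  (12666, [(.t, true), (.d, true), (.v, true), (.v, true), (.t, true), (.e, true)]),
  (12671, [(.e, true), (.t, true), (.v, true), (.d, true), (.v, true), (.d, true), (.c, true)]),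
  (12675, [(.d, true), (.v, true), (.d, true), (.t, true)]),
  (12686, [(.d, true), (.e, true), (.v, true), (.t, true), (.d, true), (.e, true)]),
  (12711, [(.d, true), (.t, true), (.v, true), (.t, true), (.d, true)]),
  (12717, [(.d, true), (.t, true), (.c, true)]),
  (12733, [(.v, true), (.t, true), (.v, true), (.e, true), (.v, true), (.d, true)]),
  (12764, [(.t, true), (.t, true), (.v, true), (.d, true), (.v, true), (.c, true), (.d, true)]),
  (12769, [(.t, true), (.v, true), (.d, true), (.t, true)]),
  (12806, [(.e, true), (.t, true), (.v, true), (.c, true)]),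
  (12810, [(.v, true), (.t, true), (.v, true), (.t, true), (.d, true)]),
  (12819, [(.e, true), (.c, true), (.d, true), (.t, true)]),
  (12829, [(.c, true), (.t, true), (.e, true), (.c, true), (.d, true)]),
  (12852, [(.t, true), (.v, true), (.d, true), (.c, true), (.t, true), (.c, true)]),
  (12853, [(.d, true), (.v, true), (.t, true), (.e, true), (.t, true), (.v, true), (.c, true)]),
  (12873, [(.v, true), (.t, true), (.v, true), (.d, true), (.v, true), (.t, true)]),
  (12874, [(.c, true), (.t, true), (.e, true), (.v, true), (.d, true)]),
  (12881, [(.d, true), (.v, true), (.d, true), (.t, true), (.d, true), (.e, true), (.d, true)]),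
  (12888, [(.c, true), (.d, true), (.v, true), (.t, true), (.d, true), (.v, true), (.d, true)]),
  (12907, [(.e, true), (.t, true), (.v, true), (.t, true), (.t, true), (.d, true)]),
  (12933, [(.d, true), (.t, true), (.e, true), (.t, true), (.e, true), (.v, true), (.c, true)]),
  (12940, [(.d, true), (.t, true), (.v, true), (.t, true), (.v, true)]),
  (12942, [(.t, true), (.d, true), (.v, true), (.d, true), (.t, true)]),
  (12955, [(.d, true), (.v, true), (.t, true), (.v, true), (.v, true), (.e, true)]),
  (12960, [(.v, true), (.d, true), (.e, true), (.d, true), (.v, true), (.t, true)]),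
  (12969, [(.t, true), (.e, true), (.d, true), (.v, true), (.v, true), (.c, true)]),
  (12982, [(.t, true), (.e, true), (.v, true), (.c, true), (.d, true), (.c, true)]),
  (13002, [(.v, true), (.t, true), (.v, true), (.d, true), (.e, true), (.v, true)]),
  (13004, [(.v, true), (.c, true), (.d, true), (.e, true), (.v, true)]),
  (13018, [(.e, true), (.d, true), (.v, true), (.v, true), (.t, true)]),
  (13043, [(.v, true), (.d, true), (.e, true), (.t, true), (.v, true), (.c, true)]),
  (13044, [(.v, true), (.d, true), (.t, true), (.e, true), (.v, true)]),
  (13046, [(.t, true), (.t, true), (.v, true), (.d, true), (.c, true)]),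
  (13050, [(.v, true), (.d, true), (.v, true), (.d, true), (.v, true), (.t, true)]),
  (13059, [(.t, true), (.t, true), (.v, true), (.t, true), (.e, true), (.d, true)]),
  (13062, [(.v, true), (.t, true), (.e, true), (.t, true), (.d, true)]),
  (13069, [(.d, true), (.e, true), (.t, true), (.d, true), (.e, true), (.d, true)]),
  (13075, [(.v, true), (.c, true), (.t, true), (.v, true), (.d, true)]),
  (13078, [(.d, true), (.e, true), (.c, true), (.d, true), (.v, true)]),
  (13082, [(.v, true), (.v, true), (.e, true), (.v, true), (.d, true)]),
  (13083, [(.t, true), (.d, true), (.e, true), (.t, true), (.e, true), (.v, true), (.d, true)]),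
  (13088, [(.t, true), (.v, true), (.c, true), (.t, true), (.e, true), (.d, true), (.c, true)]),
  (13098, [(.v, true), (.t, true), (.e, true), (.t, true), (.v, true), (.d, true)]),
  (13104, [(.t, true), (.v, true), (.t, true), (.d, true)]),
  (13114, [(.t, true), (.e, true), (.t, true), (.v, true), (.t, true), (.t, true), (.d, true)]),
  (13129, [(.t, true), (.t, true), (.d, true), (.v, true)]),
  (13140, [(.e, true), (.v, true), (.t, true), (.e, true), (.c, true)]),
  (13144, [(.v, true), (.v, true), (.e, true), (.v, true), (.t, true)]),
  (13159, [(.e, true), (.t, true), (.t, true), (.d, true), (.e, true)]),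
  (13171, [(.t, true), (.e, true), (.t, true), (.d, true), (.e, true), (.d, true), (.c, true)]),
  (13180, [(.d, true), (.t, true), (.e, true), (.t, true), (.v, true), (.v, true)]),
  (13195, [(.t, true), (.c, true)]),
  (13203, [(.v, true), (.t, true), (.d, true), (.v, true), (.t, true), (.e, true), (.c, true)]),
  (13210, [(.d, true), (.e, true), (.t, true), (.v, true), (.v, true), (.d, true)]),
  (13216, [(.e, true), (.d, true), (.v, true), (.d, true), (.v, true), (.d, true)]),
  (13242, [(.t, true), (.t, true), (.t, true)]),
  (13269, [(.d, true), (.v, true), (.d, true), (.v, true), (.t, true), (.e, true), (.d, true)]),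
  (13296, [(.e, true), (.d, true), (.v, true), (.t, true), (.v, true), (.e, true)]),
  (13300, [(.v, true), (.d, true), (.t, true), (.d, true), (.c, true)]),
  (13311, [(.d, true), (.v, true), (.t, true), (.d, true), (.e, true), (.t, true), (.c, true)]),
  (13317, [(.d, true), (.e, true), (.t, true), (.d, true), (.v, true), (.c, true)]),
  (13322, [(.t, true), (.e, true), (.t, true), (.v, true), (.d, true)]),
  (13339, [(.v, true), (.d, true), (.e, true), (.t, true), (.c, true)]),
  (13342, [(.d, true), (.t, true), (.e, true), (.v, true)]),
  (13352, [(.t, true), (.d, true), (.e, true), (.d, true), (.v, true), (.d, true)]),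
  (13380, [(.t, true), (.v, true), (.t, true), (.d, true), (.c, true)]),
  (13389, [(.c, true), (.d, true), (.t, true), (.e, true), (.v, true), (.d, true)]),
  (13409, [(.t, true), (.e, true), (.v, true), (.c, true), (.t, true), (.d, true)]),
  (13419, [(.v, true), (.t, true), (.v, true), (.d, true), (.v, true), (.t, true), (.d, true)]),
  (13431, [(.v, true), (.t, true), (.v, true), (.d, true), (.t, true), (.c, true)]),
  (13449, [(.d, true), (.v, true), (.t, true), (.e, true), (.t, true)]),
  (13471, [(.d, true), (.v, true), (.t, true), (.t, true), (.c, true)]),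
  (13472, [(.e, true), (.t, true), (.e, true), (.v, true), (.e, true)]),
  (13496, [(.t, true), (.d, true), (.e, true), (.v, true), (.t, true), (.c, true)]),
  (13506, [(.v, true), (.c, true), (.d, true), (.e, true), (.v, true), (.t, true)]),
  (13513, [(.e, true), (.d, true), (.v, true), (.t, true), (.t, true)]),
  (13518, [(.v, true), (.c, true), (.t, true), (.v, true), (.c, true)]),
  (13522, [(.e, true), (.t, true), (.v, true), (.t, true), (.d, true), (.v, true), (.c, true)]),
  (13530, [(.d, true), (.v, true), (.t, true), (.t, true)]),
  (13532, [(.v, true), (.c, true), (.d, true), (.v, true), (.d, true), (.t, true), (.c, true)]),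
  (13556, [(.t, true), (.e, true), (.v, true), (.c, true), (.d, true)]),
  (13589, [(.v, true), (.t, true), (.d, true), (.e, true), (.t, true), (.e, true)]),
  (13590, [(.v, true), (.d, true), (.e, true), (.t, true), (.e, true), (.v, true)]),
  (13608, [(.d, true), (.v, true), (.t, true), (.v, true), (.e, true)]),
  (13619, [(.t, true), (.e, true), (.t, true), (.v, true), (.t, true), (.t, true)]),
  (13623, [(.t, true), (.v, true), (.c, true), (.d, true), (.c, true)]),
  (13628, [(.e, true), (.t, true), (.e, true), (.t, true), (.d, true), (.v, true)]),
  (13630, [(.d, true), (.e, true), (.d, true), (.t, true)]),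
  (13642, [(.e, true), (.t, true), (.d, true), (.c, true)]),
  (13644, [(.v, true), (.e, true), (.v, true), (.t, true), (.v, true), (.v, true), (.c, true)]),
  (13646, [(.d, true), (.t, true), (.e, true), (.t, true), (.c, true), (.d, true)]),
  (13660, [(.v, true), (.d, true), (.c, true)]),
  (13667, [(.t, true), (.v, true), (.v, true), (.c, true)]),
  (13686, [(.t, true), (.e, true), (.t, true), (.v, true), (.e, true), (.c, true)]),
  (13717, [(.v, true), (.c, true), (.t, true), (.d, true)]),
  (13734, [(.d, true), (.e, true), (.t, true), (.d, true), (.v, true)]),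
  (13750, [(.d, true), (.e, true), (.c, true), (.d, true), (.t, true)]),
  (13778, [(.d, true), (.v, true), (.d, true), (.c, true), (.d, true)]),
  (13784, [(.c, true), (.d, true), (.e, true), (.v, true), (.c, true)]),
  (13798, [(.e, true), (.v, true), (.t, true), (.e, true), (.d, true), (.t, true), (.e, true)]),
  (13805, [(.t, true), (.v, true), (.v, true), (.e, true), (.v, true), (.c, true)]),
  (13843, [(.v, true), (.d, true), (.v, true), (.v, true), (.t, true), (.c, true)]),
  (13861, [(.t, true), (.t, true), (.d, true), (.e, true), (.t, true), (.e, true), (.d, true)]),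
  (13880, [(.c, true), (.t, true), (.v, true), (.v, true)]),
  (13894, [(.v, true), (.e, true), (.v, true), (.d, true), (.t, true), (.e, true)]),
  (13895, [(.t, true), (.t, true), (.v, true), (.t, true), (.e, true)]),
  (13906, [(.e, true), (.t, true), (.v, true), (.e, true), (.c, true)]),
  (13927, [(.t, true), (.v, true), (.e, true), (.v, true), (.c, true)]),
  (13946, [(.v, true), (.c, true), (.d, true), (.e, true), (.v, true), (.d, true)]),
  (13948, [(.v, true), (.d, true), (.v, true), (.v, true), (.d, true)]),
  (13955, [(.v, true), (.d, true), (.t, true), (.t, true), (.e, true), (.d, true)]),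
  (13958, [(.e, true), (.v, true), (.d, true), (.t, true), (.d, true)]),
  (13961, [(.v, true), (.c, true)]),
  (13963, [(.t, true), (.d, true), (.v, true), (.t, true), (.e, true), (.t, true), (.c, true)]),
  (13974, [(.e, true), (.v, true), (.d, true), (.e, true), (.t, true), (.e, true)]),
  (14007, [(.v, true), (.t, true), (.e, true), (.d, true), (.t, true), (.e, true)]),
  (14012, [(.v, true), (.v, true), (.t, true), (.e, true), (.c, true)]),
  (14020, [(.e, true), (.d, true), (.t, true), (.e, true), (.c, true)]),
  (14026, [(.t, true), (.d, true), (.e, true), (.t, true), (.e, true), (.c, true)]),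
  (14030, [(.e, true), (.v, true), (.d, true), (.e, true), (.c, true)]),
  (14066, [(.v, true), (.d, true), (.e, true), (.c, true), (.t, true)]),
  (14072, [(.c, true), (.d, true), (.t, true), (.e, true), (.d, true)]),
  (14074, [(.t, true), (.d, true), (.v, true), (.v, true), (.t, true)]),
  (14083, [(.t, true), (.v, true), (.t, true), (.t, true), (.d, true), (.e, true)]),
  (14086, [(.c, true), (.d, true), (.e, true), (.t, true)]),
  (14102, [(.v, true), (.t, true), (.v, true), (.v, true), (.t, true), (.c, true)]),
  (14108, [(.d, true), (.v, true), (.d, true), (.t, true), (.e, true), (.v, true), (.c, true)]),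
  (14120, [(.e, true), (.t, true), (.e, true), (.v, true), (.c, true)]),
  (14140, [(.d, true), (.t, true), (.d, true), (.e, true), (.t, true), (.c, true)]),
  (14145, [(.t, true), (.v, true), (.d, true), (.v, true), (.d, true), (.t, true), (.d, true)]),
  (14150, [(.e, true), (.v, true), (.c, true), (.t, true), (.v, true)]),
  (14156, [(.v, true), (.d, true), (.t, true), (.e, true), (.v, true), (.e, true), (.c, true)]),
  (14158, [(.v, true), (.c, true), (.d, true)]),
  (14180, [(.v, true), (.d, true), (.t, true), (.v, true), (.d, true), (.c, true)]),
  (14187, [(.t, true), (.v, true), (.t, true), (.d, true), (.v, true), (.v, true), (.c, true)]),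
  (14190, [(.v, true), (.t, true), (.d, true), (.v, true), (.t, true), (.e, true)]),
  (14203, [(.d, true), (.e, true), (.t, true), (.d, true), (.e, true)]),
  (14206, [(.d, true), (.v, true), (.t, true), (.t, true), (.v, true)]),
  (14212, [(.e, true), (.t, true), (.v, true), (.d, true), (.c, true), (.t, true)]),
  (14231, [(.t, true), (.v, true), (.v, true), (.t, true), (.e, true), (.d, true)]),
  (14236, [(.t, true), (.e, true), (.t, true), (.e, true), (.c, true), (.t, true), (.c, true)]),
  (14246, [(.t, true), (.v, true), (.d, true), (.e, true), (.c, true)]),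
  (14251, [(.d, true), (.t, true), (.d, true)]),
  (14254, [(.v, true), (.t, true), (.d, true), (.e, true)]),
  (14257, [(.v, true), (.v, true), (.e, true), (.d, true)]),
  (14266, [(.e, true), (.t, true), (.d, true)]),
  (14281, [(.t, true), (.d, true), (.e, true), (.t, true), (.d, true)]),
  (14294, [(.t, true), (.e, true), (.t, true), (.e, true), (.v, true), (.e, true)]),
  (14306, [(.e, true), (.c, true), (.d, true), (.v, true), (.t, true), (.v, true), (.t, true)]),
  (14327, [(.e, true), (.c, true), (.t, true), (.e, true), (.v, true), (.c, true)]),
  (14340, [(.v, true), (.t, true)]),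
  (14342, [(.t, true), (.e, true), (.d, true), (.v, true), (.d, true), (.v, true), (.t, true)]),
  (14343, [(.e, true), (.t, true), (.d, true), (.v, true), (.v, true), (.e, true)]),
  (14346, [(.e, true), (.v, true), (.t, true), (.d, true)]),
  (14366, [(.v, true), (.v, true), (.d, true), (.v, true), (.v, true), (.d, true)]),
  (14371, [(.d, true), (.e, true), (.v, true), (.t, true), (.v, true)]),
  (14387, [(.d, true), (.v, true), (.t, true), (.d, true), (.e, true), (.t, true)]),
  (14410, [(.e, true), (.t, true), (.e, true), (.v, true), (.d, true), (.t, true)]),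
  (14453, [(.d, true), (.v, true), (.t, true), (.e, true), (.t, true), (.d, true)]),
  (14461, [(.d, true), (.v, true), (.v, true), (.t, true), (.c, true)]),
  (14462, [(.d, true), (.e, true), (.v, true), (.e, true)]),
  (14470, [(.v, true), (.t, true), (.d, true), (.v, true)]),
  (14478, [(.e, true), (.v, true), (.t, true), (.v, true), (.d, true), (.e, true)]),
  (14483, [(.d, true), (.e, true), (.v, true), (.c, true), (.d, true)]),
  (14484, [(.v, true), (.d, true), (.v, true), (.t, true), (.d, true), (.c, true)]),
  (14514, [(.c, true), (.d, true), (.e, true), (.d, true)]),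
  (14519, [(.v, true), (.d, true), (.t, true), (.e, true), (.v, true), (.c, true)]),
  (14534, [(.e, true), (.v, true), (.c, true), (.d, true), (.e, true)]),
  (14535, [(.t, true), (.e, true), (.d, true), (.v, true), (.t, true), (.d, true), (.c, true)]),
  (14555, [(.v, true), (.t, true), (.e, true), (.d, true), (.v, true)]),
  (14630, [(.d, true), (.e, true), (.t, true), (.v, true), (.d, true), (.v, true)]),
  (14631, [(.d, true), (.t, true), (.d, true), (.e, true), (.d, true)]),
  (14632, [(.v, true), (.c, true), (.d, true), (.v, true), (.t, true), (.c, true)]),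
  (14634, [(.e, true), (.t, true), (.v, true), (.c, true), (.t, true)]),
  (14653, [(.v, true), (.t, true), (.v, true), (.t, true), (.v, true), (.c, true)]),
  (14676, [(.v, true), (.t, true), (.e, true), (.v, true), (.t, true)]),
  (14682, [(.t, true), (.v, true), (.d, true), (.v, true), (.d, true), (.c, true), (.d, true)]),
  (14689, [(.e, true), (.t, true), (.c, true), (.d, true), (.e, true)]),
  (14698, [(.t, true), (.v, true), (.d, true), (.v, true), (.d, true), (.v, true), (.t, true)]),
  (14718, [(.e, true), (.d, true), (.t, true), (.e, true), (.v, true), (.e, true)]),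
  (14722, [(.e, true), (.t, true), (.e, true), (.t, true), (.e, true), (.t, true)]),
  (14727, [(.e, true), (.d, true), (.t, true), (.v, true), (.c, true)]),
  (14730, [(.t, true), (.e, true), (.v, true), (.t, true), (.e, true)]),
  (14766, [(.c, true), (.d, true), (.v, true), (.t, true), (.e, true)]),
  (14790, [(.v, true), (.t, true), (.e, true), (.d, true), (.v, true), (.c, true)]),
  (14821, [(.v, true), (.t, true), (.t, true), (.v, true)]),
  (14826, [(.d, true), (.e, true), (.v, true), (.t, true), (.v, true), (.v, true), (.e, true)]),
  (14836, [(.v, true), (.v, true), (.d, true), (.v, true), (.v, true), (.t, true), (.c, true)]),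
  (14840, [(.d, true), (.v, true), (.d, true), (.v, true), (.t, true), (.c, true)]),
  (14850, [(.c, true), (.d, true), (.e, true), (.v, true)]),
  (14852, [(.d, true), (.v, true), (.t, true), (.v, true), (.t, true), (.t, true)]),
  (14865, [(.e, true), (.t, true), (.d, true), (.e, true), (.t, true), (.e, true), (.v, true)]),
  (14868, [(.t, true), (.e, true), (.d, true), (.t, true), (.e, true), (.t, true), (.c, true)]),
  (14871, [(.d, true), (.e, true), (.d, true), (.t, true), (.t, true)]),
  (14872, [(.t, true), (.t, true), (.v, true)]),
  (14887, [(.v, true), (.t, true), (.v, true), (.t, true), (.t, true), (.c, true)]),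
  (14907, [(.d, true), (.v, true), (.t, true), (.v, true), (.d, true), (.t, true)]),
  (14911, [(.v, true), (.t, true), (.e, true), (.d, true), (.c, true), (.t, true)]),
  (14933, [(.d, true), (.e, true), (.v, true), (.t, true), (.d, true)]),
  (14942, [(.d, true), (.c, true), (.d, true), (.v, true), (.t, true), (.d, true)]),
  (14950, [(.d, true), (.v, true), (.v, true), (.t, true), (.e, true)]),
  (14956, [(.d, true), (.e, true), (.d, true), (.v, true), (.d, true), (.t, true)]),
  (14963, [(.v, true), (.t, true), (.e, true), (.t, true), (.t, true)]),
  (14971, [(.d, true), (.t, true), (.v, true), (.t, true), (.t, true)]),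
  (14981, [(.v, true), (.c, true), (.d, true), (.v, true)]),
  (14987, [(.v, true), (.d, true), (.e, true), (.t, true)]),
  (14996, [(.d, true), (.t, true), (.d, true), (.e, true), (.v, true)]),
  (15004, [(.v, true), (.d, true), (.c, true), (.t, true)]),
  (15014, [(.d, true), (.e, true), (.v, true)]),
  (15024, [(.v, true), (.v, true), (.d, true), (.v, true), (.t, true), (.e, true)]),
  (15051, [(.v, true), (.d, true), (.v, true), (.v, true), (.t, true)]),
  (15058, [(.v, true), (.d, true), (.t, true), (.v, true)]),
  (15061, [(.e, true), (.t, true), (.v, true), (.d, true), (.e, true), (.c, true)]),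
  (15086, [(.t, true), (.d, true), (.v, true), (.v, true)]),
  (15088, [(.v, true), (.d, true), (.e, true), (.t, true), (.d, true), (.e, true)]),
  (15102, [(.e, true), (.t, true)]),
  (15108, [(.v, true), (.v, true), (.t, true), (.t, true), (.e, true)]),
  (15116, [(.t, true), (.v, true), (.t, true), (.e, true), (.d, true), (.v, true)]),
  (15121, [(.t, true), (.t, true), (.d, true), (.e, true), (.t, true)]),
  (15129, [(.c, true), (.d, true), (.e, true), (.d, true), (.c, true)]),
  (15133, [(.t, true), (.v, true), (.c, true), (.t, true), (.v, true)]),
  (15144, [(.t, true), (.v, true), (.d, true), (.e, true), (.v, true), (.c, true), (.d, true)]),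
  (15158, [(.d, true), (.v, true), (.v, true), (.t, true)]),
  (15182, [(.d, true), (.t, true), (.d, true), (.e, true), (.d, true), (.v, true)]),
  (15187, [(.v, true), (.t, true), (.t, true)]),
  (15192, [(.t, true), (.v, true), (.t, true), (.e, true), (.v, true), (.e, true)]),
  (15193, [(.t, true), (.e, true), (.v, true), (.c, true), (.t, true), (.e, true), (.d, true)]),
  (15206, [(.e, true), (.t, true), (.e, true), (.t, true), (.e, true)]),
  (15208, [(.e, true), (.d, true), (.v, true), (.c, true)]),
  (15216, [(.v, true), (.t, true), (.v, true), (.d, true), (.e, true)]),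
  (15217, [(.t, true), (.v, true), (.e, true), (.v, true), (.d, true), (.t, true), (.c, true)]),
  (15222, [(.d, true), (.v, true), (.t, true), (.v, true), (.t, true), (.d, true)]),
  (15273, [(.d, true), (.t, true), (.e, true), (.v, true), (.t, true), (.e, true), (.c, true)]),
  (15349, [(.c, true), (.t, true), (.c, true), (.d, true), (.e, true), (.d, true)]),
  (15380, [(.t, true), (.v, true), (.t, true), (.e, true), (.c, true)]),
  (15381, [(.d, true), (.e, true), (.c, true), (.t, true), (.e, true), (.v, true), (.c, true)]),
  (15384, [(.v, true), (.v, true), (.d, true), (.v, true), (.c, true), (.d, true), (.c, true)]),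
  (15390, [(.v, true), (.t, true), (.v, true), (.v, true), (.e, true), (.c, true)]),
  (15407, [(.e, true), (.d, true), (.t, true), (.v, true), (.v, true), (.d, true), (.c, true)]),
  (15408, [(.c, true), (.d, true), (.e, true), (.v, true), (.t, true), (.d, true)]),
  (15414, [(.e, true), (.t, true), (.d, true), (.e, true), (.t, true), (.c, true)]),
  (15426, [(.v, true), (.d, true), (.t, true), (.e, true), (.c, true)]),
  (15431, [(.v, true), (.t, true), (.e, true), (.v, true), (.d, true), (.e, true)]),
  (15467, [(.d, true), (.e, true), (.t, true), (.e, true), (.t, true), (.d, true), (.c, true)]),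
  (15477, [(.d, true), (.e, true), (.t, true), (.d, true), (.v, true), (.d, true), (.c, true)]),
  (15507, [(.d, true), (.v, true), (.c, true), (.t, true), (.e, true), (.c, true), (.d, true)]),
  (15512, [(.d, true), (.e, true), (.d, true), (.t, true), (.e, true), (.t, true), (.c, true)]),
  (15520, [(.d, true), (.t, true), (.v, true), (.v, true), (.t, true), (.e, true)]),
  (15522, [(.t, true), (.v, true), (.t, true), (.d, true), (.e, true)]),
  (15540, [(.t, true), (.v, true), (.t, true), (.v, true), (.e, true), (.c, true)]),
  (15541, [(.e, true), (.t, true), (.e, true), (.v, true), (.c, true), (.t, true), (.c, true)]),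
  (15547, [(.t, true), (.e, true), (.t, true), (.e, true), (.t, true)]),
  (15556, [(.d, true), (.t, true), (.v, true), (.v, true), (.c, true)]),
  (15560, [(.t, true), (.v, true), (.v, true), (.t, true)]),
  (15568, [(.d, true), (.v, true), (.t, true), (.e, true), (.t, true), (.d, true), (.c, true)]),
  (15599, [(.v, true), (.d, true), (.v, true), (.d, true), (.t, true), (.t, true)]),
  (15608, [(.d, true), (.v, true), (.t, true), (.d, true), (.v, true), (.c, true)]),
  (15622, [(.e, true), (.t, true), (.v, true), (.v, true), (.d, true), (.v, true), (.v, true)]),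
  (15626, [(.e, true), (.v, true), (.t, true), (.v, true), (.v, true), (.c, true)]),
  (15635, [(.v, true), (.t, true), (.v, true), (.v, true), (.d, true), (.v, true)]),
  (15657, [(.t, true), (.e, true), (.c, true), (.d, true), (.v, true), (.t, true)]),
  (15673, [(.t, true), (.d, true), (.v, true), (.v, true), (.c, true)]),
  (15675, [(.d, true), (.e, true), (.t, true), (.v, true), (.d, true), (.t, true)]),
  (15683, [(.d, true), (.e, true), (.t, true), (.e, true)]),
  (15699, [(.t, true), (.e, true), (.d, true), (.t, true), (.e, true), (.d, true)]),
  (15707, [(.e, true), (.c, true), (.t, true), (.v, true)]),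
  (15751, [(.d, true), (.v, true), (.t, true), (.v, true), (.v, true), (.d, true)]),
  (15757, [(.t, true), (.e, true), (.v, true), (.c, true), (.d, true), (.e, true)]),
  (15777, [(.d, true), (.v, true), (.d, true), (.t, true), (.e, true), (.v, true)]),
  (15779, [(.d, true), (.t, true), (.e, true), (.t, true)]),
  (15780, [(.v, true), (.t, true), (.c, true)]),
  (15813, [(.d, true), (.v, true), (.t, true), (.t, true), (.t, true)]),
  (15815, [(.d, true), (.e, true), (.t, true), (.t, true), (.e, true)]),
  (15817, [(.e, true), (.d, true), (.t, true), (.v, true), (.v, true), (.c, true)]),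
  (15863, [(.v, true), (.v, true), (.d, true), (.v, true), (.c, true), (.t, true)]),
  (15880, [(.v, true), (.t, true), (.d, true), (.e, true), (.d, true)]),
  (15885, [(.e, true), (.t, true), (.e, true), (.v, true), (.e, true), (.d, true)]),
  (15891, [(.v, true), (.v, true), (.c, true)]),
  (15901, [(.e, true), (.c, true), (.d, true), (.v, true), (.t, true), (.v, true)]),
  (15902, [(.d, true), (.v, true), (.c, true), (.d, true), (.t, true), (.e, true)]),
  (15915, [(.d, true), (.v, true)]),
  (15939, [(.t, true), (.e, true), (.d, true), (.v, true), (.d, true), (.v, true)]),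
  (15950, [(.v, true), (.d, true), (.v, true), (.v, true), (.t, true), (.e, true), (.d, true)]),
  (15955, [(.v, true), (.d, true), (.v, true), (.t, true), (.d, true), (.v, true)]),
  (15970, [(.d, true), (.t, true), (.e, true), (.t, true), (.e, true), (.v, true), (.e, true)]),
  (15974, [(.t, true), (.v, true), (.c, true), (.t, true), (.e, true), (.d, true)]),
  (16002, [(.c, true), (.d, true), (.e, true), (.c, true), (.t, true), (.e, true), (.v, true)]),
  (16003, [(.d, true), (.t, true), (.e, true), (.d, true), (.t, true), (.d, true)]),
  (16031, [(.t, true), (.d, true), (.v, true), (.t, true), (.e, true), (.c, true)]),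
  (16037, [(.v, true), (.t, true), (.e, true), (.d, true), (.t, true)]),
  (16038, [(.d, true), (.e, true), (.t, true), (.e, true), (.t, true), (.t, true), (.c, true)]),
  (16039, [(.e, true), (.t, true), (.e, true), (.t, true), (.v, true), (.v, true)]),
  (16040, [(.t, true), (.v, true), (.c, true), (.d, true), (.v, true), (.d, true)]),
  (16060, [(.t, true), (.d, true), (.v, true), (.t, true), (.d, true)]),
  (16085, [(.e, true), (.d, true), (.v, true), (.t, true), (.d, true)]),
  (16092, [(.t, true), (.t, true), (.v, true), (.t, true), (.v, true), (.v, true)]),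
  (16105, [(.v, true), (.v, true), (.d, true), (.v, true), (.c, true), (.d, true)]),
  (16111, [(.t, true), (.v, true), (.d, true), (.t, true), (.t, true), (.e, true)]),
  (16112, [(.d, true), (.t, true), (.e, true), (.t, true), (.e, true), (.c, true), (.d, true)]),
  (16118, [(.e, true), (.d, true), (.v, true), (.t, true), (.t, true), (.d, true)]),
  (16121, [(.e, true), (.d, true), (.v, true), (.t, true), (.d, true), (.e, true)]),
  (16125, [(.d, true), (.t, true), (.e, true), (.t, true), (.d, true)]),
  (16132, [(.t, true), (.e, true), (.d, true), (.v, true), (.d, true), (.t, true), (.t, true)]),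
  (16140, [(.e, true), (.v, true), (.c, true), (.d, true), (.e, true), (.t, true)]),
  (16150, [(.v, true), (.c, true), (.t, true), (.e, true), (.d, true), (.v, true)]),
  (16154, [(.t, true), (.v, true), (.v, true), (.d, true), (.v, true), (.v, true), (.c, true)]),
  (16156, [(.d, true), (.v, true), (.t, true), (.e, true), (.c, true), (.d, true)]),
  (16162, [(.t, true), (.d, true), (.e, true), (.d, true), (.v, true), (.d, true), (.c, true)]),
  (16172, [(.e, true), (.t, true), (.d, true), (.v, true), (.t, true), (.e, true), (.v, true)]),
  (16175, [(.t, true), (.d, true), (.e, true), (.t, true), (.e, true), (.t, true)]),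
  (16185, [(.d, true), (.e, true), (.t, true), (.c, true), (.d, true)]),
  (16188, [(.t, true), (.e, true), (.v, true), (.d, true), (.c, true)]),
  (16193, [(.c, true), (.d, true), (.e, true), (.c, true)]),
  (16201, [(.d, true), (.t, true), (.v, true), (.v, true), (.d, true), (.c, true)]),
  (16202, [(.d, true), (.e, true), (.v, true), (.c, true), (.d, true), (.c, true)]),
  (16204, [(.e, true), (.v, true), (.d, true), (.c, true)]),
  (16209, [(.d, true), (.e, true), (.v, true), (.t, true), (.v, true), (.d, true), (.t, true)]),
  (16215, [(.d, true), (.e, true), (.t, true), (.d, true), (.e, true), (.t, true)]),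
  (16218, [(.d, true), (.e, true), (.c, true), (.t, true), (.e, true)]),
  (16224, [(.t, true), (.e, true), (.c, true), (.t, true), (.v, true), (.v, true), (.d, true)]),
  (16232, [(.t, true), (.e, true), (.t, true), (.e, true)]),
  (16240, [(.c, true), (.d, true), (.e, true), (.t, true), (.d, true), (.v, true)]),
  (16244, [(.e, true), (.d, true), (.v, true), (.t, true), (.e, true)]),
  (16249, [(.t, true), (.e, true), (.t, true), (.v, true), (.e, true)]),
  (16255, [(.e, true), (.t, true), (.v, true), (.d, true), (.t, true), (.c, true)]),
  (16256, [(.d, true), (.c, true), (.d, true), (.v, true), (.t, true)]),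
  (16259, [(.t, true), (.d, true), (.e, true), (.t, true)]),
  (16270, [(.d, true), (.e, true), (.v, true), (.t, true), (.e, true), (.d, true)]),
  (16277, [(.t, true), (.e, true), (.v, true), (.t, true)]),
  (16281, [(.e, true), (.v, true), (.t, true), (.v, true), (.c, true), (.t, true)]),
  (16283, [(.e, true), (.v, true), (.d, true), (.e, true)]),
  (16285, [(.e, true), (.t, true), (.e, true), (.t, true)]),
  (16300, [(.v, true), (.t, true), (.d, true), (.v, true), (.v, true), (.d, true)]),
  (16303, [(.d, true), (.t, true), (.e, true), (.d, true), (.v, true), (.c, true)]),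
  (16309, [(.e, true), (.t, true), (.e, true), (.t, true), (.d, true), (.v, true), (.c, true)]),
  (16310, [(.e, true), (.v, true), (.d, true), (.t, true), (.v, true), (.d, true)]),
  (16311, [(.t, true), (.d, true), (.v, true), (.v, true), (.t, true), (.c, true)]),
  (16334, [(.t, true), (.e, true), (.t, true), (.v, true), (.v, true), (.e, true)]),
  (16337, [(.t, true), (.v, true), (.t, true), (.v, true), (.t, true), (.t, true)]),
  (16350, [(.t, true), (.v, true), (.t, true), (.v, true), (.v, true), (.c, true)]),
  (16355, [(.e, true), (.t, true), (.e, true), (.d, true), (.v, true)]),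
  (16371, [(.e, true), (.v, true), (.t, true), (.v, true), (.d, true), (.c, true)]),
  (16372, [(.e, true), (.t, true), (.v, true), (.d, true), (.t, true), (.e, true)]),
  (16385, [(.d, true), (.t, true), (.e, true), (.v, true), (.e, true), (.c, true)]),
  (16400, [(.e, true), (.v, true)]),
  (16411, [(.t, true), (.e, true), (.t, true), (.v, true), (.c, true), (.t, true)]),
  (16420, [(.t, true), (.e, true), (.v, true), (.c, true), (.t, true), (.e, true)]),
  (16423, [(.e, true), (.d, true), (.c, true)]),
  (16424, [(.d, true), (.e, true), (.v, true), (.t, true), (.c, true), (.d, true)]),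
  (16425, [(.e, true), (.v, true), (.d, true), (.e, true), (.c, true), (.d, true)]),
  (16437, [(.t, true), (.v, true), (.v, true), (.d, true), (.v, true), (.v, true), (.d, true)]),
  (16464, [(.d, true), (.c, true)]),
  (16487, [(.t, true), (.e, true), (.c, true), (.t, true), (.e, true), (.d, true)]),
  (16503, [(.d, true), (.e, true), (.t, true), (.v, true), (.c, true), (.t, true)]),
  (16532, [(.d, true), (.v, true), (.v, true), (.e, true), (.c, true)]),
  (16536, [(.v, true), (.t, true), (.v, true), (.c, true), (.t, true), (.v, true)]),
  (16537, [(.v, true), (.d, true), (.t, true)]),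
  (16539, [(.v, true), (.v, true), (.d, true), (.v, true), (.t, true), (.e, true), (.c, true)]),
  (16544, [(.e, true), (.t, true), (.d, true), (.e, true), (.d, true)]),
  (16552, [(.d, true), (.v, true), (.d, true), (.c, true), (.t, true)]),
  (16644, [(.d, true), (.v, true), (.t, true), (.t, true), (.v, true), (.d, true)]),
  (16651, [(.v, true), (.t, true), (.v, true), (.t, true), (.t, true)]),
  (16661, [(.t, true), (.e, true), (.d, true), (.t, true), (.c, true)]),
  (16667, [(.e, true), (.t, true), (.e, true), (.v, true), (.c, true), (.d, true)]),
  (16674, [(.d, true), (.t, true), (.e, true), (.c, true)]),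
  (16687, [(.v, true), (.v, true), (.e, true)]),
  (16698, [(.v, true), (.t, true), (.e, true), (.v, true), (.d, true)]),
  (16701, [(.d, true), (.v, true), (.t, true), (.v, true), (.v, true), (.e, true), (.c, true)]),
  (16740, [(.t, true), (.v, true), (.d, true), (.c, true), (.d, true)]),
  (16750, [(.d, true), (.e, true), (.d, true), (.c, true), (.d, true)]),
  (16756, [(.t, true), (.e, true), (.v, true), (.e, true)]),
  (16758, [(.e, true), (.d, true), (.v, true), (.d, true), (.v, true)]),
  (16759, [(.v, true), (.e, true), (.d, true), (.c, true)]),
  (16763, [(.v, true), (.t, true), (.v, true), (.t, true), (.v, true), (.e, true), (.c, true)]),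
  (16767, [(.v, true), (.v, true), (.d, true), (.c, true)]),
  (16773, [(.c, true), (.t, true), (.e, true), (.v, true), (.c, true)]),
  (16785, [(.v, true), (.d, true), (.v, true), (.d, true), (.v, true), (.c, true)]),
  (16795, [(.v, true), (.t, true), (.e, true), (.t, true), (.c, true)]),
  (16807, [(.d, true), (.e, true), (.c, true), (.t, true), (.e, true), (.d, true), (.c, true)]),
  (16809, [(.v, true), (.t, true), (.v, true), (.t, true), (.e, true), (.t, true), (.d, true)]),
  (16816, [(.e, true), (.d, true), (.t, true), (.v, true), (.d, true)]),
  (16823, [(.d, true), (.v, true), (.t, true), (.v, true)]),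
  (16828, [(.d, true), (.v, true), (.d, true), (.v, true), (.c, true), (.d, true)]),
  (16845, [(.e, true), (.d, true), (.v, true), (.v, true), (.c, true)]),
  (16856, [(.t, true), (.v, true), (.t, true), (.e, true), (.t, true), (.c, true)]),
  (16860, [(.t, true), (.d, true), (.e, true), (.t, true), (.e, true), (.v, true)]),
  (16864, [(.v, true), (.c, true), (.t, true), (.c, true), (.d, true), (.e, true), (.d, true)]),
  (16874, [(.e, true), (.v, true), (.c, true), (.t, true), (.c, true)]),
  (16875, [(.v, true), (.d, true), (.v, true), (.t, true), (.v, true), (.d, true)]),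
  (16885, [(.c, true), (.t, true), (.d, true), (.v, true), (.t, true)]),
  (16900, [(.d, true), (.e, true), (.d, true), (.v, true), (.t, true), (.c, true)]),
  (16910, [(.d, true), (.v, true), (.t, true), (.v, true), (.c, true), (.t, true)]),
  (16915, [(.e, true), (.t, true), (.d, true), (.v, true), (.t, true)]),
  (16916, [(.v, true), (.d, true), (.v, true), (.t, true), (.d, true), (.v, true), (.c, true)]),
  (16936, [(.d, true), (.v, true), (.t, true), (.e, true), (.v, true), (.e, true), (.c, true)]),
  (16945, [(.v, true), (.e, true), (.v, true), (.d, true), (.c, true)]),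
  (16952, [(.v, true), (.d, true), (.v, true), (.t, true), (.v, true), (.t, true), (.c, true)]),
  (16960, [(.e, true), (.t, true), (.v, true), (.v, true), (.d, true), (.c, true)]),
  (16996, [(.t, true), (.t, true)]),
  (17001, [(.d, true), (.t, true), (.e, true), (.v, true), (.e, true)]),
  (17004, [(.c, true), (.t, true), (.e, true), (.v, true), (.c, true), (.d, true)]),
  (17010, [(.d, true), (.v, true), (.t, true), (.d, true), (.v, true), (.v, true), (.d, true)]),
  (17028, [(.c, true), (.d, true), (.v, true), (.t, true)]),
  (17033, [(.e, true), (.t, true), (.v, true), (.d, true), (.c, true)]),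
  (17061, [(.d, true), (.e, true), (.t, true), (.e, true), (.c, true), (.t, true), (.c, true)]),
  (17068, [(.e, true), (.d, true), (.v, true), (.t, true), (.d, true), (.c, true)]),
  (17089, [(.c, true), (.d, true), (.v, true), (.d, true), (.c, true)]),
  (17095, [(.v, true), (.t, true), (.e, true), (.v, true)]),
  (17100, [(.t, true), (.v, true), (.d, true), (.e, true), (.t, true)]),
  (17108, [(.e, true), (.c, true), (.d, true), (.t, true), (.e, true), (.v, true)]),
  (17115, [(.t, true), (.v, true), (.d, true), (.t, true), (.e, true), (.d, true), (.c, true)]),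
  (17122, [(.e, true), (.t, true), (.e, true), (.t, true), (.d, true), (.e, true)]),
  (17126, [(.v, true), (.d, true), (.v, true), (.e, true)]),
  (17131, [(.c, true), (.d, true), (.e, true), (.v, true), (.t, true), (.e, true)]),
  (17132, [(.t, true), (.v, true), (.c, true), (.d, true), (.t, true), (.d, true)]),
  (17137, [(.e, true), (.t, true), (.e, true), (.v, true)]),
  (17138, [(.t, true), (.e, true), (.v, true), (.d, true), (.e, true), (.t, true), (.d, true)]),
  (17155, [(.d, true), (.e, true), (.t, true), (.e, true), (.v, true), (.t, true)]),
  (17157, [(.v, true), (.t, true), (.v, true), (.d, true), (.c, true), (.t, true)]),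
  (17190, [(.t, true), (.e, true), (.v, true), (.t, true), (.d, true), (.e, true)]),
  (17197, [(.e, true), (.t, true), (.d, true), (.e, true), (.t, true), (.d, true)]),
  (17201, [(.e, true), (.t, true), (.d, true), (.v, true), (.v, true), (.c, true)]),
  (17214, [(.t, true), (.e, true), (.d, true), (.v, true), (.v, true)]),
  (17218, [(.v, true), (.c, true), (.t, true), (.v, true), (.v, true), (.d, true), (.c, true)]),
  (17244, [(.v, true), (.d, true), (.e, true), (.c, true), (.d, true)]),
  (17256, [(.d, true), (.e, true), (.t, true), (.v, true), (.v, true), (.t, true)]),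
  (17257, [(.v, true), (.c, true), (.d, true), (.e, true)]),
  (17260, [(.e, true), (.d, true), (.v, true), (.d, true), (.t, true)]),
  (17268, [(.v, true), (.d, true), (.t, true), (.e, true), (.v, true), (.t, true), (.c, true)]),
  (17269, [(.v, true), (.d, true), (.v, true), (.t, true), (.e, true), (.v, true)]),
  (17285, [(.t, true), (.v, true), (.t, true), (.d, true), (.e, true), (.t, true)]),
  (17286, [(.c, true), (.d, true), (.v, true), (.v, true), (.e, true), (.d, true)]),
  (17314, [(.e, true), (.t, true), (.e, true), (.t, true), (.e, true), (.c, true)]),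
  (17335, [(.t, true), (.e, true), (.t, true), (.t, true), (.c, true)]),
  (17356, [(.t, true), (.v, true), (.d, true), (.t, true), (.c, true)]),
  (17358, [(.v, true), (.c, true), (.d, true), (.t, true), (.e, true), (.v, true)]),
  (17364, [(.d, true), (.t, true), (.v, true), (.v, true), (.t, true)]),
  (17388, [(.c, true), (.d, true), (.v, true), (.t, true), (.e, true), (.v, true), (.d, true)]),
  (17389, [(.v, true), (.t, true), (.v, true), (.t, true), (.e, true)]),
  (17391, [(.t, true), (.v, true), (.d, true), (.t, true), (.e, true), (.v, true), (.c, true)]),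
  (17404, [(.e, true), (.v, true), (.t, true), (.v, true), (.v, true)]),
  (17437, [(.e, true), (.v, true), (.t, true), (.v, true), (.t, true), (.t, true), (.c, true)]),
  (17438, [(.v, true), (.d, true), (.v, true), (.t, true), (.e, true), (.d, true), (.c, true)]),
  (17443, [(.d, true), (.e, true), (.v, true), (.t, true), (.v, true), (.d, true), (.c, true)]),
  (17447, [(.e, true), (.t, true), (.e, true)]),
  (17450, [(.e, true), (.v, true), (.t, true), (.v, true)]),
  (17471, [(.d, true), (.e, true), (.d, true), (.t, true), (.d, true), (.e, true)]),
  (17475, [(.d, true), (.c, true), (.d, true), (.v, true), (.d, true)]),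
  (17477, [(.t, true), (.d, true), (.v, true), (.d, true), (.c, true)]),
  (17495, [(.v, true), (.d, true), (.v, true), (.t, true), (.v, true)]),
  (17498, [(.v, true), (.e, true), (.v, true), (.t, true), (.v, true), (.v, true), (.d, true)]),
  (17515, [(.t, true), (.e, true), (.v, true)]),
  (17518, [(.e, true), (.v, true), (.t, true)]),
  (17523, [(.e, true), (.t, true), (.v, true)]),
  (17525, [(.v, true), (.t, true), (.v, true), (.d, true), (.v, true), (.c, true), (.d, true)]),
  (17581, [(.v, true), (.t, true), (.v, true), (.d, true), (.t, true)]),
  (17589, [(.d, true), (.e, true), (.v, true), (.c, true)]),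
  (17590, [(.c, true), (.d, true), (.t, true), (.v, true), (.v, true)]),
  (17602, [(.t, true), (.e, true), (.d, true), (.t, true), (.e, true)]),
  (17610, [(.e, true), (.v, true), (.e, true), (.d, true), (.c, true)]),
  (17629, [(.d, true), (.e, true), (.t, true), (.d, true), (.v, true), (.v, true), (.c, true)]),
  (17646, [(.v, true), (.t, true), (.v, true), (.d, true), (.v, true)]),
  (17671, [(.e, true), (.t, true), (.e, true), (.d, true), (.t, true), (.e, true)]),
  (17691, [(.t, true), (.e, true), (.t, true), (.v, true), (.t, true)]),
  (17722, [(.v, true), (.d, true), (.t, true), (.e, true), (.t, true), (.e, true)]),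
  (17726, [(.v, true), (.d, true), (.v, true), (.d, true), (.t, true)]),
  (17727, [(.e, true), (.d, true), (.v, true), (.d, true), (.c, true)]),
  (17741, [(.v, true), (.d, true), (.e, true), (.v, true), (.t, true), (.e, true), (.c, true)]),
  (17747, [(.e, true), (.d, true), (.t, true), (.e, true), (.t, true), (.e, true), (.v, true)]),
  (17762, [(.e, true), (.t, true), (.v, true), (.t, true), (.d, true), (.v, true)]),
  (17772, [(.d, true), (.v, true), (.t, true)]),
  (17803, [(.v, true), (.t, true), (.v, true), (.v, true), (.d, true)]),
  (17809, [(.d, true), (.v, true), (.e, true)]),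
  (17812, [(.t, true), (.e, true), (.d, true), (.c, true)]),
  (17835, [(.v, true), (.t, true), (.v, true), (.c, true), (.t, true), (.c, true), (.d, true)]),
  (17845, [(.c, true), (.t, true), (.d, true)]),
  (17856, [(.t, true), (.v, true), (.t, true), (.e, true), (.c, true), (.t, true), (.c, true)]),
  (17857, [(.e, true), (.d, true), (.t, true), (.e, true), (.v, true)]),
  (17860, [(.e, true), (.t, true), (.d, true), (.v, true), (.v, true)]),
  (17883, [(.v, true), (.t, true), (.v, true), (.t, true), (.c, true)]),
  (17884, [(.e, true), (.v, true), (.c, true), (.d, true), (.e, true), (.t, true), (.d, true)]),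
  (17885, [(.t, true), (.e, true), (.d, true), (.v, true), (.c, true), (.d, true), (.c, true)]),
  (17889, [(.c, true), (.d, true), (.v, true)]),
  (17890, [(.t, true), (.v, true), (.t, true), (.e, true)]),
  (17898, [(.v, true), (.t, true), (.v, true), (.t, true), (.v, true), (.v, true)]),
  (17901, [(.t, true), (.v, true), (.d, true), (.v, true), (.t, true), (.v, true), (.e, true)]),
  (17908, [(.t, true), (.v, true), (.d, true), (.t, true), (.t, true), (.e, true), (.d, true)]),
  (17912, [(.d, true), (.e, true), (.v, true), (.d, true)]),
  (17921, [(.t, true), (.v, true), (.d, true), (.v, true)]),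
  (17943, [(.e, true), (.t, true), (.e, true), (.v, true), (.e, true), (.c, true)]),
  (17964, [(.t, true), (.v, true), (.v, true), (.d, true), (.v, true), (.c, true)]),
  (17971, [(.e, true), (.c, true), (.t, true), (.e, true), (.v, true), (.d, true), (.e, true)]),
  (17992, [(.v, true), (.d, true), (.e, true), (.v, true), (.c, true), (.d, true)]),
  (17998, [(.d, true), (.e, true), (.v, true), (.t, true), (.v, true), (.c, true), (.d, true)]),
  (18040, [(.e, true), (.d, true), (.v, true), (.c, true), (.t, true)]),
  (18046, [(.t, true), (.v, true), (.d, true), (.t, true), (.d, true)]),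
  (18050, [(.t, true), (.v, true), (.t, true), (.e, true), (.d, true)]),
  (18052, [(.v, true), (.d, true), (.v, true), (.d, true), (.c, true), (.d, true)]),
  (18094, [(.v, true), (.d, true), (.e, true), (.v, true), (.c, true)]),
  (18107, [(.v, true), (.c, true), (.t, true), (.c, true), (.d, true)]),
  (18112, [(.e, true), (.c, true), (.t, true), (.v, true), (.d, true)]),
  (18129, [(.t, true), (.v, true), (.v, true), (.t, true), (.e, true), (.c, true)]),
  (18133, [(.t, true), (.v, true), (.v, true), (.e, true), (.v, true), (.d, true)]),
  (18143, [(.e, true), (.v, true), (.t, true), (.v, true), (.v, true), (.d, true), (.c, true)]),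
  (18154, [(.v, true), (.c, true), (.t, true)]),
  (18157, [(.c, true), (.d, true), (.t, true), (.e, true), (.d, true), (.v, true)]),
  (18164, [(.c, true), (.d, true), (.v, true), (.t, true), (.d, true)]),
  (18174, [(.e, true), (.t, true), (.v, true), (.v, true), (.d, true), (.v, true)]),
  (18186, [(.e, true), (.t, true), (.t, true), (.e, true)]),
  (18187, [(.t, true), (.v, true), (.d, true), (.v, true), (.d, true), (.c, true)]),
  (18198, [(.v, true), (.v, true), (.e, true), (.v, true), (.c, true)]),
  (18202, [(.c, true), (.d, true), (.e, true), (.d, true), (.t, true)]),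
  (18210, [(.e, true), (.v, true), (.t, true), (.v, true), (.d, true), (.v, true)]),
  (18226, [(.c, true), (.t, true), (.v, true), (.d, true), (.v, true)]),
  (18243, [(.v, true), (.d, true), (.t, true), (.e, true), (.v, true), (.e, true)]),
  (18276, [(.t, true), (.d, true), (.e, true), (.t, true), (.v, true), (.v, true)]),
  (18281, [(.v, true), (.t, true), (.v, true), (.t, true), (.v, true), (.v, true), (.d, true)]),
  (18290, [(.v, true), (.d, true), (.v, true), (.v, true), (.d, true), (.t, true)]),
  (18292, [(.e, true), (.t, true), (.d, true), (.v, true), (.v, true), (.e, true), (.d, true)]),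
  (18300, [(.d, true), (.v, true), (.d, true), (.v, true), (.d, true)]),
  (18307, [(.t, true), (.v, true), (.d, true), (.v, true), (.t, true), (.v, true)]),
  (18322, [(.t, true), (.e, true), (.t, true), (.d, true), (.v, true), (.v, true), (.c, true)]),
  (18328, [(.c, true), (.t, true), (.v, true), (.d, true), (.t, true)]),
  (18351, [(.d, true), (.t, true), (.e, true), (.t, true), (.v, true), (.c, true)]),
  (18358, [(.t, true), (.c, true), (.d, true), (.t, true)]),
  (18361, [(.v, true), (.c, true), (.d, true), (.e, true), (.t, true), (.d, true)]),
  (18372, [(.d, true), (.v, true), (.t, true), (.v, true), (.t, true), (.c, true)]),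
  (18384, [(.c, true), (.d, true), (.e, true), (.v, true), (.c, true), (.d, true)]),
  (18387, [(.v, true), (.t, true), (.v, true), (.t, true), (.e, true), (.v, true)]),
  (18390, [(.d, true), (.t, true), (.v, true), (.t, true), (.v, true), (.v, true)]),
  (18398, [(.e, true), (.t, true), (.v, true), (.d, true), (.t, true), (.t, true)]),
  (18423, [(.d, true), (.v, true), (.c, true), (.t, true), (.e, true), (.v, true), (.d, true)]),
  (18444, [(.d, true), (.c, true), (.d, true), (.v, true), (.v, true)]),
  (18448, [(.v, true), (.t, true), (.d, true), (.e, true), (.d, true), (.t, true)]),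
  (18458, [(.t, true), (.v, true), (.e, true), (.v, true), (.t, true)]),
  (18469, [(.t, true), (.v, true), (.c, true), (.t, true), (.v, true), (.v, true)]),
  (18514, [(.t, true), (.e, true), (.c, true), (.d, true), (.t, true)]),
  (18517, [(.d, true), (.v, true), (.d, true), (.v, true), (.d, true), (.c, true)]),
  (18521, [(.d, true), (.e, true), (.d, true)]),
  (18522, [(.t, true), (.e, true), (.v, true), (.d, true)]),
  (18553, [(.c, true), (.d, true), (.v, true), (.t, true), (.e, true), (.v, true), (.c, true)]),
  (18574, [(.t, true), (.d, true), (.v, true), (.d, true)]),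
  (18583, [(.t, true), (.e, true), (.v, true), (.c, true), (.t, true)]),
  (18590, [(.v, true), (.t, true), (.t, true), (.d, true), (.e, true), (.v, true)]),
  (18609, [(.t, true), (.e, true), (.d, true), (.v, true)]),
  (18618, [(.e, true), (.c, true), (.t, true), (.e, true)]),
  (18630, [(.e, true), (.t, true), (.e, true), (.t, true), (.e, true), (.d, true)]),
  (18638, [(.c, true), (.t, true), (.v, true), (.v, true), (.c, true)]),
  (18640, [(.c, true), (.d, true), (.e, true), (.t, true), (.d, true)]),
  (18672, [(.v, true), (.d, true), (.v, true), (.t, true), (.v, true), (.t, true)]),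
  (18674, [(.d, true), (.e, true), (.t, true), (.e, true), (.d, true), (.t, true), (.c, true)]),
  (18688, [(.e, true), (.t, true), (.e, true), (.v, true), (.d, true), (.e, true)]),
  (18691, [(.d, true), (.v, true), (.t, true), (.e, true), (.t, true), (.c, true)]),
  (18700, [(.t, true), (.d, true), (.v, true), (.c, true)]),
  (18732, [(.d, true), (.t, true), (.v, true), (.t, true), (.v, true), (.t, true)]),
  (18734, [(.e, true), (.t, true), (.v, true), (.d, true), (.t, true), (.d, true), (.c, true)]),
  (18787, [(.v, true), (.c, true), (.t, true), (.e, true), (.c, true), (.d, true), (.c, true)]),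
  (18819, [(.e, true), (.v, true), (.t, true), (.d, true), (.e, true), (.d, true)]),
  (18825, [(.v, true), (.d, true), (.t, true), (.d, true), (.e, true)]),
  (18843, [(.v, true), (.t, true), (.t, true), (.c, true)]),
  (18858, [(.c, true), (.d, true), (.v, true), (.d, true), (.t, true)]),
  (18859, [(.d, true), (.e, true), (.d, true), (.t, true), (.d, true)]),
  (18877, [(.d, true), (.v, true), (.t, true), (.d, true), (.e, true)]),
  (18882, [(.v, true), (.t, true), (.t, true), (.t, true), (.d, true)]),
  (18902, [(.t, true), (.e, true), (.c, true), (.d, true)]),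
  (18905, [(.t, true), (.v, true), (.t, true), (.v, true), (.d, true), (.v, true)]),
  (18909, [(.v, true), (.e, true), (.c, true)]),
  (18917, [(.e, true), (.t, true), (.d, true), (.e, true)]),
  (18934, [(.e, true), (.d, true), (.t, true)]),
  (18951, [(.t, true), (.v, true), (.c, true), (.t, true), (.e, true), (.c, true)]),
  (18955, [(.d, true), (.t, true), (.e, true), (.d, true), (.v, true), (.d, true), (.t, true)]),
  (18964, [(.v, true), (.t, true), (.d, true), (.v, true), (.c, true)]),
  (18965, [(.e, true), (.c, true), (.t, true), (.c, true)]),
  (18976, [(.d, true), (.e, true), (.t, true), (.e, true), (.c, true)]),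
  (18979, [(.t, true), (.e, true), (.d, true), (.t, true), (.t, true)]),
  (18985, [(.t, true), (.d, true), (.v, true), (.t, true), (.e, true), (.t, true)]),
  (18986, [(.t, true), (.e, true), (.d, true), (.v, true), (.t, true), (.c, true)]),
  (18989, [(.d, true), (.v, true), (.v, true), (.d, true), (.c, true)]),
  (18990, [(.v, true), (.v, true), (.t, true), (.t, true), (.d, true)]),
  (18992, [(.e, true), (.v, true), (.d, true), (.t, true), (.v, true), (.d, true), (.c, true)]),
  (18993, [(.v, true), (.t, true), (.v, true), (.e, true), (.v, true), (.v, true)]),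
  (18994, [(.d, true), (.e, true), (.c, true), (.t, true)]),
  (19008, [(.d, true), (.v, true), (.c, true), (.t, true), (.v, true), (.v, true), (.d, true)]),
  (19028, [(.v, true), (.d, true), (.e, true), (.t, true), (.d, true)]),
  (19045, [(.v, true), (.d, true), (.t, true), (.v, true), (.c, true)]),
  (19050, [(.e, true), (.d, true), (.t, true), (.e, true), (.v, true), (.c, true)]),
  (19057, [(.t, true), (.v, true), (.t, true), (.d, true), (.e, true), (.d, true)]),
  (19065, [(.e, true), (.c, true), (.d, true), (.t, true), (.e, true), (.d, true)]),
  (19074, [(.v, true), (.t, true), (.t, true), (.v, true), (.d, true)]),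
  (19089, [(.v, true), (.v, true), (.t, true), (.e, true)]),
  (19097, [(.t, true), (.d, true), (.v, true), (.d, true), (.v, true), (.d, true)]),
  (19101, [(.e, true), (.t, true), (.v, true), (.d, true), (.e, true)]),
  (19107, [(.t, true), (.c, true), (.d, true), (.e, true), (.d, true), (.v, true), (.c, true)]),
  (19110, [(.e, true), (.t, true), (.v, true), (.t, true), (.d, true), (.v, true), (.d, true)]),
  (19130, [(.d, true), (.v, true), (.v, true), (.t, true), (.e, true), (.d, true)]),
  (19139, [(.d, true), (.e, true), (.t, true), (.e, true), (.c, true), (.t, true)]),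
  (19140, [(.d, true), (.t, true), (.e, true), (.t, true), (.e, true), (.t, true)]),
  (19147, [(.v, true), (.d, true), (.v, true), (.t, true), (.t, true), (.t, true)]),
  (19172, [(.e, true), (.v, true), (.t, true), (.v, true), (.v, true), (.d, true)]),
  (19173, [(.c, true), (.d, true), (.v, true), (.t, true), (.v, true), (.t, true)]),
  (19206, [(.d, true), (.e, true), (.t, true), (.e, true), (.d, true), (.c, true)]),
  (19208, [(.d, true), (.v, true), (.t, true), (.v, true), (.e, true), (.c, true)]),
  (19213, [(.d, true), (.v, true), (.d, true), (.t, true), (.e, true), (.d, true), (.c, true)]),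
  (19229, [(.v, true), (.d, true), (.e, true)]),
  (19231, [(.v, true), (.c, true), (.d, true), (.e, true), (.v, true), (.c, true)]),
  (19237, [(.t, true), (.d, true), (.e, true), (.t, true), (.e, true), (.v, true), (.c, true)]),
  (19239, [(.e, true), (.t, true), (.c, true), (.d, true), (.e, true), (.d, true)]),
  (19252, [(.c, true), (.d, true), (.t, true), (.e, true), (.t, true)]),
  (19271, [(.v, true), (.t, true), (.d, true), (.v, true), (.v, true)]),
  (19275, [(.v, true), (.c, true), (.t, true), (.e, true), (.c, true)]),
  (19289, [(.t, true), (.v, true), (.e, true), (.v, true), (.v, true), (.t, true)]),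
  (19295, [(.c, true), (.d, true), (.v, true), (.d, true), (.v, true)]),
  (19296, [(.e, true), (.c, true), (.t, true), (.e, true), (.v, true)]),
  (19315, [(.t, true), (.d, true), (.v, true), (.t, true)]),
  (19319, [(.v, true), (.t, true), (.d, true), (.e, true), (.t, true), (.c, true)]),
  (19328, [(.e, true), (.d, true), (.t, true), (.e, true), (.v, true), (.e, true), (.c, true)]),
  (19339, [(.t, true), (.e, true), (.t, true), (.v, true), (.c, true)]),
  (19342, [(.v, true), (.t, true), (.v, true), (.c, true)]),
  (19360, [(.e, true), (.d, true), (.t, true), (.c, true)]),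
  (19363, [(.t, true), (.v, true), (.t, true), (.c, true), (.d, true)]),
  (19370, [(.v, true), (.d, true), (.v, true), (.d, true), (.v, true), (.d, true), (.c, true)]),
  (19375, [(.v, true), (.c, true), (.d, true), (.v, true), (.d, true), (.t, true)]),
  (19376, [(.e, true), (.d, true), (.v, true), (.t, true), (.v, true), (.d, true)]),
  (19391, [(.t, true), (.v, true), (.d, true), (.v, true), (.t, true), (.e, true)]),
  (19400, [(.e, true), (.v, true), (.d, true), (.e, true), (.t, true), (.v, true), (.d, true)]),
  (19405, [(.d, true), (.e, true), (.t, true), (.v, true), (.c, true)]),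
  (19431, [(.e, true), (.v, true), (.t, true), (.c, true)]),
  (19439, [(.v, true), (.t, true), (.d, true), (.e, true), (.t, true), (.e, true), (.c, true)]),
  (19457, [(.e, true), (.d, true), (.t, true), (.v, true), (.d, true), (.c, true)]),
  (19458, [(.t, true), (.e, true), (.c, true), (.d, true), (.v, true), (.t, true), (.c, true)]),
  (19470, [(.e, true), (.d, true), (.v, true), (.t, true), (.d, true), (.e, true), (.d, true)]),
  (19473, [(.t, true), (.v, true), (.t, true), (.t, true), (.v, true), (.c, true)]),
  (19479, [(.d, true), (.t, true), (.e, true), (.d, true), (.t, true), (.e, true)]),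
  (19489, [(.c, true), (.t, true), (.d, true), (.v, true), (.d, true), (.c, true)]),
  (19503, [(.d, true), (.e, true), (.t, true), (.e, true), (.t, true), (.t, true), (.d, true)]),
  (19504, [(.v, true), (.t, true), (.d, true), (.v, true), (.d, true)]),
  (19505, [(.d, true), (.v, true), (.t, true), (.e, true), (.v, true), (.d, true)]),
  (19532, [(.c, true), (.d, true), (.v, true), (.t, true), (.e, true), (.v, true)]),
  (19541, [(.t, true), (.e, true), (.c, true), (.d, true), (.v, true)]),
  (19542, [(.e, true), (.d, true), (.v, true), (.t, true), (.t, true), (.t, true)]),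
  (19561, [(.t, true), (.v, true), (.d, true), (.v, true), (.v, true)]),
  (19581, [(.e, true), (.t, true), (.v, true), (.v, true), (.e, true)]),
  (19593, [(.v, true), (.d, true), (.v, true), (.d, true), (.t, true), (.d, true)]),
  (19594, [(.v, true), (.d, true), (.t, true), (.e, true), (.t, true)]),
  (19599, [(.v, true), (.d, true), (.e, true), (.t, true), (.v, true), (.d, true)]),
  (19601, [(.e, true), (.v, true), (.d, true), (.t, true), (.e, true)]),
  (19615, [(.t, true), (.e, true), (.v, true), (.t, true), (.v, true), (.d, true)]),
  (19621, [(.e, true), (.t, true), (.t, true), (.d, true), (.e, true), (.v, true)]),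
  (19649, [(.d, true), (.e, true), (.t, true), (.v, true), (.d, true)]),
  (19652, [(.c, true), (.t, true), (.d, true), (.v, true), (.t, true), (.e, true), (.v, true)]),
  (19662, [(.t, true), (.v, true), (.t, true), (.d, true), (.v, true)]),
  (19667, [(.d, true), (.t, true), (.e, true), (.t, true), (.e, true), (.t, true), (.c, true)]),
  (19671, [(.e, true), (.c, true), (.d, true), (.v, true)]),
  (19703, [(.t, true), (.d, true), (.e, true), (.d, true), (.v, true), (.c, true), (.d, true)]),
  (19704, [(.v, true), (.d, true), (.v, true), (.c, true), (.t, true), (.c, true)]),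
  (19717, [(.t, true), (.e, true), (.t, true), (.d, true), (.v, true), (.v, true)]),
  (19719, [(.t, true), (.d, true), (.e, true), (.d, true), (.v, true), (.c, true)]),
  (19729, [(.d, true), (.t, true), (.e, true), (.v, true), (.c, true), (.d, true)]),
  (19733, [(.t, true)]),
  (19742, [(.d, true), (.v, true), (.d, true), (.t, true), (.e, true), (.c, true)]),
  (19747, [(.e, true), (.v, true), (.e, true), (.c, true)]),
  (19748, [(.v, true), (.t, true), (.d, true), (.v, true), (.t, true), (.c, true)]),
  (19768, [(.e, true), (.t, true), (.e, true), (.t, true), (.v, true), (.e, true), (.c, true)]),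
  (19790, [(.t, true), (.e, true), (.d, true), (.t, true), (.e, true), (.v, true), (.c, true)]),
  (19799, [(.e, true), (.d, true), (.v, true)]),
  (19814, [(.v, true), (.d, true), (.v, true), (.t, true), (.t, true), (.d, true)]),
  (19818, [(.v, true), (.d, true), (.v, true)]),
  (19820, [(.t, true), (.d, true), (.e, true), (.d, true), (.t, true), (.c, true)]),
  (19830, [(.v, true), (.t, true), (.d, true), (.v, true), (.t, true), (.e, true), (.v, true), (.c, true)]),
  (19833, [(.d, true), (.e, true), (.v, true), (.c, true), (.d, true), (.e, true), (.c, true)]),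
  (19839, [(.d, true), (.v, true), (.c, true), (.t, true), (.e, true)]),
  (19861, [(.v, true), (.c, true), (.t, true), (.v, true), (.d, true), (.v, true)]),
  (19890, [(.e, true), (.v, true), (.t, true), (.v, true), (.d, true), (.t, true), (.e, true)]),
  (19891, [(.d, true), (.e, true), (.v, true), (.t, true), (.e, true), (.d, true), (.c, true)]),
  (19894, [(.c, true), (.d, true), (.e, true), (.d, true), (.v, true)]),
  (19899, [(.c, true), (.d, true), (.t, true), (.d, true)]),
  (19908, [(.v, true), (.t, true), (.e, true), (.c, true)]),
  (19922, [(.v, true), (.v, true), (.d, true), (.v, true), (.t, true), (.v, true), (.d, true)]),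
  (19925, [(.e, true), (.t, true), (.v, true), (.v, true), (.d, true)]),
  (19959, [(.t, true), (.d, true), (.e, true), (.t, true), (.e, true)]),
  (19964, [(.d, true), (.v, true), (.t, true), (.v, true), (.v, true), (.t, true)]),
  (19973, [(.d, true), (.e, true), (.d, true), (.v, true), (.t, true), (.c, true), (.d, true)]),
  (19987, [(.v, true), (.t, true), (.d, true), (.v, true), (.v, true), (.t, true)]),
  (19989, [(.t, true), (.e, true), (.v, true), (.c, true), (.t, true), (.c, true)]),
  (19991, [(.e, true), (.t, true), (.d, true), (.v, true)]),
  (20005, [(.e, true), (.d, true), (.v, true), (.c, true), (.d, true), (.t, true)]),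
  (20030, [(.d, true), (.t, true), (.v, true), (.t, true), (.e, true), (.v, true)]),
  (20041, [(.d, true), (.e, true), (.d, true), (.v, true), (.d, true), (.c, true)]),
  (20062, [(.t, true), (.e, true), (.d, true), (.v, true), (.t, true), (.d, true), (.v, true)]),
  (20068, [(.d, true), (.v, true), (.d, true), (.v, true), (.e, true)]),
  (20074, [(.d, true), (.v, true), (.t, true), (.t, true), (.d, true), (.e, true)]),
  (20087, [(.c, true), (.t, true), (.v, true), (.d, true), (.c, true)]),
  (20102, [(.v, true), (.t, true), (.e, true), (.d, true), (.t, true), (.c, true)]),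
  (20106, [(.e, true), (.t, true), (.e, true), (.t, true), (.c, true), (.d, true)]),
  (20111, [(.t, true), (.v, true), (.v, true), (.d, true), (.v, true), (.v, true), (.t, true)]),
  (20114, [(.v, true), (.t, true), (.v, true), (.t, true), (.e, true), (.d, true), (.c, true)]),
  (20117, [(.v, true), (.d, true), (.v, true), (.t, true)]),
  (20120, [(.d, true), (.t, true), (.e, true), (.t, true), (.e, true), (.d, true), (.c, true)]),
  (20156, [(.t, true), (.d, true), (.v, true)]),
  (20160, [(.d, true), (.v, true), (.t, true), (.d, true), (.v, true), (.v, true), (.c, true)]),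
  (20168, [(.e, true), (.t, true), (.t, true), (.e, true), (.d, true)]),
  (20169, [(.t, true), (.e, true), (.d, true), (.c, true), (.t, true)]),
  (20174, [(.e, true), (.t, true), (.v, true), (.e, true)]),
  (20179, [(.t, true), (.t, true), (.v, true), (.v, true), (.c, true)]),
  (20181, [(.t, true), (.v, true), (.d, true), (.t, true), (.e, true), (.d, true)]),
  (20186, [(.v, true), (.d, true), (.v, true), (.t, true), (.c, true)]),
  (20189, [(.v, true), (.d, true), (.v, true), (.d, true), (.t, true), (.e, true)]),
  (20190, [(.v, true), (.d, true), (.v, true), (.d, true), (.v, true), (.d, true)]),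
  (20222, [(.t, true), (.t, true), (.d, true), (.e, true), (.t, true), (.e, true), (.v, true)]),
  (20250, [(.v, true), (.v, true), (.t, true), (.t, true)]),
  (20301, [(.d, true), (.t, true), (.t, true)]),
  (20304, [(.e, true), (.v, true), (.c, true), (.t, true), (.v, true), (.d, true)]),
  (20313, [(.e, true), (.v, true), (.v, true)]),
  (20343, [(.t, true), (.e, true), (.t, true), (.e, true), (.d, true), (.v, true), (.c, true)]),
  (20364, [(.d, true), (.v, true), (.d, true), (.v, true), (.c, true)]),
  (20374, [(.e, true), (.v, true), (.t, true), (.e, true)]),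
  (20378, [(.e, true), (.t, true), (.e, true), (.d, true), (.t, true), (.c, true)]),
  (20418, [(.e, true), (.v, true), (.t, true), (.d, true), (.c, true)]),
  (20428, [(.e, true), (.v, true), (.d, true)]),
  (20445, [(.v, true), (.c, true), (.t, true), (.e, true), (.d, true), (.c, true)]),
  (20451, [(.e, true), (.c, true), (.t, true), (.e, true), (.c, true), (.d, true)]),
  (20462, [(.v, true), (.c, true), (.t, true), (.v, true), (.d, true), (.c, true)]),
  (20476, [(.v, true), (.d, true), (.t, true), (.e, true), (.v, true), (.c, true), (.d, true)]),
  (20495, [(.t, true), (.d, true), (.e, true), (.t, true), (.v, true), (.v, true), (.c, true)]),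
  (20496, [(.v, true), (.t, true), (.v, true), (.c, true), (.d, true)]),
  (20499, [(.c, true), (.d, true), (.e, true), (.t, true), (.t, true)]),
  (20503, [(.v, true), (.d, true), (.t, true), (.v, true), (.t, true)]),
  (20509, [(.d, true), (.e, true), (.d, true), (.v, true), (.t, true), (.e, true), (.d, true)]),
  (20512, [(.c, true), (.d, true), (.t, true), (.e, true), (.v, true)])]

end Cfsg.Agent.Lib.Helper4.J3M
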