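import Cfsg.Agent.Lib.Helper10.J3WMain

set_option autoImplicit false

/-!
# Homomorphisms from presented groups into the Janko group `J₃` on 20520 points, given by words

On top of helper10's word calculus (`gw w` for a word `w` in the two generators of orders 19, 17 and their
inverses): relators are checked on the three rigidity points, and lower bounds for the order of a subgroup are
read off from an orbit.
-/

namespace Cfsg.Agent.Lib.Helper4.J3M

open Cfsg.Agent.Lib.Helper10.SX Cfsg.Agent.Lib.Helper10.J3M Cfsg.Agent.Lib.Helper10.J3W

noncomputable section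

variable {α : Type}

/-- a word in the generators `α` as a word in the four letters -/
def expand (wa : α → List ℕ) : List (α × Bool) → List ℕ
  | [] => []
  | (x, true) :: L => wa x ++ expand wa L
  | (x, false) :: L => winv (wa x) ++ expand wa L

theorem lift_mk_gw (wa : α → List ℕ) (L : List (α × Bool)) :
    FreeGroup.lift (fun x => gw (wa x)) (FreeGroup.mk L) = gw (expand wa L) := by
  induction L with
  | nil => exact map_one _
  | cons p L ih =>
    have h : (FreeGroup.mk (p :: L) : FreeGroup α) = FreeGroup.mk [p] * FreeGroup.mk L := by
      rw [FreeGroup.mul_mk]; rfl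
    rw [h, map_mul, ih]
    obtain ⟨x, b⟩ := p
    cases b with
    | true =>
      have : (FreeGroup.mk [(x, true)] : FreeGroup α) = FreeGroup.of x := rfl
      rw [this, FreeGroup.lift_apply_of]
      show gw (wa x) * gw (expand wa L) = gw (wa x ++ expand wa L)
      rw [gw_append]
    | false =>
      have : (FreeGroup.mk [(x, false)] : FreeGroup α) = (FreeGroup.of x)⁻¹ := by
        rw [FreeGroup.of, FreeGroup.inv_mk]; rfl
      rw [this, map_inv, FreeGroup.lift_apply_of]
      show (gw (wa x))⁻¹ * gw (expand wa L) = gw (winv (wa x) ++ expand wa L)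
      rw [gw_append, gw_winv]

/-- a relator holds for the words as soon as its expansion fixes the three rigidity points -/
theorem lift_mk_eq_one (wa : α → List ℕ) (L : List (α × Bool)) (h : sigEq (expand wa L) [] = true) :
    FreeGroup.lift (fun x => gw (wa x)) (FreeGroup.mk L) = 1 := by
  rw [lift_mk_gw, (sigEq_iff _ _).mp h, gw_nil]

theorem gw_expand_mem (wa : α → List ℕ) (K : Subgroup ↥G) (hK : ∀ x, gw (wa x) ∈ K)
    (L : List (α × Bool)) : gw (expand wa L) ∈ K := by
  rw [← lift_mk_gw]
  have : ∀ w : FreeGroup α, FreeGroup.lift (fun x => gw (wa x)) w ∈ K := by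
    intro w
    induction w using FreeGroup.induction_on with
    | C1 => rw [map_one]; exact K.one_mem
    | of x => rw [FreeGroup.lift_apply_of]; exact hK x
    | inv_of x ih => rw [map_inv]; exact K.inv_mem ih
    | mul u v hu hv => rw [map_mul]; exact K.mul_mem hu hv
  exact this _

/-- strictly increasing list of numbers -/
def sortedB : List ℕ → Bool
  | [] => true
  | [_] => true
  | a :: b :: l => Nat.blt a b && sortedB (b :: l)

theorem pairwise_of_sortedB : ∀ l : List ℕ, sortedB l = true → l.Pairwise (· < ·)
  | [], _ => List.Pairwise.nil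
  | [_], _ => List.pairwise_singleton _ _
  | a :: b :: l, h => by
    unfold sortedB at h
    rw [Bool.and_eq_true] at h
    have hab : a < b := by simpa [Nat.blt] using h.1
    have ih := pairwise_of_sortedB (b :: l) h.2
    refine List.Pairwise.cons ?_ ih
    intro c hc
    rcases List.mem_cons.mp hc with rfl | hc
    · exact hab
    · exact lt_trans hab (List.rel_of_pairwise_cons ih hc)

/-- the orbit data: each point is the image of the base point under the word -/
def orbOK (wa : α → List ℕ) (p0 : ℕ) (D : List (ℕ × List (α × Bool))) : Bool :=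
  D.all fun d => Nat.beq (evalL 20520 (codesW (expand wa d.2)) p0) d.1

/-- a subgroup containing the words has at least as many elements as the orbit data has points -/
theorem le_card_of_orbit (wa : α → List ℕ) (p0 : Fin 20520) (D : List (ℕ × List (α × Bool)))
    (hD : orbOK wa p0.val D = true) (hs : sortedB (D.map Prod.fst) = true)
    (K : Subgroup ↥G) (hK : ∀ x, gw (wa x) ∈ K) : D.length ≤ Nat.card ↥K := by
  haveI : Finite ↥G := Cfsg.Agent.Lib.Helper10.J3W.finite_G
  have hnd : (D.map Prod.fst).Nodup :=
    (pairwise_of_sortedB _ hs).imp (fun h => Nat.ne_of_lt h)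
  let ι : Fin D.length → ↥K := fun i => ⟨gw (expand wa (D.get i).2), gw_expand_mem wa K hK _⟩
  have hι : ∀ i : Fin D.length, ((ι i : ↥G) • p0).val = (D.get i).1 := by
    intro i
    show (gw (expand wa (D.get i).2) • p0).val = _
    rw [gw_smul_val]
    unfold orbOK at hD
    rw [List.all_eq_true] at hD
    exact Nat.eq_of_beq_eq_true (hD _ (List.get_mem D i))
  have hinj : Function.Injective ι := by
    intro i j hij
    have h1 : (D.get i).1 = (D.get j).1 := by rw [← hι i, ← hι j, hij]
    have h2 : (D.map Prod.fst).get ⟨i.val, by rw [List.length_map]; exact i.isLt⟩ =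
        (D.map Prod.fst).get ⟨j.val, by rw [List.length_map]; exact j.isLt⟩ := by
      simp only [List.get_eq_getElem, List.getElem_map]
      simpa using h1
    have h3 := (List.Nodup.get_inj_iff hnd).mp h2
    exact Fin.ext (by simpa using h3)
  have := Nat.card_le_card_of_injective ι hinj
  rwa [Nat.card_eq_fintype_card, Fintype.card_fin] at this

/-- the range of the homomorphism from a presented group is generated by the images of the generators -/
theorem range_toGroup {H : Type} [Group H] {rels : Set (FreeGroup α)} {f : α → H}
    (h : ∀ r ∈ rels, FreeGroup.lift f r = 1) :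
    (PresentedGroup.toGroup h).range = Subgroup.closure (Set.range f) := by
  rw [MonoidHom.range_eq_map, ← PresentedGroup.closure_range_of, MonoidHom.map_closure]
  congr 1
  ext y
  constructor
  · rintro ⟨_, ⟨x, rfl⟩, rfl⟩
    exact ⟨x, (PresentedGroup.toGroup.of h).symm⟩
  · rintro ⟨x, rfl⟩
    exact ⟨_, ⟨x, rfl⟩, PresentedGroup.toGroup.of h⟩

end

end Cfsg.Agent.Lib.Helper4.J3M
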