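import Cfsg.Agent.Lib.Helper4.J3M.Abstract
import Cfsg.Agent.Lib.Helper4.J3M.WordHom
import Cfsg.Agent.Lib.Helper4.J3M.HOrbit
import Cfsg.Agent.Lib.Helper4.J2M.EAMain
import Cfsg.Agent.Lib.Helper4.J2M.EHMain
import Cfsg.Agent.Lib.Helper4.J2M.Rep200
import Cfsg.Agent.Lib.Helper3.Cover.Finite
import Cfsg.Agent.Lib.Helper28.TC2Tower

set_option autoImplicit false
set_option maxRecDepth 100000

/-!
# The 2-part of the Schur multiplier of `J₃`

The centraliser `H = 2^{1+4}:A₅` of an involution of `J₃` is isomorphic to the centraliser of a 2-central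
involution of `J₂`; its covering presentation (from the computation of the multiplier of `J₂`) has order at most
3840, and in it the lifts of the involutions `c` (inside `O₂(H)`) and `d` (outside) have different squares.  All
involutions of `J₃` are conjugate, so no stem extension of `J₃` has an involution in its kernel.
-/

namespace Cfsg.Agent.Lib.Helper4.J3M

open Subgroup Cfsg.Agent.Lib.Helper3.Cover Cfsg.Agent.Lib.Helper28.TC2Tower Cfsg.Agent.Lib.Helper4.J2M
open Cfsg.Agent.Lib.Helper10.SX Cfsg.Agent.Lib.Helper10.J3M Cfsg.Agent.Lib.Helper10.J3W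

noncomputable section

/-! ### the order of the covering presentation of `H` -/

theorem card_le_of_quot' {K : Type*} [Group K] (H : Subgroup K) {n m : ℕ}
    (hfq : Finite (K ⧸ H)) (hfH : Finite H)
    (hq : Nat.card (K ⧸ H) ≤ n) (hH : Nat.card H ≤ m) : Finite K ∧ Nat.card K ≤ n * m := by
  haveI := hfq
  haveI := hfH
  have hidx : H.index = Nat.card (K ⧸ H) := Subgroup.index_eq_card H
  have hne : H.index ≠ 0 := by
    rw [hidx]; exact Nat.card_pos.ne'
  have hcard : Nat.card K = H.index * Nat.card H := (H.index_mul_card).symm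
  refine ⟨?_, ?_⟩
  · apply Nat.finite_of_card_ne_zero
    rw [hcard]
    exact Nat.mul_ne_zero hne Nat.card_pos.ne'
  · rw [hcard, hidx]
    exact Nat.mul_le_mul hq hH

theorem cardEA' : Finite LvA.cover.E ∧ Nat.card LvA.cover.E ≤ 120 := by
  obtain ⟨hfq, hq⟩ := EAMain.mainU
  have e : (Subgroup.closure EALink.S).map (PresentedGroup.mk EALink.rels) = ⊥ := by
    show (Subgroup.closure {1}).map _ = ⊥
    rw [Subgroup.closure_singleton_one, Subgroup.map_bot]
  rw [e] at hfq hq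
  have h := card_le_of_quot' (⊥ : Subgroup (PresentedGroup EALink.rels)) hfq inferInstance hq
    (le_of_eq Subgroup.card_bot)
  rw [mul_one] at h
  exact h

theorem hS_H' : ∀ s ∈ EHLink.S, ∃ b, s = FreeGroup.of (upAH b) := by
  intro s hs
  simp only [EHLink.S, Set.mem_insert_iff, Set.mem_singleton_iff] at hs
  rcases hs with rfl | rfl
  exacts [⟨.d, rfl⟩, ⟨.v, rfl⟩]

theorem cardEH' : Finite LvH.cover.E ∧ Nat.card LvH.cover.E ≤ 3840 := by
  haveI : Finite (PresentedGroup LvA.cover.relsE) := cardEA'.1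
  have hrel := hrel_of_words EHLink.rels LvA.cover.relsE upAH EHLink.relWords LvA.relWords
    EHLink.link.hrels (fun _ => Iff.rfl) upE_AH
  obtain ⟨hfin, hle⟩ := card_le_of_subpres EHLink.rels LvA.cover.relsE upAH hrel EHLink.S hS_H'
  obtain ⟨hfq, hq⟩ := EHMain.mainU
  exact card_le_of_quot' _ hfq hfin hq (le_trans hle cardEA'.2)

instance finite_EH : Finite LvH.cover.E := cardEH'.1

/-! ### the squares of the lifts of `c` and `d` -/

theorem toEJ_rel : ∀ r ∈ LvH.cover.relsE,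
    FreeGroup.lift (fun x => (PresentedGroup.of (upHJ x) : LvJ.cover.E)) r = 1 := by
  have key : FreeGroup.lift (fun b => (PresentedGroup.of (upHJ b) : LvJ.cover.E)) =
      (PresentedGroup.mk LvJ.cover.relsE).comp (FreeGroup.map upHJ) := by
    ext b
    simp [PresentedGroup.of]
  rintro _ ⟨L, hL, rfl⟩
  rw [key, MonoidHom.comp_apply, map_mk]
  exact PresentedGroup.one_of_mem ⟨_, upE_HJ L hL, rfl⟩

/-- the covering presentation of `H` maps to the covering presentation of `J₂` -/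
def toEJ : LvH.cover.E →* LvJ.cover.E := PresentedGroup.toGroup toEJ_rel

theorem toEJ_mk (L : List (GH × Bool)) :
    toEJ (PresentedGroup.mk _ (FreeGroup.mk L)) = PresentedGroup.mk _ (FreeGroup.mk (upWord upHJ L)) := by
  have key : FreeGroup.lift (fun b => (PresentedGroup.of (upHJ b) : LvJ.cover.E)) =
      (PresentedGroup.mk LvJ.cover.relsE).comp (FreeGroup.map upHJ) := by
    ext b
    simp [PresentedGroup.of]
  show FreeGroup.lift (fun b => (PresentedGroup.of (upHJ b) : LvJ.cover.E)) (FreeGroup.mk L) = _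
  rw [key, MonoidHom.comp_apply, map_mk]

/-- the word `c² d⁻²` -/
def wκ : List (GH × Bool) := [(.c, true), (.c, true), (.d, false), (.d, false)]

theorem eval_κ : Cfsg.Agent.Lib.Helper10.SW.evalL 200
    ((upWord upHJ wκ).map (PackHom.lcode Rep200.code Rep200.codeInv)) 0 = 21 := by
  decide +kernel

theorem κ_ne_one : (PresentedGroup.mk LvH.cover.relsE (FreeGroup.mk wκ) : LvH.cover.E) ≠ 1 := by
  obtain ⟨ψ, h⟩ := Rep200.exists_rep
  intro h0
  have h1 := h (upWord upHJ wκ) ⟨0, by norm_num⟩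
  rw [← toEJ_mk, h0, map_one, map_one] at h1
  rw [eval_κ] at h1
  exact absurd h1 (by decide)

/-- the lift of `c` -/
def ec : LvH.cover.E := PresentedGroup.of GH.c

/-- the lift of `d` -/
def ed : LvH.cover.E := PresentedGroup.of GH.d

theorem sq_ne : ec ^ 2 ≠ ed ^ 2 := by
  intro h
  apply κ_ne_one
  have : (PresentedGroup.mk LvH.cover.relsE (FreeGroup.mk wκ) : LvH.cover.E) = ec ^ 2 * (ed ^ 2)⁻¹ := by
    have h1 : (FreeGroup.mk wκ : FreeGroup GH) =
        FreeGroup.of GH.c ^ 2 * (FreeGroup.of GH.d ^ 2)⁻¹ := by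
      simp only [wκ, FreeGroup.of, pow_two, FreeGroup.mul_mk, FreeGroup.inv_mk, FreeGroup.invRev]
      rfl
    rw [h1, map_mul, map_inv, map_pow, map_pow]
    rfl
  rw [this, h, mul_inv_cancel]

theorem two_le_card_ker : 2 ≤ Nat.card LvH.cover.proj.ker := by
  have hmem : (PresentedGroup.mk LvH.cover.relsE (FreeGroup.mk wκ) : LvH.cover.E) ∈ LvH.cover.proj.ker := by
    rw [MonoidHom.mem_ker, CoverData.proj_mk]
    have h1 : (FreeGroup.mk wκ : FreeGroup GH) =
        FreeGroup.mk LvH.r_c2 * (FreeGroup.mk LvH.r_d2)⁻¹ := by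
      simp only [wκ, LvH.r_c2, LvH.r_d2, FreeGroup.mul_mk, FreeGroup.inv_mk, FreeGroup.invRev]
      rfl
    have hc2 : PresentedGroup.mk (relSet LvH.cover.R) (FreeGroup.mk LvH.r_c2) = 1 :=
      LvH.hR LvH.r_c2 (by simp [LvH.R])
    have hd2 : PresentedGroup.mk (relSet LvH.cover.R) (FreeGroup.mk LvH.r_d2) = 1 :=
      LvH.hR LvH.r_d2 (by simp [LvH.R])
    rw [h1, map_mul, map_inv, hc2, hd2, inv_one, mul_one]
  by_contra hlt
  have h1 : Nat.card LvH.cover.proj.ker ≤ 1 := by omega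
  haveI : Subsingleton ↥LvH.cover.proj.ker := (Finite.card_le_one_iff_subsingleton).mp h1
  have := Subsingleton.elim (⟨_, hmem⟩ : ↥LvH.cover.proj.ker) 1
  exact κ_ne_one (congrArg Subtype.val this)

theorem card_PH_le : Nat.card LvH.cover.P ≤ 1920 := by
  have h1 := LvH.cover.card_E
  have h2 := cardEH'.2
  have h3 := two_le_card_ker
  nlinarith

/-! ### the subgroup `H` of `J₃` -/

/-- the words of the five generators of `H` -/
def wH : GH → List ℕ
  | .c => [0, 0, 2, 1, 3, 0, 2, 2, 2, 1, 2, 0, 0, 2, 1, 3, 0, 2, 2, 2, 1, 3, 0, 2, 2, 2, 0, 0, 2, 1, 3, 0, 2, 2, 2, 1, 3, 0, 2, 0, 2, 2, 2, 0, 0, 2, 1, 3, 0, 2, 2, 2, 1, 3, 0, 2, 2, 2]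
  | .d => [0, 0, 2, 1, 3, 0, 2, 2, 2, 1, 3, 3, 1, 2, 0, 3, 3, 3, 1, 2, 0, 3, 1, 1, 3, 3, 0, 2, 2, 0, 3, 3, 3, 1, 2, 0, 3, 1, 1, 3, 0, 3, 3, 3, 1, 2, 0, 3, 1, 1, 3, 3, 0, 2, 2, 2]
  | .e => [0, 0, 2, 1, 3, 0, 2, 2, 2, 1, 3, 3, 1, 3, 1, 2, 0, 3, 3, 3, 1, 2, 0, 3, 1, 1, 3, 3, 0, 2, 2, 2]
  | .t => [3, 3, 0, 2, 2, 2, 0, 0, 2, 1, 3, 0, 2, 2, 2, 1, 3, 0, 2, 2, 2, 0, 0, 2, 1, 3, 0, 2, 2, 2, 1, 2, 3, 3, 0, 2, 0, 2, 2, 0, 3, 3, 3, 1, 2, 0, 3, 1, 1, 3, 3, 3, 1, 3, 1, 2, 2, 0, 0, 2, 1, 3, 0, 2, 2, 2, 1, 2, 0, 0, 2, 1, 3, 0, 2, 2, 2, 1, 2]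
  | .v => [3, 3, 0, 2, 0, 2, 2, 0, 3, 3, 3, 1, 2, 0, 3, 1, 1, 3, 3, 3, 1, 2, 0, 3, 3, 3, 1, 2, 0, 3, 1, 1, 3, 3, 0, 2, 2, 2, 0, 0, 2, 1, 3, 0, 2, 2, 2, 1, 2]

/-- the five generators of `H` -/
def fH (x : GH) : ↥G := gw (wH x)

theorem relH_ok : (LvH.R.all fun r => sigEq (expand wH r) []) = true := by
  decide +kernel

theorem hrelH : ∀ r ∈ relSet LvH.cover.R, FreeGroup.lift fH r = 1 := by
  rintro _ ⟨L, hL, rfl⟩
  apply lift_mk_eq_one
  have h := relH_ok
  rw [List.all_eq_true] at h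
  exact h _ hL

/-- the homomorphism from the presented group `H` -/
def πH : LvH.cover.P →* ↥G := PresentedGroup.toGroup hrelH

/-- the subgroup `H` of `J₃` -/
def Hsub : Subgroup ↥G := Subgroup.closure (Set.range fH)

theorem range_πH : πH.range = Hsub := range_toGroup hrelH

theorem orbH_ok : orbOK wH 1 orbH = true := by
  decide +kernel

theorem orbH_sorted : sortedB (orbH.map Prod.fst) = true := by
  decide +kernel

theorem orbH_length : orbH.length = 1920 := by
  decide +kernel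

instance finite_PH : Finite LvH.cover.P :=
  Finite.of_surjective LvH.cover.proj LvH.cover.proj_surjective

theorem le_card_H3 : 1920 ≤ Nat.card ↥Hsub := by
  have h := le_card_of_orbit wH ⟨1, by norm_num⟩ orbH orbH_ok orbH_sorted Hsub
    (fun x => Subgroup.subset_closure ⟨x, rfl⟩)
  rwa [orbH_length] at h

/-- the homomorphism onto `H` -/
def πH' : LvH.cover.P →* ↥Hsub :=
  πH.codRestrict Hsub (fun x => by rw [← range_πH]; exact ⟨x, rfl⟩)

theorem πH'_surjective : Function.Surjective πH' := by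
  rintro ⟨y, hy⟩
  rw [← range_πH] at hy
  obtain ⟨x, rfl⟩ := hy
  exact ⟨x, rfl⟩

theorem card_PH : Nat.card LvH.cover.P = 1920 := by
  haveI : Finite ↥G := Cfsg.Agent.Lib.Helper10.J3W.finite_G
  have h1 := Nat.card_le_card_of_surjective πH' πH'_surjective
  have h2 := le_card_H3
  have h3 := card_PH_le
  omega

theorem card_H3 : Nat.card ↥Hsub = 1920 := by
  haveI : Finite ↥G := Cfsg.Agent.Lib.Helper10.J3W.finite_G
  have h1 := Nat.card_le_card_of_surjective πH' πH'_surjective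
  have h2 := le_card_H3
  have h3 := card_PH_le
  omega

/-- the presented group is isomorphic to `H` -/
def φH : LvH.cover.P ≃* ↥Hsub :=
  MulEquiv.ofBijective πH' ((Nat.bijective_iff_surjective_and_card πH').mpr
    ⟨πH'_surjective, by rw [card_PH, card_H3]⟩)

theorem φH_of (x : GH) : ((φH (PresentedGroup.of x) : ↥Hsub) : ↥G) = fH x :=
  PresentedGroup.toGroup.of hrelH

instance finiteIndex_H3 : Hsub.FiniteIndex := by
  haveI : Finite ↥G := Cfsg.Agent.Lib.Helper10.J3W.finite_G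
  infer_instance

theorem index_H3 : Hsub.index = 26163 := by
  have h := Hsub.index_mul_card
  rw [card_H3, card_G] at h
  omega

theorem card_ker_le : Nat.card ↥LvH.cover.proj.ker ≤ 2 := by
  have h1 := LvH.cover.card_E
  have h2 := cardEH'.2
  rw [card_PH] at h1
  omega

theorem gw_ne_one {w : List ℕ} (h : sigEq w [] = false) : gw w ≠ 1 := by
  rw [← gw_nil]
  exact (sigEq_eq_false_iff _ _).mp h

theorem cd_ne : sigEq (wH GH.c) [] = false ∧ sigEq (wH GH.d) [] = false := by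
  decide +kernel

theorem orderOf_fH_c : orderOf (fH GH.c) = 2 := by
  apply orderOf_eq_prime
  · have := hrelH _ ⟨LvH.r_c2, by simp [LvH.cover, LvH.R], rfl⟩
    have h1 : (FreeGroup.mk LvH.r_c2 : FreeGroup GH) = FreeGroup.of GH.c ^ 2 := by
      simp only [LvH.r_c2, FreeGroup.of, pow_two, FreeGroup.mul_mk]
      rfl
    rw [h1, map_pow, FreeGroup.lift_apply_of] at this
    exact this
  · exact gw_ne_one cd_ne.1

theorem orderOf_fH_d : orderOf (fH GH.d) = 2 := by
  apply orderOf_eq_prime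
  · have := hrelH _ ⟨LvH.r_d2, by simp [LvH.cover, LvH.R], rfl⟩
    have h1 : (FreeGroup.mk LvH.r_d2 : FreeGroup GH) = FreeGroup.of GH.d ^ 2 := by
      simp only [LvH.r_d2, FreeGroup.of, pow_two, FreeGroup.mul_mk]
      rfl
    rw [h1, map_pow, FreeGroup.lift_apply_of] at this
    exact this
  · exact gw_ne_one cd_ne.2

theorem proj_sq_c : LvH.cover.proj ec ^ 2 = 1 := by
  rw [ec, CoverData.proj_of]
  have h1 : (PresentedGroup.of GH.c : LvH.cover.P) ^ 2 =
      PresentedGroup.mk _ (FreeGroup.mk LvH.r_c2) := by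
    have : (FreeGroup.mk LvH.r_c2 : FreeGroup GH) = FreeGroup.of GH.c ^ 2 := by
      simp only [LvH.r_c2, FreeGroup.of, pow_two, FreeGroup.mul_mk]
      rfl
    rw [this, map_pow]
    rfl
  rw [h1]
  exact LvH.hR LvH.r_c2 (by simp [LvH.R])

theorem proj_sq_d : LvH.cover.proj ed ^ 2 = 1 := by
  rw [ed, CoverData.proj_of]
  have h1 : (PresentedGroup.of GH.d : LvH.cover.P) ^ 2 =
      PresentedGroup.mk _ (FreeGroup.mk LvH.r_d2) := by
    have : (FreeGroup.mk LvH.r_d2 : FreeGroup GH) = FreeGroup.of GH.d ^ 2 := by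
      simp only [LvH.r_d2, FreeGroup.of, pow_two, FreeGroup.mul_mk]
      rfl
    rw [this, map_pow]
    rfl
  rw [h1]
  exact LvH.hR LvH.r_d2 (by simp [LvH.R])

/-- **The 2-part**: the kernel of a stem extension of `J₃` contains no involution. -/
theorem two_part (Γ : Type) [Group Γ] [Finite Γ] (σ : Γ →* ↥G) (hσ : Cfsg.IsStemExtension σ)
    (z : Γ) (hz : z ∈ σ.ker) (hz2 : z ^ 2 = 1) : z = 1 := by
  refine no_involution_of_cover LvH.cover card_ker_le Hsub φH (by rw [index_H3]; decide) ec ed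
    proj_sq_c proj_sq_d sq_ne ?_ σ hσ z hz hz2
  rw [ec, ed, CoverData.proj_of, CoverData.proj_of, φH_of, φH_of]
  exact G_involutions_conj _ _ orderOf_fH_c orderOf_fH_d

end

end Cfsg.Agent.Lib.Helper4.J3M
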