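import Cfsg.Agent.Lib.Helper4.J3M.UPart
import Cfsg.Agent.Lib.Helper4.J3M.HPart
import Cfsg.Agent.Lib.Helper10.J3MFinal
import Cfsg.Agent.Lib.Helper10.J3PIso
import Cfsg.Agent.Lib.Helper3.Cover.Univ

set_option autoImplicit false
set_option maxRecDepth 100000

/-!
# The Schur multiplier of the Janko group `J₃` is cyclic of order 3

Existence: helper10's triple cover inside `SU₉(4)`, generated by two elements of orders 19 and 17, hence perfect.
Upper bound: one prime at a time, on helper10's permutation model on 20520 points; cyclic Sylow subgroups for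
5, 17, 19, the centraliser of an involution for 2, the normaliser of a Sylow 3-subgroup for 3.
-/

namespace Cfsg.Agent.Lib.Helper4.J3M

open Subgroup Cfsg.Agent.Lib.Helper3.SchurM
open Cfsg.Agent.Lib.Helper10.SX Cfsg.Agent.Lib.Helper10.SXM Cfsg.Agent.Lib.Helper10.J3M Cfsg.Agent.Lib.Helper10.J3W

noncomputable section

/-! ### cyclic Sylow subgroups -/

theorem gw_pow (w : List ℕ) (n : ℕ) : gw w ^ n = gw ((List.replicate n w).flatten) := by
  induction n with
  | zero => rw [pow_zero, List.replicate_zero, List.flatten_nil, gw_nil]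
  | succ n ih => rw [pow_succ', ih, List.replicate_succ, List.flatten_cons, gw_append]

theorem orderOf_gw (w : List ℕ) (p : ℕ) [hp : Fact p.Prime]
    (h1 : sigEq ((List.replicate p w).flatten) [] = true) (h2 : sigEq w [] = false) :
    orderOf (gw w) = p := by
  apply orderOf_eq_prime
  · rw [gw_pow, (sigEq_iff _ _).mp h1, gw_nil]
  · exact gw_ne_one h2

theorem cyc_chk : sigEq ((List.replicate 19 [0]).flatten) [] = true ∧ sigEq [0] [] = false ∧
    sigEq ((List.replicate 17 [2]).flatten) [] = true ∧ sigEq [2] [] = false ∧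
    sigEq ((List.replicate 5 [0, 2, 0, 2]).flatten) [] = true ∧ sigEq [0, 2, 0, 2] [] = false := by
  decide +kernel

theorem index_zpowers (g : ↥G) (p : ℕ) (h : orderOf g = p) : (zpowers g).index * p = 50232960 := by
  have h1 := (zpowers g).index_mul_card
  rw [Nat.card_zpowers, h, card_G] at h1
  exact h1

theorem prime_dvd_card {p : ℕ} (hp : p.Prime) (h : p ∣ 50232960) :
    p = 2 ∨ p = 3 ∨ p = 5 ∨ p = 17 ∨ p = 19 := by
  have e : 50232960 = 2 ^ 7 * 3 ^ 5 * 5 * 17 * 19 := by norm_num
  rw [e] at h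
  rcases (Nat.Prime.dvd_mul hp).mp h with h | h
  · rcases (Nat.Prime.dvd_mul hp).mp h with h | h
    · rcases (Nat.Prime.dvd_mul hp).mp h with h | h
      · rcases (Nat.Prime.dvd_mul hp).mp h with h | h
        · exact Or.inl ((Nat.prime_dvd_prime_iff_eq hp Nat.prime_two).mp (hp.dvd_of_dvd_pow h))
        · exact Or.inr (Or.inl ((Nat.prime_dvd_prime_iff_eq hp Nat.prime_three).mp (hp.dvd_of_dvd_pow h)))
      · exact Or.inr (Or.inr (Or.inl ((Nat.prime_dvd_prime_iff_eq hp Nat.prime_five).mp h)))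
    · exact Or.inr (Or.inr (Or.inr (Or.inl ((Nat.prime_dvd_prime_iff_eq hp (by norm_num)).mp h))))
  · exact Or.inr (Or.inr (Or.inr (Or.inr ((Nat.prime_dvd_prime_iff_eq hp (by norm_num)).mp h))))

theorem local_ge5 (p : ℕ) (hp : p.Prime) (h5 : 5 ≤ p) :
    ∃ P : Subgroup ↥G, ¬ p ∣ P.index ∧ LocalTriv p P := by
  by_cases hd : p ∣ 50232960
  · rcases prime_dvd_card hp hd with rfl | rfl | rfl | rfl | rfl
    · omega
    · omega
    · haveI : Fact (Nat.Prime 5) := ⟨hp⟩
      refine ⟨zpowers (gw [0, 2, 0, 2]), ?_, localTriv_zpowers _ _⟩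
      have h := index_zpowers _ 5 (orderOf_gw _ 5 cyc_chk.2.2.2.2.1 cyc_chk.2.2.2.2.2)
      omega
    · haveI : Fact (Nat.Prime 17) := ⟨hp⟩
      refine ⟨zpowers (gw [2]), ?_, localTriv_zpowers _ _⟩
      have h := index_zpowers _ 17 (orderOf_gw _ 17 cyc_chk.2.2.1 cyc_chk.2.2.2.1)
      omega
    · haveI : Fact (Nat.Prime 19) := ⟨hp⟩
      refine ⟨zpowers (gw [0]), ?_, localTriv_zpowers _ _⟩
      have h := index_zpowers _ 19 (orderOf_gw _ 19 cyc_chk.1 cyc_chk.2.1)
      omega
  · refine ⟨zpowers (1 : ↥G), ?_, localTriv_zpowers _ _⟩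
    have h := index_zpowers (1 : ↥G) 1 orderOf_one
    rw [mul_one] at h
    rw [h]
    exact hd

/-! ### the triple cover -/

theorem hA_pow : hA ^ 19 = 1 := by
  apply matHom_injective
  rw [map_pow, hA_mat, mX_pow, map_one]

theorem hB_pow : hB ^ 17 = 1 := by
  apply matHom_injective
  rw [map_pow, hB_mat, mY_pow, map_one]

/-- a central extension by a group of order 3 of a perfect group, generated by two elements of orders dividing 19
and 17, is a stem extension with kernel cyclic of order 3 -/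
theorem exists_stem_of {S K : Type} [Group S] [Group K] [Finite K] (hK : commutator K = ⊤)
    (hc : Nat.card ↥(center S) = 3) (e : S ⧸ center S ≃* K) (a b : S) (ha : a ^ 19 = 1) (hb : b ^ 17 = 1)
    (hgen : Subgroup.closure ({a, b} : Set S) = ⊤) :
    ∃ (Γ : Type) (_ : Group Γ) (_ : Finite Γ) (σ : Γ →* K),
      Cfsg.IsStemExtension σ ∧ Nonempty (σ.ker ≃* Multiplicative (ZMod 3)) := by
  haveI : Finite ↥(center S) := Nat.finite_of_card_ne_zero (by rw [hc]; norm_num)
  haveI : Finite (S ⧸ center S) := Finite.of_equiv _ e.symm.toEquiv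
  haveI : Finite S := Finite.of_subgroup_quotient (center S)
  let σ : S →* K := e.toMonoidHom.comp (QuotientGroup.mk' (center S))
  have hsurj : Function.Surjective σ := e.surjective.comp (QuotientGroup.mk'_surjective _)
  have hker : σ.ker = center S := by
    ext x
    rw [MonoidHom.mem_ker]
    show e (QuotientGroup.mk' (center S) x) = 1 ↔ _
    rw [MulEquiv.map_eq_one_iff, ← MonoidHom.mem_ker, QuotientGroup.ker_mk']
  have hperfS : commutator S = ⊤ := by
    have hdec : ∀ h : S, ∃ c ∈ commutator S, c⁻¹ * h ∈ center S := by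
      intro h
      have h1 : σ h ∈ commutator K := by rw [hK]; trivial
      rw [commutator_def, ← Subgroup.map_top_of_surjective σ hsurj, ← Subgroup.map_commutator] at h1
      obtain ⟨c, hc', hch⟩ := h1
      refine ⟨c, hc', ?_⟩
      rw [← hker, MonoidHom.mem_ker, map_mul, map_inv, hch, inv_mul_cancel]
    have hcube : ∀ h : S, h ^ 3 ∈ commutator S := by
      intro h
      obtain ⟨c, hc', hz⟩ := hdec h
      set z := c⁻¹ * h with hzdef
      have hh : h = c * z := by rw [hzdef]; group
      have hz3 : z ^ 3 = 1 := by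
        have : (⟨z, hz⟩ : ↥(center S)) ^ 3 = 1 := by
          rw [← hc]; exact pow_card_eq_one'
        exact congrArg Subtype.val this
      have hzc := Subgroup.mem_center_iff.mp hz
      have : h ^ 3 = c ^ 3 * z ^ 3 := by
        rw [hh, pow_succ, pow_succ, pow_one, pow_succ, pow_succ, pow_one, pow_succ, pow_succ, pow_one]
        calc c * z * (c * z) * (c * z) = c * (z * c) * (z * c) * z := by group
          _ = c * (c * z) * (c * z) * z := by rw [hzc c]
          _ = c * c * (z * c) * z * z := by group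
          _ = c * c * (c * z) * z * z := by rw [hzc c]
          _ = c * c * c * (z * z * z) := by group
      rw [this, hz3, mul_one]
      exact pow_mem hc' 3
    have hAc : a ∈ commutator S := by
      have h1 := hcube a
      have h3 : a = (a ^ 3) ^ 13 * ((a ^ 19)⁻¹) ^ 2 := by group
      rw [h3, ha, inv_one, one_pow, mul_one]
      exact pow_mem h1 13
    have hBc : b ∈ commutator S := by
      have h1 := hcube b
      have h3 : b = (b ^ 3) ^ 6 * (b ^ 17)⁻¹ := by group
      rw [h3, hb, inv_one, mul_one]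
      exact pow_mem h1 6
    rw [eq_top_iff, ← hgen, Subgroup.closure_le]
    rintro x (rfl | rfl)
    · exact hAc
    · exact hBc
  refine ⟨S, inferInstance, inferInstance, σ, ⟨hsurj, ?_, ?_⟩, ?_⟩
  · rw [hker]
  · rw [hperfS]; exact le_top
  · haveI : Fact (Nat.Prime 3) := ⟨Nat.prime_three⟩
    have hcyc : IsCyclic ↥(center S) := isCyclic_of_prime_card hc
    have e1 := zmodCyclicMulEquiv hcyc
    rw [hc] at e1
    exact ⟨(MulEquiv.subgroupCongr hker).trans e1.symm⟩

theorem exists_stem : ∃ (Γ : Type) (_ : Group Γ) (_ : Finite Γ) (σ : Γ →* ↥G),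
    Cfsg.IsStemExtension σ ∧ Nonempty (σ.ker ≃* Multiplicative (ZMod 3)) := by
  have := isSimpleGroup_G
  obtain ⟨hc, ⟨e⟩⟩ := triple_cover pt G matHom matHom_injective Cfsg.Agent.Lib.Helper10.J3M.H3 hperf hHG hGH hne
    hframe hZ hZ_mem hZ_mat
  haveI : Finite ↥G := Cfsg.Agent.Lib.Helper10.J3W.finite_G
  refine exists_stem_of hperf hc e ⟨hA, hA_mem⟩ ⟨hB, hB_mem⟩ (Subtype.ext hA_pow) (Subtype.ext hB_pow) ?_
  have h1 : Subgroup.closure ((Subtype.val : ↥Cfsg.Agent.Lib.Helper10.J3M.H3 → ↥(Cfsg.SU 9 K4 2)) ⁻¹' {hA, hB}) = ⊤ :=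
    Subgroup.closure_closure_coe_preimage (k := ({hA, hB} : Set ↥(Cfsg.SU 9 K4 2)))
  refine Eq.trans ?_ h1
  congr 1
  ext ⟨x, hx⟩
  simp only [Set.mem_preimage, Set.mem_insert_iff, Set.mem_singleton_iff, Subtype.mk.injEq]

/-- the Schur multiplier of the group on 20520 points -/
theorem schur_G : Cfsg.HasCyclicSchurMultiplier ↥G 3 := by
  haveI : Finite ↥G := Cfsg.Agent.Lib.Helper10.J3W.finite_G
  exact schur_three_of 25840 (by norm_num) exists_stem two_part local_ge5 three_part

/-- the Schur multiplier of the Janko group `J₃` -/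
theorem schur_J3 {F : Type*} [Field F] [Fintype F] (hF : Fintype.card F = 4) (ω : F)
    (hω : ω ^ 2 + ω + 1 = 0) : Cfsg.HasCyclicSchurMultiplier (Cfsg.Spor.J3 F ω) 3 := by
  obtain ⟨e⟩ := Cfsg.Agent.Lib.Helper10.J3P.nonempty_J3_equiv hF ω hω
  exact Cfsg.Agent.Lib.Helper3.Cover.hasSchurMultiplier_transport e.symm schur_G

end

end Cfsg.Agent.Lib.Helper4.J3M
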