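import Cfsg.Agent.Lib.Helper4.J3M.Defs
set_option autoImplicit false
set_option maxRecDepth 1000000

/-! A regular orbit of `U` on the 20520 points: each point with a word carrying the base point 3 to it.  (Generated.) -/

namespace Cfsg.Agent.Lib.Helper4.J3M

/-- the orbit of the point 3 under `U` -/
def orbU : List (ℕ × List (GU × Bool)) := [
  (3, []),
  (7, [(.b, true), (.a, true), (.a, true), (.b, true), (.a, true)]),
  (29, [(.a, true), (.a, true), (.b, true), (.a, true), (.b, true), (.a, true), (.b, true)]),
  (34, [(.b, true), (.b, true), (.a, true), (.a, true), (.a, true), (.b, true), (.b, true), (.a, true), (.a, true), (.b, true)]),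
  (35, [(.a, true), (.b, true), (.b, true), (.a, true), (.a, true), (.a, true), (.b, true), (.b, true), (.a, true), (.a, true)]),
  (40, [(.b, true), (.b, true), (.b, true), (.a, true), (.b, true), (.b, true), (.b, true), (.a, true), (.a, true)]),
  (50, [(.b, true), (.b, true), (.a, true), (.a, true)]),
  (59, [(.b, true), (.b, true), (.a, true), (.b, true), (.b, true), (.a, true), (.b, true), (.b, true), (.a, true), (.a, true)]),
  (66, [(.b, true), (.b, true), (.b, true), (.a, true), (.a, true)]),
  (72, [(.a, true), (.a, true), (.a, true), (.a, true), (.b, true), (.a, true), (.a, true), (.a, true), (.a, true), (.a, true)]),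
  (76, [(.b, true), (.a, true), (.a, true), (.a, true), (.a, true), (.a, true), (.a, true), (.b, true), (.b, true), (.a, true), (.a, true)]),
  (78, [(.a, true), (.a, true), (.a, true), (.a, true), (.b, true), (.a, true), (.a, true), (.b, true), (.a, true), (.b, true), (.a, true)]),
  (83, [(.a, true), (.a, true), (.b, true), (.a, true), (.a, true), (.b, true), (.a, true), (.a, true), (.b, true), (.a, true)]),
  (87, [(.a, true), (.a, true), (.b, true), (.a, true), (.a, true), (.b, true), (.a, true), (.a, true), (.b, true), (.b, true)]),
  (89, [(.b, true), (.a, true), (.b, true), (.a, true), (.a, true), (.b, true), (.a, true), (.b, true), (.a, true)]),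
  (97, [(.b, true), (.b, true), (.a, true), (.a, true), (.b, true), (.a, true), (.b, true), (.a, true), (.a, true), (.a, true)]),
  (107, [(.b, true), (.b, true), (.a, true), (.a, true), (.b, true), (.b, true), (.a, true), (.a, true), (.a, true), (.b, true)]),
  (117, [(.a, true), (.b, true), (.b, true), (.b, true), (.a, true), (.b, true), (.b, true), (.a, true), (.b, true), (.a, true), (.b, true)]),
  (121, [(.a, true), (.a, true), (.b, true), (.b, true), (.a, true), (.b, true), (.b, true), (.b, true)]),
  (131, [(.a, true), (.b, true), (.b, true), (.a, true), (.b, true), (.b, true), (.a, true), (.a, true), (.a, true), (.a, true), (.a, true), (.b, true)]),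
  (144, [(.b, true), (.b, true), (.a, true), (.a, true), (.a, true), (.b, true), (.b, true), (.b, true)]),
  (156, [(.a, true), (.b, true), (.a, true), (.b, true), (.a, true), (.a, true), (.b, true), (.a, true), (.a, true), (.b, true), (.a, true)]),
  (165, [(.a, true), (.b, true), (.a, true), (.a, true), (.b, true), (.a, true), (.b, true), (.b, true), (.a, true), (.a, true), (.b, true)]),
  (201, [(.a, true), (.a, true), (.b, true), (.a, true), (.b, true), (.b, true), (.b, true), (.a, true), (.b, true), (.b, true), (.a, true)]),
  (206, [(.a, true), (.b, true), (.b, true), (.b, true), (.b, true)]),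
  (213, [(.b, true), (.b, true)]),
  (222, [(.b, true), (.a, true), (.a, true), (.b, true), (.a, true), (.a, true), (.b, true), (.a, true), (.a, true), (.a, true)]),
  (233, [(.a, true), (.a, true), (.b, true), (.b, true), (.b, true), (.b, true), (.a, true), (.b, true)]),
  (240, [(.a, true), (.a, true), (.b, true), (.b, true), (.b, true)]),
  (242, [(.b, true), (.a, true), (.b, true), (.a, true), (.b, true), (.a, true), (.b, true), (.a, true), (.a, true), (.a, true), (.a, true)]),
  (261, [(.b, true), (.a, true), (.b, true), (.b, true), (.a, true), (.b, true), (.b, true), (.b, true), (.b, true)]),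
  (265, [(.b, true), (.b, true), (.a, true), (.b, true), (.a, true), (.b, true), (.a, true), (.a, true), (.a, true), (.b, true), (.a, true)]),
  (317, [(.a, true), (.a, true), (.a, true), (.a, true), (.b, true), (.b, true), (.a, true), (.b, true)]),
  (321, [(.a, true), (.b, true), (.b, true), (.a, true), (.a, true), (.a, true), (.a, true)]),
  (336, [(.a, true), (.a, true), (.a, true), (.b, true), (.b, true), (.b, true), (.b, true), (.a, true), (.a, true), (.a, true)]),
  (373, [(.b, true), (.b, true), (.a, true), (.b, true), (.a, true), (.a, true), (.b, true), (.a, true), (.a, true), (.b, true), (.b, true)]),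
  (375, [(.b, true), (.a, true), (.a, true), (.b, true), (.b, true), (.b, true), (.a, true), (.b, true), (.a, true), (.a, true), (.a, true)]),
  (381, [(.b, true), (.a, true), (.b, true), (.b, true), (.a, true), (.b, true), (.b, true), (.a, true), (.a, true)]),
  (394, [(.a, true), (.b, true), (.a, true), (.a, true), (.b, true), (.b, true), (.a, true), (.b, true), (.a, true), (.a, true)]),
  (397, [(.a, true), (.a, true), (.b, true), (.b, true), (.b, true), (.a, true), (.b, true), (.b, true)]),
  (398, [(.a, true), (.b, true), (.b, true), (.a, true), (.b, true), (.b, true), (.b, true), (.a, true), (.b, true)]),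
  (403, [(.b, true), (.a, true), (.b, true), (.b, true), (.b, true), (.a, true), (.a, true), (.b, true)]),
  (408, [(.a, true), (.a, true), (.a, true), (.b, true), (.a, true), (.b, true), (.a, true), (.b, true), (.b, true), (.b, true), (.b, true), (.a, true), (.a, true)]),
  (476, [(.b, true), (.a, true), (.a, true), (.b, true), (.b, true), (.b, true), (.a, true), (.b, true), (.b, true), (.a, true), (.a, true), (.b, true)]),
  (486, [(.b, true), (.b, true), (.b, true), (.b, true), (.b, true), (.a, true), (.a, true), (.a, true)]),
  (499, [(.a, true), (.b, true), (.b, true), (.b, true), (.a, true), (.a, true), (.a, true), (.b, true), (.a, true), (.a, true)]),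
  (500, [(.a, true), (.a, true), (.a, true), (.a, true), (.b, true), (.b, true)]),
  (509, [(.a, true), (.b, true), (.b, true), (.a, true), (.a, true), (.b, true), (.a, true), (.b, true), (.a, true)]),
  (513, [(.b, true), (.a, true), (.a, true), (.b, true), (.b, true), (.a, true), (.b, true), (.b, true), (.b, true), (.a, true)]),
  (532, [(.b, true), (.b, true), (.b, true), (.a, true), (.b, true), (.a, true), (.b, true), (.a, true), (.b, true), (.a, true), (.b, true)]),
  (544, [(.b, true), (.b, true), (.a, true), (.a, true), (.b, true), (.b, true), (.b, true), (.b, true), (.a, true)]),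
  (557, [(.b, true), (.a, true), (.b, true), (.a, true), (.a, true), (.b, true), (.b, true), (.a, true)]),
  (584, [(.b, true), (.a, true), (.b, true), (.a, true), (.b, true), (.b, true), (.b, true), (.a, true)]),
  (593, [(.b, true), (.a, true), (.b, true), (.b, true), (.b, true), (.a, true), (.b, true), (.a, true), (.b, true), (.b, true), (.b, true)]),
  (602, [(.a, true), (.a, true), (.a, true), (.a, true), (.a, true), (.b, true), (.b, true), (.b, true), (.b, true), (.b, true), (.a, true), (.a, true)]),
  (618, [(.a, true), (.b, true), (.a, true), (.b, true), (.a, true), (.a, true), (.a, true)]),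
  (625, [(.a, true), (.a, true), (.a, true), (.b, true), (.b, true), (.a, true), (.b, true), (.a, true), (.a, true), (.b, true), (.a, true)]),
  (642, [(.b, true), (.a, true), (.b, true), (.a, true), (.b, true), (.a, true), (.b, true), (.b, true), (.b, true), (.a, true), (.a, true), (.a, true)]),
  (644, [(.a, true), (.b, true), (.b, true), (.b, true), (.b, true), (.a, true), (.a, true), (.a, true), (.b, true)]),
  (653, [(.a, true), (.b, true), (.b, true), (.b, true), (.a, true), (.a, true), (.b, true), (.b, true), (.a, true), (.a, true)]),
  (662, [(.a, true), (.b, true), (.b, true), (.b, true), (.b, true), (.b, true), (.a, true), (.b, true), (.b, true), (.b, true), (.a, true)]),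
  (667, [(.a, true), (.b, true), (.b, true), (.a, true), (.b, true), (.b, true), (.b, true), (.a, true), (.a, true), (.b, true)]),
  (685, [(.b, true), (.a, true), (.b, true), (.a, true), (.b, true), (.a, true), (.a, true), (.b, true), (.b, true), (.b, true)]),
  (699, [(.a, true), (.a, true), (.a, true), (.b, true), (.b, true), (.b, true), (.b, true), (.b, true), (.a, true), (.b, true), (.a, true)]),
  (713, [(.a, true), (.b, true), (.b, true), (.b, true), (.a, true), (.a, true), (.a, true)]),
  (725, [(.a, true), (.b, true), (.a, true), (.b, true), (.b, true), (.a, true), (.b, true), (.a, true), (.a, true), (.b, true), (.a, true)]),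
  (758, [(.b, true), (.a, true), (.b, true), (.b, true), (.a, true), (.a, true), (.b, true), (.a, true), (.b, true), (.a, true)]),
  (759, [(.a, true), (.b, true), (.b, true), (.a, true), (.b, true), (.a, true), (.b, true), (.b, true), (.a, true), (.b, true), (.a, true)]),
  (763, [(.b, true), (.b, true), (.b, true), (.a, true), (.b, true), (.b, true), (.a, true), (.a, true), (.a, true), (.b, true)]),
  (774, [(.a, true), (.b, true), (.a, true), (.b, true), (.a, true), (.a, true), (.b, true), (.a, true), (.b, true), (.a, true), (.a, true)]),
  (795, [(.b, true), (.b, true), (.b, true), (.a, true), (.a, true), (.b, true), (.a, true), (.b, true), (.a, true)]),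
  (808, [(.a, true), (.a, true), (.b, true), (.b, true), (.b, true), (.a, true), (.b, true), (.a, true), (.b, true)]),
  (810, [(.a, true), (.a, true), (.a, true), (.a, true), (.a, true), (.a, true)]),
  (820, [(.a, true), (.b, true), (.a, true), (.a, true), (.b, true), (.b, true), (.a, true), (.a, true), (.b, true), (.a, true), (.a, true)]),
  (822, [(.b, true), (.b, true), (.b, true), (.a, true), (.b, true), (.b, true), (.a, true)]),
  (833, [(.a, true), (.b, true), (.a, true), (.a, true), (.b, true), (.b, true), (.b, true), (.a, true), (.b, true), (.a, true), (.a, true), (.a, true)]),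
  (840, [(.a, true), (.a, true), (.a, true), (.a, true), (.b, true), (.a, true), (.a, true), (.b, true), (.b, true)]),
  (842, [(.a, true), (.a, true), (.b, true), (.b, true), (.b, true), (.a, true), (.a, true), (.b, true), (.a, true)]),
  (855, [(.b, true), (.b, true), (.a, true), (.b, true), (.b, true), (.b, true), (.a, true), (.b, true), (.b, true), (.b, true), (.b, true)]),
  (862, [(.b, true), (.b, true), (.a, true), (.a, true), (.b, true), (.b, true), (.b, true), (.a, true), (.a, true), (.a, true)]),
  (881, [(.a, true), (.a, true), (.b, true), (.b, true), (.b, true), (.b, true), (.a, true), (.a, true), (.a, true)]),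
  (900, [(.b, true), (.a, true), (.b, true), (.b, true), (.a, true), (.a, true), (.a, true), (.a, true), (.a, true), (.b, true)]),
  (905, [(.a, true), (.a, true), (.b, true), (.a, true), (.b, true), (.a, true), (.a, true), (.a, true), (.b, true), (.a, true), (.a, true)]),
  (908, [(.b, true), (.b, true), (.a, true), (.b, true), (.b, true), (.a, true), (.a, true), (.b, true), (.a, true), (.a, true), (.a, true)]),
  (910, [(.b, true), (.b, true), (.a, true), (.b, true), (.b, true), (.b, true), (.a, true), (.b, true), (.b, true), (.a, true), (.a, true)]),
  (937, [(.a, true), (.b, true), (.a, true), (.b, true), (.b, true), (.a, true), (.b, true), (.b, true), (.a, true), (.b, true), (.a, true), (.a, true)]),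
  (941, [(.a, true), (.b, true), (.b, true), (.b, true), (.b, true), (.a, true), (.a, true), (.b, true), (.a, true), (.a, true), (.a, true), (.a, true)]),
  (945, [(.a, true), (.a, true), (.a, true), (.a, true), (.a, true), (.a, true), (.a, true), (.b, true), (.b, true)]),
  (964, [(.a, true), (.b, true), (.a, true), (.b, true), (.b, true), (.a, true), (.b, true), (.a, true), (.b, true), (.a, true), (.a, true)]),
  (982, [(.b, true), (.b, true), (.b, true), (.b, true), (.a, true), (.a, true), (.b, true), (.b, true), (.a, true), (.a, true)]),
  (986, [(.a, true), (.b, true), (.a, true), (.a, true), (.b, true), (.a, true), (.b, true), (.b, true)]),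
  (998, [(.a, true), (.b, true), (.a, true), (.b, true), (.b, true), (.b, true)]),
  (1041, [(.a, true), (.b, true), (.b, true), (.b, true), (.b, true), (.b, true), (.a, true), (.a, true), (.a, true)]),
  (1050, [(.b, true), (.a, true), (.a, true), (.a, true), (.b, true), (.b, true), (.b, true), (.b, true), (.a, true), (.a, true), (.a, true)]),
  (1052, [(.a, true), (.a, true), (.b, true), (.b, true), (.a, true), (.a, true), (.b, true)]),
  (1059, [(.a, true), (.a, true), (.a, true), (.a, true), (.b, true), (.a, true), (.b, true), (.b, true), (.a, true), (.b, true), (.a, true)]),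
  (1060, [(.a, true), (.b, true), (.b, true), (.b, true), (.b, true), (.a, true), (.a, true), (.a, true), (.b, true), (.a, true), (.a, true)]),
  (1061, [(.b, true), (.a, true), (.a, true), (.a, true), (.b, true), (.a, true), (.b, true), (.b, true)]),
  (1071, [(.b, true), (.a, true), (.a, true), (.b, true), (.b, true), (.b, true), (.a, true), (.b, true), (.b, true), (.b, true)]),
  (1084, [(.b, true), (.b, true), (.a, true), (.b, true), (.a, true), (.b, true), (.a, true), (.a, true), (.a, true)]),
  (1089, [(.b, true), (.b, true), (.a, true), (.a, true), (.a, true), (.b, true), (.a, true), (.b, true), (.b, true), (.a, true)]),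
  (1101, [(.a, true), (.a, true), (.a, true), (.a, true), (.b, true), (.a, true), (.a, true), (.a, true)]),
  (1103, [(.b, true), (.a, true), (.a, true), (.b, true), (.b, true), (.b, true), (.a, true), (.b, true), (.b, true), (.a, true)]),
  (1122, [(.b, true), (.a, true), (.a, true), (.a, true), (.b, true), (.b, true), (.a, true), (.a, true), (.a, true)]),
  (1144, [(.a, true), (.a, true), (.b, true), (.b, true), (.a, true), (.a, true), (.a, true), (.b, true), (.a, true), (.b, true)]),
  (1166, [(.a, true), (.b, true), (.a, true), (.b, true), (.a, true), (.a, true), (.b, true), (.a, true), (.b, true), (.a, true)]),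
  (1196, [(.b, true), (.a, true), (.b, true), (.a, true), (.b, true), (.b, true), (.a, true), (.b, true), (.b, true), (.b, true), (.a, true), (.b, true)]),
  (1198, [(.b, true), (.a, true), (.b, true), (.a, true), (.a, true), (.b, true), (.b, true), (.a, true), (.a, true), (.b, true)]),
  (1220, [(.a, true), (.b, true), (.b, true), (.a, true), (.a, true), (.b, true), (.a, true), (.a, true), (.b, true)]),
  (1226, [(.b, true), (.a, true), (.b, true), (.b, true), (.b, true), (.a, true), (.b, true), (.a, true), (.b, true), (.b, true), (.b, true), (.b, true)]),
  (1231, [(.b, true), (.b, true), (.b, true), (.b, true), (.a, true), (.a, true), (.b, true), (.b, true), (.b, true), (.b, true)]),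
  (1243, [(.a, true), (.a, true), (.b, true), (.b, true), (.b, true), (.a, true), (.a, true)]),
  (1253, [(.a, true), (.a, true), (.b, true), (.a, true), (.b, true), (.a, true), (.a, true), (.b, true), (.b, true)]),
  (1282, [(.b, true), (.b, true), (.a, true), (.b, true), (.b, true), (.a, true), (.a, true), (.a, true), (.b, true), (.a, true), (.a, true), (.a, true)]),
  (1319, [(.a, true), (.a, true), (.b, true), (.a, true), (.b, true), (.b, true), (.a, true)]),
  (1331, [(.b, true), (.a, true), (.b, true), (.a, true), (.a, true), (.b, true), (.b, true), (.b, true), (.a, true), (.b, true), (.a, true)]),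
  (1343, [(.b, true), (.b, true), (.a, true), (.a, true), (.b, true), (.a, true), (.b, true), (.a, true), (.a, true), (.b, true), (.a, true)]),
  (1363, [(.a, true), (.a, true), (.a, true), (.a, true), (.a, true), (.b, true), (.b, true), (.a, true), (.a, true), (.a, true), (.b, true)]),
  (1393, [(.a, true), (.a, true), (.a, true), (.b, true), (.b, true), (.b, true), (.a, true), (.b, true), (.b, true), (.a, true), (.a, true)]),
  (1396, [(.a, true), (.b, true), (.a, true), (.b, true), (.a, true), (.b, true), (.a, true), (.b, true), (.b, true), (.a, true), (.a, true), (.a, true)]),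
  (1408, [(.b, true), (.b, true), (.a, true), (.a, true), (.a, true), (.b, true), (.b, true), (.b, true), (.a, true), (.a, true)]),
  (1412, [(.b, true), (.b, true), (.b, true), (.a, true), (.b, true), (.a, true), (.b, true), (.a, true), (.b, true), (.b, true), (.b, true), (.a, true)]),
  (1442, [(.b, true), (.a, true), (.a, true), (.b, true), (.b, true), (.b, true), (.a, true), (.b, true), (.b, true), (.b, true), (.a, true)]),
  (1450, [(.b, true), (.b, true), (.b, true), (.b, true), (.a, true), (.a, true)]),
  (1452, [(.b, true), (.b, true), (.b, true), (.a, true), (.b, true), (.a, true), (.a, true), (.b, true), (.a, true), (.b, true), (.a, true), (.a, true)]),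
  (1463, [(.a, true), (.b, true), (.a, true), (.a, true), (.a, true), (.b, true), (.b, true), (.a, true), (.a, true), (.a, true)]),
  (1473, [(.a, true), (.a, true), (.a, true), (.b, true), (.b, true), (.b, true), (.b, true), (.b, true), (.a, true), (.b, true)]),
  (1479, [(.b, true), (.b, true), (.a, true), (.a, true), (.a, true), (.a, true), (.a, true), (.a, true), (.b, true)]),
  (1502, [(.a, true), (.b, true), (.b, true), (.b, true), (.a, true), (.a, true), (.b, true), (.b, true), (.a, true)]),
  (1524, [(.b, true), (.b, true), (.a, true), (.a, true), (.b, true), (.a, true), (.b, true), (.a, true), (.b, true), (.a, true), (.a, true), (.a, true)]),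
  (1525, [(.a, true), (.a, true), (.a, true), (.b, true), (.b, true), (.a, true), (.b, true), (.b, true), (.a, true), (.b, true)]),
  (1534, [(.a, true), (.a, true), (.a, true), (.b, true), (.a, true), (.b, true), (.b, true), (.b, true), (.a, true), (.a, true), (.a, true)]),
  (1543, [(.a, true), (.b, true), (.b, true), (.b, true), (.a, true), (.a, true), (.b, true), (.a, true), (.a, true), (.a, true), (.a, true)]),
  (1548, [(.a, true), (.b, true), (.b, true), (.b, true), (.b, true), (.a, true), (.b, true), (.a, true), (.b, true), (.a, true), (.b, true), (.a, true)]),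
  (1555, [(.a, true), (.a, true), (.a, true), (.b, true), (.b, true), (.a, true), (.b, true), (.b, true), (.b, true)]),
  (1559, [(.b, true), (.b, true), (.a, true), (.b, true), (.a, true), (.a, true), (.a, true), (.b, true)]),
  (1582, [(.a, true), (.a, true), (.a, true), (.b, true), (.b, true), (.b, true), (.a, true), (.a, true), (.b, true)]),
  (1600, [(.b, true), (.a, true), (.a, true), (.a, true), (.b, true), (.b, true), (.b, true), (.a, true), (.b, true), (.a, true), (.a, true)]),
  (1616, [(.b, true), (.a, true), (.a, true), (.b, true), (.b, true), (.b, true), (.b, true), (.a, true), (.a, true), (.a, true), (.a, true), (.a, true)]),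
  (1626, [(.b, true), (.a, true), (.b, true), (.a, true), (.a, true), (.b, true), (.b, true), (.a, true), (.b, true), (.a, true), (.a, true)]),
  (1632, [(.a, true), (.b, true), (.b, true), (.b, true), (.a, true), (.b, true), (.b, true), (.a, true), (.b, true), (.b, true), (.a, true), (.a, true)]),
  (1639, [(.b, true), (.b, true), (.a, true), (.a, true), (.b, true), (.b, true), (.a, true), (.a, true), (.a, true)]),
  (1647, [(.a, true), (.b, true), (.a, true), (.a, true), (.b, true), (.b, true), (.b, true), (.a, true), (.b, true), (.a, true)]),
  (1650, [(.b, true), (.b, true), (.b, true), (.b, true)]),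
  (1665, [(.b, true), (.b, true), (.a, true), (.b, true)]),
  (1678, [(.b, true), (.b, true), (.b, true), (.b, true), (.b, true), (.a, true), (.b, true), (.b, true), (.a, true), (.b, true), (.a, true)]),
  (1708, [(.a, true), (.b, true), (.b, true), (.b, true), (.a, true), (.b, true), (.a, true), (.b, true), (.b, true), (.b, true)]),
  (1726, [(.a, true), (.a, true), (.b, true), (.b, true), (.b, true), (.a, true), (.a, true), (.b, true), (.a, true), (.a, true)]),
  (1738, [(.b, true), (.a, true), (.b, true), (.a, true), (.b, true), (.b, true), (.a, true), (.b, true), (.a, true), (.a, true), (.b, true)]),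
  (1743, [(.b, true), (.b, true), (.b, true), (.a, true), (.a, true), (.b, true), (.b, true), (.b, true), (.b, true), (.b, true), (.a, true), (.a, true), (.a, true)]),
  (1751, [(.a, true), (.a, true), (.b, true), (.a, true), (.a, true), (.a, true), (.a, true), (.a, true), (.b, true), (.b, true)]),
  (1760, [(.a, true), (.b, true), (.a, true), (.b, true), (.b, true), (.b, true), (.a, true)]),
  (1780, [(.a, true), (.b, true), (.b, true), (.b, true), (.b, true), (.a, true), (.a, true), (.b, true), (.a, true)]),
  (1795, [(.b, true), (.b, true), (.b, true), (.a, true), (.b, true), (.a, true), (.b, true), (.a, true), (.a, true)]),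
  (1803, [(.b, true), (.b, true), (.a, true), (.a, true), (.b, true), (.b, true), (.b, true), (.b, true), (.a, true), (.b, true), (.a, true), (.b, true)]),
  (1806, [(.b, true), (.a, true), (.a, true), (.a, true), (.a, true), (.a, true), (.b, true), (.b, true), (.b, true), (.b, true), (.a, true)]),
  (1819, [(.b, true), (.b, true), (.b, true), (.a, true), (.a, true), (.b, true), (.b, true), (.b, true), (.b, true), (.a, true)]),
  (1830, [(.b, true), (.b, true), (.a, true), (.b, true), (.a, true), (.b, true), (.a, true), (.a, true), (.a, true), (.a, true)]),
  (1832, [(.a, true), (.a, true), (.a, true), (.b, true), (.a, true), (.a, true), (.b, true), (.a, true), (.a, true), (.a, true)]),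
  (1839, [(.a, true), (.b, true), (.a, true), (.a, true), (.a, true), (.b, true), (.b, true), (.a, true)]),
  (1841, [(.a, true), (.a, true), (.a, true), (.a, true), (.a, true), (.a, true), (.a, true), (.b, true), (.b, true), (.b, true), (.b, true), (.a, true)]),
  (1842, [(.a, true), (.b, true), (.b, true), (.b, true), (.a, true), (.b, true), (.b, true), (.b, true), (.a, true), (.b, true), (.b, true)]),
  (1843, [(.b, true), (.b, true), (.a, true), (.b, true), (.b, true), (.b, true), (.a, true), (.b, true), (.a, true), (.b, true)]),
  (1861, [(.b, true), (.a, true), (.a, true), (.b, true), (.b, true), (.a, true), (.a, true), (.a, true), (.b, true), (.b, true), (.a, true)]),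
  (1871, [(.b, true), (.b, true), (.b, true), (.a, true), (.b, true), (.b, true), (.a, true), (.b, true), (.b, true), (.a, true)]),
  (1874, [(.b, true), (.b, true), (.a, true), (.a, true), (.b, true), (.a, true), (.b, true), (.a, true), (.b, true), (.a, true), (.a, true)]),
  (1878, [(.b, true), (.a, true), (.b, true), (.a, true), (.b, true), (.b, true), (.b, true), (.b, true), (.a, true), (.a, true), (.b, true)]),
  (1884, [(.b, true), (.b, true), (.b, true), (.a, true), (.b, true), (.b, true), (.a, true), (.a, true), (.a, true), (.a, true), (.a, true)]),
  (1895, [(.b, true), (.a, true), (.b, true), (.b, true), (.b, true), (.a, true), (.b, true), (.b, true), (.a, true), (.a, true)]),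
  (1899, [(.a, true), (.a, true), (.a, true), (.b, true), (.a, true), (.a, true), (.a, true)]),
  (1914, [(.a, true), (.a, true), (.a, true), (.a, true), (.b, true), (.a, true)]),
  (1917, [(.a, true), (.b, true), (.b, true), (.b, true), (.a, true), (.b, true), (.b, true), (.b, true), (.a, true), (.b, true)]),
  (1918, [(.a, true), (.a, true), (.b, true), (.b, true), (.a, true), (.b, true), (.a, true), (.a, true)]),
  (1920, [(.a, true), (.b, true), (.a, true), (.a, true), (.b, true), (.b, true), (.a, true), (.a, true), (.a, true), (.a, true), (.a, true)]),
  (1921, [(.a, true), (.b, true), (.a, true), (.b, true), (.a, true), (.b, true), (.a, true), (.a, true), (.a, true), (.b, true)]),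
  (1924, [(.a, true), (.b, true), (.b, true), (.b, true), (.b, true), (.a, true), (.a, true), (.b, true)]),
  (1939, [(.b, true), (.a, true), (.a, true), (.a, true), (.b, true), (.a, true), (.b, true), (.a, true), (.a, true), (.b, true), (.b, true)]),
  (1941, [(.a, true), (.b, true), (.b, true), (.a, true), (.b, true), (.b, true), (.a, true), (.a, true), (.a, true), (.b, true), (.a, true)]),
  (1958, [(.b, true), (.a, true), (.a, true), (.a, true), (.a, true), (.a, true), (.a, true), (.b, true), (.b, true), (.b, true)]),
  (1970, [(.a, true), (.b, true), (.b, true), (.b, true), (.a, true), (.a, true), (.b, true), (.a, true), (.b, true), (.a, true), (.a, true), (.a, true)]),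
  (1986, [(.a, true), (.a, true), (.b, true), (.b, true), (.a, true), (.a, true), (.b, true), (.a, true)]),
  (1995, [(.a, true), (.a, true), (.b, true), (.b, true), (.a, true), (.a, true), (.a, true), (.a, true), (.a, true), (.a, true), (.a, true)]),
  (2029, [(.a, true), (.b, true), (.b, true), (.b, true), (.a, true), (.a, true), (.b, true), (.b, true), (.a, true), (.b, true)]),
  (2049, [(.a, true), (.b, true), (.a, true), (.a, true), (.a, true), (.b, true), (.b, true), (.b, true)]),
  (2053, [(.b, true), (.b, true), (.b, true), (.b, true), (.a, true), (.a, true), (.a, true), (.a, true), (.a, true), (.a, true), (.b, true)]),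
  (2062, [(.a, true), (.a, true), (.b, true), (.b, true), (.b, true), (.a, true), (.b, true), (.a, true)]),
  (2070, [(.b, true), (.b, true), (.b, true), (.b, true), (.a, true), (.a, true), (.a, true), (.b, true), (.a, true), (.a, true), (.a, true)]),
  (2084, [(.a, true), (.a, true), (.b, true), (.a, true), (.b, true), (.a, true), (.a, true), (.b, true), (.a, true), (.a, true), (.b, true)]),
  (2103, [(.b, true), (.b, true), (.b, true), (.a, true), (.b, true), (.b, true), (.a, true), (.b, true), (.a, true), (.b, true)]),
  (2118, [(.b, true), (.a, true), (.b, true), (.b, true), (.b, true), (.a, true), (.b, true), (.a, true), (.b, true), (.a, true)]),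
  (2134, [(.b, true), (.b, true), (.b, true), (.a, true), (.a, true), (.b, true), (.b, true), (.b, true), (.a, true), (.a, true)]),
  (2143, [(.a, true), (.b, true), (.b, true), (.a, true), (.a, true), (.a, true), (.b, true), (.b, true)]),
  (2161, [(.a, true), (.b, true), (.a, true), (.b, true), (.a, true), (.b, true), (.b, true), (.a, true), (.a, true), (.b, true)]),
  (2173, [(.a, true), (.a, true), (.a, true), (.b, true), (.a, true), (.b, true), (.a, true), (.b, true), (.b, true), (.a, true), (.a, true)]),
  (2189, [(.b, true), (.b, true), (.b, true), (.a, true), (.a, true), (.a, true), (.b, true)]),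
  (2190, [(.b, true), (.b, true), (.b, true), (.b, true), (.a, true), (.b, true), (.b, true), (.b, true)]),
  (2193, [(.a, true), (.a, true), (.a, true), (.b, true), (.a, true), (.b, true), (.a, true), (.a, true), (.b, true), (.b, true)]),
  (2200, [(.a, true), (.b, true), (.a, true), (.b, true), (.b, true), (.b, true), (.a, true), (.a, true), (.a, true), (.a, true)]),
  (2212, [(.b, true), (.b, true), (.b, true), (.b, true), (.a, true), (.a, true), (.b, true), (.b, true)]),
  (2223, [(.a, true), (.a, true), (.a, true), (.a, true), (.b, true), (.b, true), (.b, true), (.a, true), (.b, true), (.a, true), (.a, true), (.a, true)]),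
  (2228, [(.b, true), (.b, true), (.b, true), (.b, true), (.a, true), (.a, true), (.b, true), (.a, true), (.a, true), (.a, true)]),
  (2231, [(.a, true), (.a, true), (.a, true), (.b, true), (.b, true), (.a, true), (.a, true), (.a, true), (.a, true)]),
  (2260, [(.a, true), (.a, true), (.b, true), (.b, true), (.b, true), (.a, true), (.b, true)]),
  (2275, [(.a, true), (.b, true), (.b, true), (.b, true), (.a, true), (.a, true), (.b, true)]),
  (2278, [(.a, true), (.b, true), (.a, true), (.b, true), (.b, true), (.a, true), (.a, true), (.a, true), (.a, true)]),
  (2288, [(.a, true), (.a, true), (.a, true), (.a, true), (.a, true), (.a, true), (.b, true), (.b, true), (.a, true), (.a, true)]),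
  (2296, [(.a, true), (.a, true), (.a, true), (.a, true), (.a, true), (.a, true), (.b, true), (.b, true), (.a, true), (.b, true)]),
  (2308, [(.b, true), (.b, true), (.b, true), (.b, true), (.b, true), (.a, true), (.a, true), (.a, true), (.b, true)]),
  (2311, [(.b, true), (.a, true), (.b, true), (.a, true), (.a, true), (.b, true), (.a, true), (.a, true), (.a, true), (.a, true)]),
  (2329, [(.a, true), (.b, true), (.b, true), (.b, true), (.a, true), (.b, true), (.b, true), (.a, true), (.b, true)]),
  (2332, [(.a, true), (.a, true), (.a, true), (.a, true), (.a, true), (.b, true), (.a, true), (.a, true), (.a, true)]),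
  (2362, [(.b, true), (.b, true), (.b, true), (.b, true), (.a, true), (.a, true), (.b, true), (.b, true), (.a, true)]),
  (2366, [(.b, true), (.b, true), (.a, true), (.a, true), (.a, true), (.b, true), (.a, true), (.b, true), (.a, true)]),
  (2371, [(.a, true), (.b, true), (.b, true), (.a, true), (.b, true), (.a, true), (.b, true), (.a, true), (.b, true), (.a, true), (.a, true), (.a, true), (.a, true)]),
  (2396, [(.b, true), (.a, true), (.b, true), (.b, true), (.b, true), (.a, true), (.a, true), (.b, true), (.a, true), (.a, true), (.a, true)]),
  (2414, [(.a, true), (.a, true), (.b, true), (.b, true), (.b, true), (.b, true), (.a, true), (.a, true), (.a, true), (.a, true), (.a, true), (.a, true)]),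
  (2417, [(.b, true), (.b, true), (.b, true), (.a, true), (.b, true), (.a, true), (.a, true), (.b, true), (.a, true), (.b, true), (.a, true)]),
  (2426, [(.b, true), (.a, true), (.b, true), (.b, true), (.b, true), (.a, true), (.b, true), (.a, true), (.a, true), (.a, true)]),
  (2442, [(.b, true), (.b, true), (.b, true), (.a, true), (.b, true), (.b, true), (.a, true), (.a, true)]),
  (2448, [(.b, true), (.b, true), (.b, true), (.b, true), (.b, true), (.a, true), (.b, true), (.b, true), (.b, true)]),
  (2457, [(.a, true), (.b, true), (.b, true), (.a, true), (.b, true), (.b, true), (.b, true), (.a, true), (.b, true), (.b, true)]),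
  (2495, [(.b, true), (.a, true), (.a, true), (.b, true), (.a, true), (.b, true), (.a, true), (.a, true), (.a, true), (.a, true)]),
  (2496, [(.a, true), (.b, true), (.a, true), (.a, true), (.b, true), (.b, true), (.a, true), (.a, true), (.b, true)]),
  (2517, [(.a, true), (.a, true), (.b, true), (.b, true), (.a, true), (.a, true), (.a, true), (.b, true), (.b, true), (.a, true)]),
  (2522, [(.b, true), (.a, true), (.b, true), (.b, true), (.a, true), (.b, true), (.a, true), (.b, true), (.a, true), (.b, true), (.a, true), (.b, true), (.a, true)]),
  (2532, [(.a, true), (.b, true), (.a, true), (.b, true), (.a, true), (.a, true), (.b, true), (.a, true), (.b, true)]),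
  (2538, [(.b, true), (.a, true), (.b, true), (.b, true), (.a, true)]),
  (2562, [(.a, true), (.a, true), (.b, true), (.b, true), (.b, true), (.a, true), (.b, true), (.a, true), (.a, true), (.a, true), (.a, true)]),
  (2584, [(.a, true), (.a, true), (.a, true), (.a, true), (.a, true), (.a, true), (.b, true), (.b, true), (.b, true), (.b, true), (.a, true)]),
  (2601, [(.b, true), (.a, true), (.b, true), (.a, true), (.b, true), (.b, true), (.a, true), (.a, true), (.a, true)]),
  (2602, [(.b, true), (.a, true), (.b, true), (.a, true), (.b, true), (.a, true), (.b, true), (.b, true), (.a, true), (.a, true), (.a, true)]),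
  (2612, [(.b, true), (.b, true), (.a, true), (.a, true), (.a, true), (.b, true), (.b, true), (.a, true), (.a, true), (.b, true), (.a, true)]),
  (2624, [(.a, true), (.b, true), (.a, true), (.b, true), (.b, true), (.a, true), (.b, true), (.a, true), (.a, true)]),
  (2630, [(.b, true), (.b, true), (.a, true), (.b, true), (.a, true), (.b, true), (.b, true), (.a, true), (.b, true), (.a, true), (.a, true), (.b, true)]),
  (2631, [(.a, true), (.a, true), (.b, true), (.a, true), (.b, true), (.a, true), (.b, true), (.b, true)]),
  (2650, [(.b, true), (.a, true), (.a, true), (.b, true), (.b, true), (.b, true), (.b, true), (.b, true), (.a, true), (.a, true), (.b, true)]),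
  (2688, [(.a, true), (.b, true), (.a, true), (.b, true), (.b, true), (.a, true), (.b, true), (.b, true), (.b, true), (.a, true), (.b, true)]),
  (2696, [(.a, true), (.b, true), (.b, true), (.b, true), (.b, true), (.a, true), (.b, true), (.b, true), (.a, true), (.b, true)]),
  (2703, [(.a, true), (.b, true), (.a, true), (.a, true), (.a, true), (.a, true), (.a, true), (.b, true)]),
  (2721, [(.a, true), (.a, true), (.b, true), (.a, true), (.b, true), (.b, true), (.a, true), (.b, true), (.b, true), (.a, true), (.b, true)]),
  (2724, [(.a, true), (.a, true), (.a, true), (.b, true), (.a, true), (.a, true), (.a, true), (.a, true), (.a, true), (.b, true), (.b, true)]),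
  (2746, [(.a, true), (.b, true), (.b, true), (.a, true), (.b, true), (.a, true), (.b, true), (.b, true), (.a, true), (.a, true), (.b, true)]),
  (2748, [(.b, true), (.a, true), (.b, true), (.a, true), (.b, true), (.a, true), (.a, true), (.a, true), (.b, true)]),
  (2750, [(.a, true), (.b, true), (.a, true), (.b, true), (.b, true), (.b, true), (.b, true), (.a, true)]),
  (2754, [(.a, true), (.a, true), (.a, true), (.a, true), (.a, true), (.b, true), (.b, true), (.a, true), (.a, true)]),
  (2767, [(.b, true), (.a, true), (.b, true), (.a, true), (.b, true), (.b, true), (.a, true), (.b, true), (.a, true), (.b, true), (.a, true)]),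
  (2770, [(.b, true), (.a, true), (.a, true), (.b, true), (.b, true), (.b, true), (.b, true), (.a, true), (.b, true), (.a, true), (.b, true)]),
  (2775, [(.b, true), (.a, true), (.a, true), (.a, true), (.a, true)]),
  (2781, [(.a, true), (.a, true), (.a, true), (.b, true), (.a, true), (.b, true), (.a, true), (.b, true), (.b, true), (.b, true)]),
  (2782, [(.b, true), (.a, true), (.a, true), (.a, true), (.b, true), (.b, true)]),
  (2787, [(.a, true), (.a, true), (.b, true), (.b, true), (.b, true), (.a, true), (.a, true), (.b, true), (.b, true), (.a, true), (.b, true)]),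
  (2804, [(.a, true), (.b, true), (.a, true), (.b, true), (.b, true), (.a, true), (.b, true), (.b, true), (.b, true), (.a, true)]),
  (2822, [(.a, true), (.a, true), (.b, true), (.b, true), (.a, true), (.b, true), (.b, true), (.b, true), (.a, true), (.a, true)]),
  (2825, [(.b, true), (.b, true), (.b, true), (.a, true), (.b, true), (.a, true), (.b, true), (.a, true), (.b, true), (.a, true), (.b, true), (.a, true)]),
  (2826, [(.b, true), (.a, true), (.b, true), (.b, true), (.b, true), (.b, true), (.a, true), (.a, true), (.b, true), (.a, true)]),
  (2831, [(.b, true), (.a, true), (.b, true), (.b, true), (.a, true), (.b, true), (.b, true)]),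
  (2879, [(.b, true), (.a, true), (.a, true), (.b, true), (.a, true), (.b, true), (.a, true), (.b, true)]),
  (2901, [(.b, true), (.b, true), (.b, true), (.a, true), (.b, true), (.a, true), (.a, true), (.a, true), (.b, true)]),
  (2912, [(.b, true), (.a, true), (.b, true), (.a, true), (.b, true), (.a, true), (.a, true), (.b, true), (.b, true), (.a, true)]),
  (2937, [(.a, true), (.b, true), (.b, true), (.a, true), (.b, true), (.b, true), (.a, true), (.a, true), (.a, true), (.a, true), (.a, true), (.a, true), (.a, true)]),
  (2971, [(.b, true), (.a, true), (.a, true), (.b, true), (.b, true), (.b, true), (.b, true), (.a, true), (.a, true)]),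
  (2972, [(.b, true), (.a, true), (.a, true), (.b, true), (.a, true), (.b, true), (.a, true), (.b, true), (.a, true), (.a, true), (.a, true)]),
  (2991, [(.b, true), (.b, true), (.a, true), (.a, true), (.a, true), (.b, true), (.b, true), (.a, true), (.a, true), (.a, true), (.a, true), (.a, true)]),
  (3008, [(.b, true), (.a, true), (.a, true), (.b, true), (.b, true), (.a, true), (.a, true), (.a, true), (.b, true)]),
  (3009, [(.a, true), (.b, true), (.b, true), (.a, true), (.b, true), (.b, true), (.b, true), (.a, true)]),
  (3035, [(.a, true), (.a, true), (.a, true), (.a, true), (.b, true), (.b, true), (.b, true), (.b, true), (.b, true)]),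
  (3045, [(.a, true), (.a, true), (.b, true), (.a, true), (.b, true), (.a, true), (.b, true), (.b, true), (.b, true)]),
  (3046, [(.a, true), (.b, true), (.b, true), (.a, true), (.b, true), (.b, true), (.b, true), (.a, true), (.a, true)]),
  (3066, [(.a, true), (.a, true), (.a, true), (.a, true), (.b, true), (.a, true), (.b, true), (.a, true), (.b, true), (.b, true), (.b, true)]),
  (3069, [(.a, true), (.b, true), (.a, true), (.b, true), (.b, true), (.a, true), (.a, true)]),
  (3072, [(.b, true), (.a, true), (.a, true)]),
  (3073, [(.b, true), (.a, true), (.a, true), (.b, true), (.b, true), (.b, true), (.a, true), (.b, true), (.a, true)]),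
  (3094, [(.b, true), (.a, true), (.b, true), (.b, true), (.a, true), (.b, true), (.b, true), (.b, true), (.a, true), (.b, true)]),
  (3096, [(.a, true), (.a, true), (.a, true), (.a, true), (.a, true), (.b, true), (.b, true), (.b, true), (.b, true), (.b, true)]),
  (3120, [(.a, true), (.b, true), (.b, true), (.b, true), (.b, true), (.a, true), (.a, true), (.b, true), (.a, true), (.a, true), (.a, true)]),
  (3122, [(.a, true), (.b, true), (.b, true), (.b, true)]),
  (3123, [(.a, true), (.a, true), (.b, true), (.a, true), (.b, true), (.a, true), (.a, true), (.a, true), (.a, true)]),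
  (3131, [(.b, true), (.b, true), (.a, true), (.a, true), (.b, true), (.b, true), (.a, true), (.b, true), (.a, true)]),
  (3132, [(.b, true), (.b, true), (.a, true), (.b, true), (.b, true), (.a, true), (.b, true), (.b, true), (.b, true), (.a, true), (.b, true), (.a, true)]),
  (3156, [(.a, true), (.a, true), (.a, true), (.b, true), (.a, true), (.b, true), (.b, true), (.a, true), (.b, true)]),
  (3166, [(.a, true), (.a, true), (.a, true), (.b, true), (.a, true), (.b, true), (.b, true), (.b, true)]),
  (3182, [(.a, true), (.b, true), (.b, true), (.b, true), (.b, true), (.a, true), (.a, true), (.a, true), (.a, true), (.a, true)]),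
  (3193, [(.b, true), (.b, true), (.b, true), (.a, true), (.b, true), (.b, true), (.b, true)]),
  (3194, [(.a, true), (.b, true), (.a, true), (.a, true), (.b, true), (.b, true), (.b, true), (.a, true), (.b, true)]),
  (3207, [(.a, true), (.b, true), (.b, true), (.b, true), (.b, true), (.b, true), (.a, true), (.b, true), (.b, true)]),
  (3240, [(.a, true), (.a, true), (.a, true), (.b, true), (.a, true), (.b, true), (.a, true), (.a, true), (.a, true), (.a, true), (.a, true), (.a, true)]),
  (3264, [(.b, true), (.b, true), (.b, true), (.b, true), (.a, true), (.a, true), (.b, true), (.a, true), (.b, true)]),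
  (3270, [(.a, true), (.b, true), (.a, true), (.b, true), (.b, true), (.b, true), (.a, true), (.b, true), (.b, true), (.a, true), (.a, true)]),
  (3291, [(.a, true), (.b, true), (.b, true), (.a, true), (.a, true), (.a, true), (.b, true), (.a, true), (.b, true), (.b, true)]),
  (3301, [(.b, true), (.a, true), (.a, true), (.b, true), (.b, true), (.b, true), (.a, true), (.b, true), (.b, true), (.a, true), (.b, true)]),
  (3302, [(.b, true), (.a, true), (.a, true), (.b, true), (.b, true), (.b, true), (.a, true), (.b, true), (.b, true), (.a, true), (.b, true), (.b, true), (.a, true)]),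
  (3311, [(.a, true), (.a, true), (.b, true), (.a, true), (.b, true), (.a, true), (.a, true), (.a, true), (.a, true), (.a, true), (.a, true)]),
  (3327, [(.b, true), (.b, true), (.a, true), (.a, true), (.a, true), (.b, true), (.b, true), (.a, true), (.a, true), (.a, true), (.b, true)]),
  (3331, [(.a, true), (.b, true), (.a, true), (.a, true), (.b, true), (.b, true), (.a, true), (.b, true), (.b, true), (.a, true)]),
  (3333, [(.b, true), (.a, true), (.a, true), (.b, true), (.b, true), (.b, true), (.a, true), (.a, true), (.a, true)]),
  (3343, [(.a, true), (.a, true), (.b, true), (.b, true), (.b, true), (.b, true), (.b, true), (.a, true)]),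
  (3367, [(.a, true), (.b, true), (.b, true), (.b, true), (.a, true), (.b, true), (.b, true), (.b, true), (.b, true), (.a, true)]),
  (3403, [(.b, true), (.b, true), (.a, true), (.b, true), (.a, true), (.a, true), (.b, true), (.a, true), (.a, true), (.b, true)]),
  (3404, [(.b, true), (.a, true), (.a, true), (.b, true), (.a, true), (.b, true), (.a, true), (.b, true), (.a, true), (.b, true)]),
  (3443, [(.b, true), (.a, true), (.a, true), (.a, true), (.b, true), (.a, true), (.b, true), (.a, true), (.a, true)]),
  (3445, [(.b, true), (.b, true), (.b, true), (.a, true), (.a, true), (.b, true), (.b, true), (.a, true), (.a, true), (.a, true), (.a, true)]),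
  (3461, [(.a, true), (.a, true), (.a, true), (.a, true), (.a, true), (.b, true), (.b, true), (.b, true), (.b, true)]),
  (3472, [(.b, true), (.a, true), (.a, true), (.b, true), (.b, true), (.b, true), (.a, true), (.a, true), (.b, true), (.a, true), (.a, true), (.a, true)]),
  (3512, [(.a, true), (.a, true), (.b, true), (.b, true), (.b, true), (.b, true), (.b, true), (.a, true), (.a, true), (.b, true)]),
  (3523, [(.b, true), (.a, true), (.b, true), (.a, true), (.b, true), (.b, true), (.a, true), (.b, true), (.a, true), (.a, true)]),
  (3526, [(.b, true), (.b, true), (.b, true), (.b, true), (.a, true), (.a, true), (.a, true), (.b, true)]),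
  (3539, [(.b, true), (.b, true), (.b, true), (.b, true), (.b, true), (.a, true), (.a, true), (.a, true), (.b, true), (.a, true)]),
  (3545, [(.a, true), (.a, true), (.b, true), (.a, true), (.a, true), (.a, true), (.a, true)]),
  (3556, [(.b, true), (.a, true), (.b, true), (.b, true), (.b, true), (.a, true), (.a, true), (.b, true), (.a, true), (.a, true)]),
  (3557, [(.a, true), (.a, true), (.b, true), (.a, true), (.b, true), (.a, true), (.b, true), (.a, true), (.a, true)]),
  (3588, [(.b, true), (.a, true), (.a, true), (.a, true), (.b, true), (.a, true), (.b, true), (.b, true), (.b, true), (.b, true), (.a, true)]),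
  (3606, [(.a, true), (.b, true), (.a, true), (.a, true)]),
  (3614, [(.a, true), (.b, true), (.b, true), (.b, true), (.a, true), (.a, true), (.b, true), (.a, true)]),
  (3631, [(.b, true), (.b, true), (.a, true), (.b, true), (.b, true), (.b, true), (.a, true), (.a, true)]),
  (3636, [(.a, true), (.b, true), (.b, true), (.b, true), (.b, true), (.a, true), (.b, true), (.b, true), (.b, true), (.b, true), (.a, true)]),
  (3645, [(.a, true), (.a, true), (.b, true), (.b, true), (.a, true), (.b, true), (.b, true), (.a, true), (.b, true)]),
  (3652, [(.a, true), (.b, true), (.a, true), (.a, true), (.b, true), (.b, true), (.b, true)]),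
  (3656, [(.a, true), (.a, true), (.b, true), (.b, true), (.b, true), (.b, true), (.a, true), (.b, true), (.a, true), (.b, true)]),
  (3671, [(.a, true), (.b, true), (.a, true), (.b, true), (.b, true), (.a, true), (.a, true), (.a, true), (.b, true), (.b, true), (.a, true), (.a, true)]),
  (3681, [(.a, true), (.b, true), (.b, true), (.b, true), (.b, true), (.b, true), (.a, true), (.a, true), (.b, true), (.b, true), (.a, true)]),
  (3687, [(.b, true), (.b, true), (.b, true), (.a, true), (.a, true), (.a, true), (.b, true), (.b, true)]),
  (3694, [(.a, true), (.b, true), (.b, true), (.a, true), (.b, true), (.b, true), (.b, true), (.b, true)]),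
  (3700, [(.b, true), (.b, true), (.a, true), (.b, true), (.b, true), (.a, true), (.a, true), (.b, true), (.a, true), (.a, true)]),
  (3716, [(.b, true), (.b, true), (.b, true), (.a, true), (.a, true), (.a, true), (.a, true)]),
  (3726, [(.a, true), (.b, true), (.b, true), (.a, true), (.b, true), (.b, true), (.b, true), (.a, true), (.a, true), (.a, true)]),
  (3737, [(.b, true), (.a, true), (.b, true), (.a, true), (.a, true), (.b, true), (.a, true), (.a, true), (.a, true), (.a, true), (.a, true), (.a, true)]),
  (3742, [(.b, true), (.b, true), (.b, true), (.b, true), (.b, true), (.a, true), (.a, true), (.a, true), (.a, true), (.a, true)]),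
  (3755, [(.b, true), (.a, true), (.a, true), (.a, true), (.b, true), (.a, true), (.b, true)]),
  (3768, [(.a, true), (.b, true), (.a, true), (.b, true), (.b, true), (.a, true), (.b, true), (.b, true), (.a, true), (.a, true), (.b, true), (.a, true)]),
  (3777, [(.a, true), (.b, true), (.a, true), (.b, true), (.b, true), (.a, true), (.b, true), (.b, true), (.a, true)]),
  (3786, [(.b, true), (.b, true), (.a, true), (.a, true), (.a, true), (.b, true), (.b, true), (.b, true), (.a, true), (.a, true), (.a, true)]),
  (3793, [(.b, true), (.b, true), (.b, true), (.a, true), (.b, true), (.b, true), (.b, true), (.b, true)]),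
  (3815, [(.a, true), (.a, true), (.a, true), (.a, true), (.a, true), (.a, true), (.b, true), (.b, true)]),
  (3837, [(.a, true), (.a, true), (.b, true), (.a, true), (.b, true), (.a, true), (.a, true), (.b, true), (.b, true), (.a, true), (.b, true)]),
  (3839, [(.a, true), (.b, true), (.b, true), (.b, true), (.a, true), (.a, true), (.b, true), (.b, true), (.b, true), (.a, true), (.a, true)]),
  (3866, [(.a, true), (.b, true), (.a, true), (.a, true), (.a, true), (.a, true), (.a, true), (.b, true), (.b, true), (.b, true), (.a, true)]),
  (3871, [(.b, true), (.a, true), (.b, true), (.a, true), (.a, true), (.a, true)]),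
  (3894, [(.a, true), (.a, true), (.a, true), (.b, true), (.b, true), (.b, true), (.b, true), (.a, true), (.b, true), (.b, true), (.b, true)]),
  (3962, [(.b, true), (.a, true), (.a, true), (.a, true), (.b, true), (.b, true), (.b, true), (.a, true), (.a, true), (.a, true)]),
  (3965, [(.b, true), (.b, true), (.b, true), (.a, true), (.a, true), (.a, true), (.b, true), (.a, true), (.b, true), (.a, true), (.a, true), (.a, true)]),
  (3968, [(.b, true), (.b, true), (.b, true), (.b, true), (.a, true), (.a, true), (.b, true), (.b, true), (.b, true), (.b, true), (.a, true), (.b, true)]),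
  (3977, [(.b, true), (.b, true), (.a, true), (.b, true), (.a, true), (.b, true), (.b, true), (.b, true), (.b, true), (.a, true), (.a, true), (.b, true)]),
  (3982, [(.a, true), (.a, true), (.b, true), (.a, true), (.b, true), (.a, true), (.b, true), (.b, true), (.a, true), (.a, true)]),
  (3984, [(.b, true), (.b, true), (.b, true), (.a, true), (.a, true), (.b, true), (.a, true), (.b, true), (.a, true), (.a, true), (.b, true), (.a, true)]),
  (4024, [(.b, true), (.b, true), (.a, true), (.a, true), (.b, true), (.a, true), (.a, true), (.b, true), (.a, true)]),
  (4038, [(.a, true), (.b, true), (.b, true), (.b, true), (.a, true), (.b, true), (.a, true), (.b, true), (.b, true)]),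
  (4047, [(.a, true), (.a, true), (.b, true), (.b, true), (.a, true), (.a, true), (.b, true), (.a, true), (.b, true), (.a, true)]),
  (4053, [(.a, true), (.a, true), (.a, true), (.b, true), (.b, true), (.a, true), (.b, true), (.b, true), (.a, true), (.b, true), (.a, true), (.a, true)]),
  (4079, [(.b, true), (.b, true), (.a, true), (.a, true), (.b, true), (.b, true), (.a, true), (.a, true), (.a, true), (.b, true), (.a, true), (.a, true)]),
  (4080, [(.b, true), (.b, true), (.a, true), (.a, true), (.a, true), (.b, true), (.a, true), (.b, true), (.b, true), (.b, true)]),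
  (4083, [(.b, true), (.a, true), (.b, true), (.a, true), (.a, true), (.b, true), (.b, true), (.a, true), (.a, true), (.b, true), (.a, true)]),
  (4087, [(.b, true), (.b, true), (.b, true), (.a, true), (.b, true), (.a, true), (.b, true), (.b, true), (.b, true)]),
  (4089, [(.a, true), (.a, true), (.b, true), (.b, true), (.b, true), (.b, true), (.b, true), (.a, true), (.b, true)]),
  (4101, [(.b, true), (.b, true), (.a, true), (.b, true), (.a, true), (.b, true), (.a, true), (.b, true), (.a, true), (.b, true), (.b, true)]),
  (4104, [(.b, true), (.b, true), (.a, true), (.a, true), (.a, true), (.b, true), (.a, true), (.b, true), (.b, true)]),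
  (4107, [(.a, true), (.a, true), (.b, true), (.b, true), (.b, true), (.a, true), (.a, true), (.b, true), (.a, true), (.b, true)]),
  (4109, [(.b, true), (.a, true), (.b, true), (.a, true), (.b, true), (.a, true), (.a, true), (.b, true), (.a, true)]),
  (4110, [(.b, true), (.a, true), (.b, true), (.a, true), (.a, true), (.b, true), (.a, true), (.b, true), (.a, true), (.a, true)]),
  (4112, [(.b, true), (.a, true), (.a, true), (.b, true), (.a, true), (.b, true), (.a, true), (.b, true), (.b, true), (.a, true), (.a, true), (.b, true)]),
  (4122, [(.b, true), (.a, true), (.b, true), (.a, true), (.a, true), (.a, true), (.a, true)]),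
  (4125, [(.a, true), (.b, true), (.b, true), (.b, true), (.b, true), (.a, true), (.b, true), (.b, true), (.b, true), (.b, true)]),
  (4127, [(.b, true), (.a, true), (.a, true), (.b, true), (.b, true), (.a, true), (.a, true), (.a, true), (.a, true)]),
  (4131, [(.b, true), (.a, true), (.a, true), (.a, true), (.a, true), (.a, true), (.b, true), (.b, true), (.a, true), (.a, true), (.b, true)]),
  (4142, [(.a, true), (.b, true), (.a, true), (.b, true), (.b, true), (.b, true), (.b, true), (.a, true), (.a, true), (.a, true), (.b, true)]),
  (4155, [(.a, true), (.b, true), (.b, true), (.b, true), (.b, true), (.b, true), (.a, true), (.b, true), (.a, true)]),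
  (4178, [(.b, true), (.b, true), (.b, true), (.b, true), (.a, true), (.b, true)]),
  (4201, [(.a, true), (.b, true), (.a, true), (.b, true), (.a, true), (.b, true), (.a, true), (.b, true), (.b, true)]),
  (4211, [(.b, true), (.b, true), (.a, true), (.a, true), (.b, true), (.a, true), (.a, true), (.b, true), (.a, true), (.a, true)]),
  (4218, [(.b, true), (.b, true), (.b, true), (.b, true), (.a, true), (.b, true), (.b, true), (.b, true), (.a, true), (.b, true)]),
  (4224, [(.b, true), (.b, true), (.a, true), (.b, true), (.b, true), (.a, true), (.a, true), (.a, true), (.a, true), (.a, true), (.a, true), (.a, true)]),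
  (4227, [(.b, true), (.a, true), (.b, true), (.a, true), (.b, true)]),
  (4247, [(.b, true), (.b, true), (.b, true), (.b, true), (.a, true), (.a, true), (.a, true)]),
  (4265, [(.a, true), (.a, true), (.a, true), (.b, true), (.a, true), (.a, true)]),
  (4271, [(.a, true), (.a, true), (.b, true), (.a, true), (.b, true), (.a, true), (.a, true), (.a, true), (.a, true), (.a, true)]),
  (4281, [(.b, true), (.a, true), (.b, true), (.a, true), (.a, true), (.b, true), (.b, true), (.b, true), (.a, true), (.a, true)]),
  (4292, [(.b, true), (.b, true), (.b, true), (.b, true), (.b, true), (.a, true)]),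
  (4296, [(.b, true), (.b, true), (.b, true), (.a, true), (.b, true), (.b, true), (.a, true), (.b, true), (.b, true), (.a, true), (.a, true)]),
  (4297, [(.a, true), (.a, true), (.b, true), (.b, true), (.a, true), (.a, true), (.b, true), (.a, true), (.b, true)]),
  (4309, [(.b, true), (.a, true), (.b, true), (.b, true), (.a, true), (.a, true), (.a, true), (.b, true), (.b, true), (.a, true), (.a, true), (.a, true)]),
  (4318, [(.a, true), (.a, true), (.a, true), (.a, true), (.b, true), (.a, true), (.a, true), (.a, true), (.a, true), (.a, true), (.a, true)]),
  (4326, [(.a, true), (.b, true), (.b, true), (.b, true), (.b, true), (.a, true)]),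
  (4355, [(.a, true), (.a, true), (.a, true), (.a, true), (.b, true), (.b, true), (.b, true), (.a, true)]),
  (4356, [(.b, true), (.a, true), (.b, true), (.a, true), (.a, true), (.a, true), (.b, true), (.a, true), (.a, true), (.a, true)]),
  (4360, [(.a, true), (.b, true), (.a, true), (.b, true), (.a, true), (.a, true), (.a, true), (.a, true)]),
  (4361, [(.a, true), (.a, true), (.a, true), (.a, true), (.b, true), (.b, true), (.a, true)]),
  (4386, [(.a, true), (.b, true), (.b, true), (.b, true), (.a, true), (.b, true), (.b, true), (.b, true), (.a, true), (.b, true), (.a, true)]),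
  (4392, [(.b, true), (.b, true), (.b, true), (.a, true), (.b, true), (.a, true), (.a, true), (.b, true), (.a, true), (.a, true), (.a, true)]),
  (4418, [(.a, true), (.a, true), (.b, true), (.b, true), (.a, true), (.a, true), (.a, true), (.a, true)]),
  (4420, [(.b, true), (.b, true), (.b, true), (.a, true), (.b, true), (.a, true), (.a, true)]),
  (4423, [(.a, true), (.a, true), (.a, true), (.a, true), (.a, true), (.b, true), (.b, true), (.b, true), (.a, true)]),
  (4447, [(.a, true), (.a, true), (.a, true), (.a, true), (.b, true), (.a, true), (.a, true), (.a, true), (.a, true), (.a, true), (.b, true), (.b, true)]),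
  (4459, [(.b, true), (.b, true), (.b, true), (.a, true), (.b, true), (.b, true), (.a, true), (.b, true), (.a, true), (.a, true)]),
  (4462, [(.a, true), (.a, true), (.a, true), (.b, true), (.a, true), (.b, true), (.b, true), (.b, true), (.b, true)]),
  (4466, [(.a, true), (.b, true), (.a, true), (.b, true), (.a, true), (.b, true), (.b, true), (.b, true), (.b, true)]),
  (4469, [(.b, true), (.b, true), (.a, true), (.a, true), (.a, true), (.b, true), (.a, true), (.b, true), (.b, true), (.a, true), (.a, true), (.a, true)]),
  (4484, [(.b, true), (.b, true), (.a, true), (.a, true), (.b, true), (.a, true), (.b, true), (.a, true)]),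
  (4494, [(.b, true), (.b, true), (.b, true), (.b, true), (.a, true), (.a, true), (.a, true), (.b, true), (.a, true)]),
  (4525, [(.a, true), (.b, true), (.a, true), (.b, true), (.a, true), (.a, true), (.b, true), (.b, true)]),
  (4539, [(.b, true), (.a, true), (.b, true), (.a, true), (.b, true), (.a, true), (.b, true), (.a, true), (.b, true)]),
  (4551, [(.a, true), (.a, true), (.a, true), (.a, true), (.a, true), (.a, true), (.b, true), (.b, true), (.b, true), (.b, true)]),
  (4558, [(.a, true), (.a, true), (.a, true), (.b, true), (.a, true), (.b, true), (.b, true), (.b, true), (.a, true), (.b, true)]),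
  (4571, [(.b, true), (.b, true), (.a, true), (.a, true), (.b, true)]),
  (4574, [(.b, true), (.b, true), (.b, true), (.b, true), (.a, true), (.a, true), (.a, true), (.a, true), (.a, true), (.a, true)]),
  (4576, [(.b, true), (.a, true), (.b, true), (.b, true), (.a, true), (.b, true), (.b, true), (.b, true), (.a, true), (.a, true), (.b, true)]),
  (4583, [(.b, true), (.a, true), (.a, true), (.b, true), (.b, true), (.a, true), (.b, true), (.b, true)]),
  (4592, [(.a, true), (.b, true), (.a, true), (.a, true), (.a, true), (.b, true), (.a, true), (.b, true), (.a, true), (.a, true), (.a, true)]),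
  (4615, [(.a, true), (.b, true), (.a, true), (.a, true), (.b, true), (.a, true), (.b, true), (.b, true), (.b, true), (.a, true)]),
  (4623, [(.a, true), (.b, true), (.a, true), (.b, true), (.a, true), (.b, true), (.a, true), (.b, true)]),
  (4626, [(.b, true), (.a, true), (.b, true), (.a, true), (.a, true), (.a, true), (.b, true)]),
  (4651, [(.b, true), (.a, true), (.a, true), (.b, true), (.b, true), (.a, true), (.b, true), (.b, true), (.a, true), (.a, true)]),
  (4654, [(.a, true), (.a, true), (.b, true), (.a, true), (.b, true), (.a, true), (.a, true), (.b, true), (.b, true), (.a, true), (.b, true), (.a, true)]),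
  (4660, [(.a, true), (.a, true), (.b, true), (.a, true), (.b, true), (.b, true), (.a, true), (.a, true), (.a, true), (.b, true)]),
  (4690, [(.a, true), (.b, true), (.b, true), (.b, true), (.b, true), (.a, true), (.a, true), (.a, true), (.b, true), (.a, true), (.b, true)]),
  (4707, [(.b, true), (.b, true), (.a, true), (.a, true), (.b, true), (.a, true), (.b, true), (.a, true), (.b, true), (.a, true)]),
  (4740, [(.b, true), (.a, true), (.b, true), (.a, true), (.b, true), (.a, true), (.a, true), (.a, true)]),
  (4758, [(.b, true), (.a, true), (.b, true), (.a, true), (.b, true), (.a, true), (.b, true), (.a, true), (.b, true), (.a, true), (.b, true), (.a, true)]),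
  (4762, [(.a, true), (.b, true), (.a, true), (.a, true), (.a, true), (.b, true), (.b, true)]),
  (4765, [(.b, true), (.b, true), (.a, true), (.a, true), (.b, true), (.a, true), (.a, true), (.a, true), (.a, true), (.a, true)]),
  (4781, [(.a, true), (.a, true), (.a, true), (.a, true), (.a, true), (.a, true), (.a, true), (.b, true), (.b, true), (.b, true)]),
  (4791, [(.b, true)]),
  (4826, [(.b, true), (.a, true), (.b, true), (.a, true), (.a, true), (.b, true), (.a, true), (.a, true), (.b, true), (.a, true), (.a, true)]),
  (4827, [(.b, true), (.b, true), (.a, true), (.a, true), (.b, true), (.b, true), (.a, true), (.b, true), (.b, true)]),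
  (4830, [(.b, true), (.b, true), (.b, true), (.a, true), (.b, true), (.a, true), (.b, true), (.a, true), (.b, true), (.a, true), (.b, true), (.b, true)]),
  (4859, [(.a, true), (.b, true), (.a, true), (.a, true), (.b, true), (.a, true), (.b, true), (.b, true), (.a, true), (.b, true), (.a, true)]),
  (4863, [(.a, true), (.a, true), (.b, true), (.b, true), (.a, true), (.b, true), (.b, true), (.b, true), (.a, true)]),
  (4867, [(.b, true), (.b, true), (.a, true), (.a, true), (.b, true), (.b, true), (.a, true), (.a, true), (.a, true), (.a, true)]),
  (4877, [(.b, true), (.a, true), (.b, true), (.b, true), (.b, true), (.a, true), (.b, true), (.b, true), (.b, true), (.a, true)]),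
  (4878, [(.a, true), (.a, true), (.a, true), (.a, true), (.a, true), (.a, true), (.a, true), (.b, true), (.b, true), (.a, true), (.a, true), (.b, true)]),
  (4887, [(.a, true), (.b, true), (.a, true), (.b, true), (.a, true), (.b, true), (.a, true), (.b, true), (.b, true), (.a, true), (.a, true)]),
  (4888, [(.b, true), (.a, true), (.b, true), (.b, true), (.a, true), (.b, true), (.a, true), (.b, true), (.a, true), (.b, true)]),
  (4900, [(.b, true), (.b, true), (.a, true), (.a, true), (.b, true), (.a, true), (.b, true), (.a, true), (.a, true)]),
  (4910, [(.b, true), (.a, true), (.a, true), (.a, true), (.a, true), (.a, true), (.b, true), (.a, true)]),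
  (4913, [(.b, true), (.a, true), (.a, true), (.b, true), (.a, true), (.a, true)]),
  (4923, [(.a, true), (.a, true), (.a, true), (.a, true), (.b, true), (.b, true), (.b, true), (.b, true), (.a, true)]),
  (4931, [(.a, true), (.b, true), (.b, true), (.a, true), (.b, true), (.b, true), (.a, true), (.a, true), (.a, true), (.a, true), (.a, true), (.a, true)]),
  (4942, [(.a, true), (.a, true), (.a, true), (.a, true), (.b, true), (.b, true), (.b, true), (.a, true), (.b, true), (.a, true), (.a, true)]),
  (4957, [(.b, true), (.b, true), (.a, true), (.b, true), (.a, true), (.b, true), (.b, true), (.a, true), (.a, true), (.b, true)]),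
  (4965, [(.b, true), (.a, true), (.b, true), (.b, true), (.a, true), (.b, true), (.a, true), (.b, true), (.a, true), (.b, true), (.a, true), (.b, true)]),
  (4967, [(.b, true), (.b, true), (.b, true), (.a, true), (.a, true), (.b, true), (.b, true), (.b, true), (.b, true), (.b, true), (.a, true), (.a, true)]),
  (4993, [(.a, true), (.b, true), (.a, true), (.b, true), (.b, true), (.b, true), (.a, true), (.a, true)]),
  (5000, [(.b, true), (.a, true), (.b, true), (.b, true), (.b, true), (.a, true), (.b, true), (.a, true), (.a, true), (.a, true), (.a, true)]),
  (5037, [(.a, true), (.a, true), (.a, true), (.b, true), (.a, true), (.a, true), (.a, true), (.a, true), (.a, true)]),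
  (5039, [(.b, true), (.a, true), (.b, true), (.b, true), (.a, true), (.b, true), (.b, true), (.a, true), (.a, true), (.a, true), (.a, true)]),
  (5048, [(.b, true), (.a, true), (.b, true), (.a, true), (.b, true), (.b, true), (.a, true), (.b, true), (.b, true), (.b, true)]),
  (5053, [(.a, true), (.b, true), (.b, true), (.b, true), (.b, true), (.b, true), (.a, true), (.a, true), (.b, true), (.a, true)]),
  (5057, [(.b, true), (.b, true), (.a, true), (.b, true), (.b, true), (.b, true), (.b, true), (.a, true)]),
  (5058, [(.b, true), (.a, true), (.a, true), (.a, true), (.b, true), (.a, true), (.a, true)]),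
  (5109, [(.b, true), (.a, true), (.a, true), (.b, true), (.b, true), (.b, true), (.b, true), (.b, true), (.a, true), (.a, true), (.b, true), (.b, true)]),
  (5110, [(.b, true), (.b, true), (.a, true), (.b, true), (.b, true), (.b, true), (.a, true), (.a, true), (.a, true)]),
  (5111, [(.b, true), (.b, true), (.b, true), (.a, true), (.b, true), (.b, true), (.a, true), (.a, true), (.a, true), (.a, true)]),
  (5121, [(.b, true), (.a, true), (.b, true), (.a, true), (.b, true), (.a, true), (.a, true), (.b, true), (.b, true), (.b, true), (.a, true), (.b, true), (.a, true)]),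
  (5126, [(.b, true), (.a, true), (.a, true), (.b, true), (.b, true), (.b, true), (.b, true), (.b, true), (.a, true)]),
  (5128, [(.b, true), (.a, true), (.a, true), (.b, true), (.b, true), (.b, true), (.b, true), (.a, true), (.b, true)]),
  (5131, [(.a, true), (.a, true), (.a, true), (.a, true), (.b, true), (.a, true), (.b, true), (.a, true), (.b, true), (.b, true), (.a, true)]),
  (5143, [(.b, true), (.b, true), (.b, true), (.a, true), (.a, true), (.b, true), (.a, true), (.a, true), (.a, true)]),
  (5152, [(.a, true), (.a, true), (.b, true), (.a, true), (.b, true), (.b, true), (.a, true), (.b, true)]),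
  (5160, [(.b, true), (.b, true), (.b, true), (.a, true), (.b, true), (.a, true), (.b, true), (.a, true), (.b, true), (.a, true), (.a, true), (.a, true), (.a, true)]),
  (5166, [(.a, true), (.a, true), (.a, true), (.b, true), (.b, true), (.b, true), (.b, true), (.a, true), (.b, true), (.a, true)]),
  (5172, [(.b, true), (.a, true), (.a, true), (.b, true), (.a, true), (.b, true), (.a, true), (.a, true), (.b, true), (.b, true), (.a, true)]),
  (5193, [(.b, true), (.b, true), (.a, true), (.b, true), (.a, true), (.a, true), (.b, true), (.a, true), (.a, true), (.a, true), (.a, true)]),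
  (5205, [(.b, true), (.a, true), (.b, true), (.a, true), (.a, true), (.a, true), (.a, true), (.a, true), (.b, true), (.b, true), (.a, true)]),
  (5215, [(.a, true), (.a, true), (.b, true), (.a, true), (.b, true), (.a, true), (.b, true), (.a, true), (.a, true), (.a, true), (.b, true)]),
  (5216, [(.b, true), (.a, true), (.b, true), (.a, true), (.a, true), (.b, true), (.b, true), (.a, true), (.a, true)]),
  (5257, [(.a, true), (.b, true), (.a, true), (.b, true), (.a, true), (.a, true), (.b, true), (.b, true), (.a, true), (.b, true)]),
  (5258, [(.a, true), (.a, true), (.a, true), (.b, true), (.b, true), (.a, true), (.b, true), (.b, true), (.a, true)]),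
  (5272, [(.a, true), (.b, true), (.b, true), (.b, true), (.a, true), (.b, true), (.b, true), (.a, true), (.b, true), (.b, true)]),
  (5276, [(.b, true), (.a, true), (.a, true), (.a, true), (.b, true), (.b, true), (.b, true), (.b, true), (.a, true)]),
  (5312, [(.a, true), (.a, true), (.a, true), (.b, true), (.a, true), (.a, true), (.b, true), (.b, true)]),
  (5318, [(.b, true), (.a, true), (.a, true), (.a, true), (.a, true), (.a, true), (.a, true), (.b, true)]),
  (5325, [(.a, true), (.a, true), (.a, true), (.b, true), (.b, true), (.a, true), (.b, true), (.b, true), (.a, true), (.a, true)]),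
  (5337, [(.a, true), (.a, true), (.b, true), (.a, true), (.b, true), (.a, true), (.b, true), (.a, true), (.b, true)]),
  (5340, [(.a, true), (.a, true), (.a, true), (.b, true), (.a, true), (.a, true), (.b, true)]),
  (5353, [(.a, true), (.a, true), (.a, true), (.b, true), (.b, true), (.b, true), (.a, true), (.a, true), (.a, true)]),
  (5359, [(.b, true), (.a, true), (.a, true), (.b, true), (.a, true), (.b, true), (.b, true), (.b, true), (.a, true)]),
  (5362, [(.b, true), (.a, true), (.b, true), (.a, true), (.b, true), (.a, true), (.a, true), (.a, true), (.a, true)]),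
  (5370, [(.a, true), (.a, true), (.a, true), (.b, true), (.b, true), (.b, true), (.a, true), (.b, true), (.a, true)]),
  (5378, [(.b, true), (.a, true), (.b, true), (.b, true), (.a, true), (.b, true), (.a, true), (.b, true), (.b, true)]),
  (5381, [(.b, true), (.a, true), (.a, true), (.b, true), (.b, true), (.a, true), (.a, true), (.a, true), (.a, true), (.a, true), (.b, true)]),
  (5384, [(.a, true), (.a, true), (.a, true), (.a, true), (.a, true)]),
  (5427, [(.b, true), (.a, true), (.a, true), (.b, true), (.a, true), (.a, true), (.b, true)]),
  (5430, [(.a, true), (.a, true), (.b, true), (.b, true), (.a, true), (.b, true), (.b, true), (.a, true), (.a, true), (.a, true), (.a, true), (.a, true)]),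
  (5449, [(.b, true), (.b, true), (.a, true), (.a, true), (.b, true), (.b, true), (.a, true), (.a, true), (.a, true), (.b, true), (.a, true)]),
  (5451, [(.a, true), (.a, true), (.b, true), (.b, true), (.b, true), (.b, true), (.a, true)]),
  (5452, [(.a, true), (.a, true), (.b, true), (.a, true), (.a, true), (.b, true), (.b, true), (.b, true), (.a, true), (.a, true)]),
  (5463, [(.a, true), (.a, true), (.b, true), (.a, true), (.b, true), (.b, true), (.b, true), (.a, true)]),
  (5465, [(.b, true), (.b, true), (.a, true), (.b, true), (.a, true), (.b, true), (.b, true), (.b, true), (.b, true)]),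
  (5470, [(.b, true), (.b, true), (.b, true), (.b, true), (.a, true), (.a, true), (.b, true), (.b, true), (.b, true)]),
  (5481, [(.a, true), (.b, true), (.b, true), (.a, true), (.b, true)]),
  (5487, [(.b, true), (.b, true), (.b, true), (.b, true), (.a, true), (.a, true), (.b, true), (.a, true), (.b, true), (.a, true)]),
  (5490, [(.b, true), (.a, true), (.b, true), (.b, true), (.b, true), (.a, true), (.b, true), (.a, true), (.b, true), (.a, true), (.a, true)]),
  (5493, [(.a, true), (.a, true), (.b, true), (.b, true), (.b, true), (.a, true), (.b, true), (.b, true), (.a, true), (.a, true)]),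
  (5501, [(.a, true), (.b, true), (.a, true), (.b, true), (.a, true), (.b, true), (.a, true), (.a, true), (.a, true), (.b, true), (.a, true)]),
  (5504, [(.a, true), (.a, true), (.a, true), (.b, true), (.b, true), (.a, true), (.a, true), (.a, true)]),
  (5506, [(.a, true), (.b, true), (.b, true), (.b, true), (.a, true), (.b, true), (.a, true), (.b, true), (.b, true), (.a, true)]),
  (5535, [(.a, true), (.a, true), (.a, true), (.a, true), (.a, true), (.b, true)]),
  (5537, [(.a, true), (.b, true), (.b, true), (.b, true), (.b, true), (.a, true), (.b, true), (.b, true)]),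
  (5555, [(.b, true), (.a, true), (.b, true), (.a, true), (.a, true), (.a, true), (.b, true), (.a, true)]),
  (5573, [(.a, true), (.b, true), (.a, true), (.b, true), (.b, true), (.a, true), (.b, true), (.b, true), (.b, true), (.a, true), (.a, true)]),
  (5577, [(.a, true), (.a, true), (.b, true), (.b, true), (.a, true), (.a, true), (.b, true), (.a, true), (.a, true)]),
  (5585, [(.b, true), (.a, true), (.b, true), (.b, true), (.a, true), (.a, true), (.b, true), (.a, true), (.b, true)]),
  (5588, [(.b, true), (.b, true), (.a, true), (.a, true), (.a, true), (.a, true), (.a, true), (.b, true)]),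
  (5592, [(.a, true), (.a, true), (.a, true), (.a, true), (.b, true), (.a, true), (.b, true), (.a, true), (.a, true), (.b, true)]),
  (5600, [(.a, true), (.b, true), (.a, true), (.b, true), (.b, true), (.a, true), (.b, true), (.b, true), (.b, true)]),
  (5610, [(.b, true), (.a, true), (.b, true), (.b, true), (.b, true), (.b, true), (.a, true)]),
  (5615, [(.b, true), (.b, true), (.b, true), (.a, true), (.a, true), (.b, true), (.a, true), (.b, true), (.a, true), (.b, true), (.b, true), (.a, true)]),
  (5616, [(.a, true), (.b, true), (.b, true), (.b, true), (.b, true), (.b, true), (.a, true), (.a, true), (.b, true), (.a, true), (.a, true)]),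
  (5643, [(.b, true), (.b, true), (.b, true), (.a, true), (.b, true), (.b, true), (.b, true), (.a, true), (.b, true), (.a, true)]),
  (5647, [(.a, true), (.b, true), (.a, true), (.a, true), (.b, true), (.a, true), (.a, true), (.b, true)]),
  (5652, [(.b, true), (.b, true), (.a, true), (.a, true), (.b, true), (.a, true)]),
  (5671, [(.a, true), (.b, true), (.b, true), (.b, true), (.a, true), (.b, true), (.a, true), (.b, true), (.a, true)]),
  (5674, [(.b, true), (.b, true), (.b, true), (.a, true), (.b, true), (.b, true), (.b, true), (.b, true), (.a, true)]),
  (5681, [(.a, true), (.a, true), (.a, true), (.a, true), (.b, true), (.a, true), (.a, true), (.b, true), (.a, true), (.a, true)]),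
  (5687, [(.b, true), (.a, true), (.b, true), (.b, true), (.a, true), (.a, true), (.b, true), (.a, true), (.a, true), (.a, true), (.a, true), (.a, true)]),
  (5696, [(.a, true), (.b, true), (.b, true), (.a, true), (.a, true), (.b, true), (.a, true), (.a, true), (.a, true), (.a, true), (.a, true)]),
  (5700, [(.a, true), (.b, true), (.b, true), (.b, true), (.a, true), (.b, true), (.b, true), (.b, true), (.b, true)]),
  (5711, [(.a, true), (.a, true), (.a, true), (.b, true), (.b, true), (.b, true), (.b, true), (.b, true), (.a, true), (.a, true)]),
  (5722, [(.b, true), (.b, true), (.b, true), (.b, true), (.b, true), (.a, true), (.b, true), (.a, true), (.b, true)]),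
  (5725, [(.a, true), (.b, true), (.b, true), (.a, true), (.a, true), (.b, true), (.a, true), (.b, true)]),
  (5747, [(.a, true), (.a, true)]),
  (5766, [(.a, true), (.a, true), (.a, true), (.a, true), (.b, true), (.a, true), (.b, true), (.b, true), (.a, true), (.b, true)]),
  (5771, [(.a, true), (.b, true), (.b, true), (.a, true), (.b, true), (.a, true), (.a, true), (.b, true), (.a, true)]),
  (5777, [(.a, true), (.a, true), (.a, true), (.a, true), (.a, true), (.b, true), (.a, true), (.a, true), (.b, true), (.a, true), (.a, true)]),
  (5781, [(.a, true), (.b, true), (.a, true), (.a, true), (.a, true), (.b, true), (.a, true), (.b, true), (.a, true), (.b, true)]),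
  (5790, [(.b, true), (.b, true), (.a, true), (.a, true), (.b, true), (.b, true), (.a, true), (.b, true), (.b, true), (.b, true), (.a, true)]),
  (5792, [(.a, true), (.a, true), (.b, true), (.b, true), (.b, true), (.a, true), (.b, true), (.b, true), (.a, true), (.b, true), (.a, true), (.a, true)]),
  (5797, [(.a, true), (.b, true), (.b, true), (.a, true), (.b, true), (.b, true), (.a, true), (.a, true)]),
  (5813, [(.a, true), (.b, true), (.b, true), (.a, true), (.a, true), (.b, true), (.a, true), (.a, true), (.b, true), (.a, true), (.a, true)]),
  (5816, [(.b, true), (.a, true), (.a, true), (.a, true), (.a, true), (.a, true), (.b, true), (.b, true), (.b, true), (.b, true), (.a, true), (.a, true)]),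
  (5837, [(.b, true), (.b, true), (.a, true), (.b, true), (.a, true), (.b, true), (.a, true), (.a, true), (.a, true), (.a, true), (.a, true)]),
  (5852, [(.b, true), (.b, true), (.b, true), (.b, true), (.b, true), (.a, true), (.b, true), (.b, true), (.b, true), (.a, true)]),
  (5856, [(.b, true), (.a, true), (.a, true), (.b, true), (.a, true), (.b, true), (.a, true), (.a, true), (.a, true)]),
  (5869, [(.a, true), (.b, true), (.a, true), (.b, true), (.b, true), (.b, true), (.a, true), (.b, true), (.b, true), (.a, true)]),
  (5882, [(.b, true), (.a, true), (.b, true), (.b, true), (.a, true), (.b, true), (.a, true), (.b, true), (.a, true), (.b, true), (.b, true)]),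
  (5887, [(.b, true), (.a, true), (.a, true), (.b, true), (.a, true), (.b, true), (.a, true)]),
  (5936, [(.a, true), (.a, true), (.a, true), (.b, true), (.a, true), (.b, true), (.b, true), (.a, true), (.b, true), (.a, true), (.a, true)]),
  (5943, [(.b, true), (.b, true), (.a, true), (.a, true), (.b, true), (.b, true), (.b, true), (.a, true), (.b, true), (.a, true), (.a, true)]),
  (5959, [(.b, true), (.b, true), (.b, true), (.b, true), (.a, true), (.a, true), (.a, true), (.a, true), (.a, true), (.b, true), (.a, true)]),
  (5969, [(.a, true), (.b, true), (.b, true), (.a, true), (.b, true), (.b, true), (.a, true)]),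
  (5972, [(.b, true), (.b, true), (.b, true), (.b, true), (.a, true), (.b, true), (.b, true), (.b, true), (.a, true), (.b, true), (.a, true), (.b, true)]),
  (5985, [(.a, true), (.a, true), (.b, true), (.b, true), (.b, true), (.a, true), (.a, true), (.b, true)]),
  (5996, [(.b, true), (.b, true), (.b, true)]),
  (6014, [(.a, true), (.b, true), (.b, true), (.b, true), (.b, true), (.a, true), (.a, true), (.a, true), (.a, true), (.a, true), (.a, true), (.a, true)]),
  (6027, [(.b, true), (.a, true), (.a, true), (.a, true), (.b, true), (.a, true), (.b, true), (.b, true), (.b, true), (.a, true), (.a, true)]),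
  (6051, [(.a, true), (.a, true), (.a, true), (.b, true), (.b, true), (.a, true), (.a, true), (.a, true), (.a, true), (.a, true)]),
  (6061, [(.a, true), (.b, true), (.b, true), (.b, true), (.b, true), (.a, true), (.b, true)]),
  (6064, [(.a, true), (.a, true), (.b, true), (.b, true), (.b, true), (.b, true), (.a, true), (.a, true)]),
  (6132, [(.a, true), (.a, true), (.b, true), (.a, true), (.b, true), (.b, true), (.b, true), (.a, true), (.b, true), (.a, true), (.a, true), (.a, true), (.a, true)]),
  (6135, [(.a, true), (.b, true), (.b, true), (.b, true), (.a, true), (.b, true), (.b, true), (.a, true), (.b, true), (.a, true), (.a, true)]),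
  (6147, [(.a, true), (.b, true), (.b, true), (.b, true), (.a, true), (.b, true), (.a, true), (.b, true), (.a, true), (.b, true)]),
  (6165, [(.a, true), (.a, true), (.a, true), (.a, true), (.b, true), (.b, true), (.a, true), (.a, true), (.b, true)]),
  (6167, [(.a, true), (.a, true), (.a, true), (.b, true), (.a, true), (.a, true), (.b, true), (.a, true), (.b, true), (.a, true)]),
  (6176, [(.b, true), (.b, true), (.a, true), (.b, true), (.b, true), (.b, true), (.a, true), (.b, true), (.b, true)]),
  (6177, [(.b, true), (.a, true), (.b, true), (.a, true), (.a, true), (.a, true), (.a, true), (.a, true)]),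
  (6182, [(.a, true), (.b, true), (.a, true), (.a, true), (.b, true), (.a, true), (.b, true), (.b, true), (.b, true), (.a, true), (.a, true)]),
  (6185, [(.b, true), (.b, true), (.a, true), (.b, true), (.a, true), (.b, true), (.b, true), (.a, true), (.b, true), (.a, true), (.b, true)]),
  (6194, [(.a, true), (.a, true), (.a, true), (.b, true), (.b, true), (.a, true), (.a, true), (.b, true), (.a, true), (.a, true), (.a, true)]),
  (6224, [(.b, true), (.b, true), (.b, true), (.b, true), (.a, true), (.a, true), (.a, true), (.a, true)]),
  (6231, [(.b, true), (.a, true), (.a, true), (.a, true), (.a, true), (.a, true), (.a, true), (.a, true), (.b, true), (.b, true), (.a, true)]),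
  (6284, [(.a, true), (.a, true), (.b, true), (.a, true), (.b, true), (.b, true), (.b, true), (.a, true), (.b, true), (.a, true)]),
  (6293, [(.b, true), (.a, true), (.a, true), (.b, true), (.b, true), (.a, true), (.b, true)]),
  (6302, [(.b, true), (.b, true), (.a, true), (.b, true), (.b, true), (.a, true), (.a, true), (.b, true)]),
  (6305, [(.b, true), (.a, true), (.b, true), (.b, true), (.a, true), (.b, true), (.a, true), (.b, true), (.b, true), (.a, true), (.a, true)]),
  (6311, [(.b, true), (.b, true), (.b, true), (.a, true), (.b, true), (.b, true), (.b, true), (.a, true), (.a, true), (.b, true)]),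
  (6313, [(.b, true), (.a, true), (.b, true), (.b, true), (.a, true), (.a, true), (.b, true), (.a, true), (.a, true)]),
  (6314, [(.a, true), (.b, true), (.a, true), (.b, true), (.a, true), (.a, true), (.b, true), (.a, true), (.a, true)]),
  (6325, [(.a, true), (.b, true), (.b, true), (.b, true), (.b, true), (.a, true), (.a, true), (.a, true), (.a, true)]),
  (6328, [(.b, true), (.b, true), (.b, true), (.a, true), (.a, true), (.b, true), (.b, true), (.a, true), (.a, true), (.a, true), (.b, true)]),
  (6365, [(.a, true), (.a, true), (.b, true), (.a, true), (.b, true), (.a, true), (.a, true), (.b, true), (.a, true), (.a, true)]),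
  (6379, [(.a, true), (.a, true), (.a, true), (.a, true), (.b, true), (.b, true), (.b, true), (.b, true), (.a, true), (.a, true), (.a, true), (.b, true)]),
  (6380, [(.b, true), (.a, true), (.a, true), (.a, true), (.b, true), (.b, true), (.b, true), (.a, true), (.b, true), (.a, true)]),
  (6391, [(.a, true), (.b, true), (.b, true), (.b, true), (.b, true), (.b, true), (.a, true)]),
  (6399, [(.b, true), (.b, true), (.b, true), (.b, true), (.a, true), (.b, true), (.a, true), (.b, true), (.b, true), (.b, true)]),
  (6414, [(.b, true), (.b, true), (.b, true), (.a, true), (.b, true), (.a, true), (.a, true), (.a, true)]),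
  (6424, [(.a, true), (.a, true), (.b, true), (.b, true), (.b, true), (.a, true), (.a, true), (.b, true), (.b, true), (.b, true), (.a, true)]),
  (6436, [(.b, true), (.a, true), (.b, true), (.a, true), (.a, true), (.b, true), (.a, true), (.b, true)]),
  (6440, [(.a, true), (.a, true), (.b, true), (.a, true), (.b, true), (.b, true), (.a, true), (.a, true), (.b, true), (.a, true)]),
  (6445, [(.b, true), (.b, true), (.a, true), (.b, true), (.a, true), (.a, true), (.a, true)]),
  (6446, [(.a, true), (.a, true), (.a, true), (.a, true), (.b, true), (.b, true), (.a, true), (.a, true), (.b, true), (.a, true)]),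
  (6473, [(.b, true), (.b, true), (.a, true), (.a, true), (.a, true), (.b, true), (.b, true), (.b, true), (.a, true), (.b, true), (.a, true), (.a, true), (.a, true)]),
  (6475, [(.a, true), (.a, true), (.a, true), (.b, true), (.a, true), (.a, true), (.a, true), (.a, true)]),
  (6482, [(.a, true), (.a, true), (.b, true), (.a, true), (.a, true), (.b, true), (.a, true), (.b, true)]),
  (6524, [(.a, true), (.b, true), (.a, true), (.a, true), (.b, true), (.b, true), (.a, true), (.a, true)]),
  (6530, [(.a, true), (.b, true), (.b, true), (.b, true), (.a, true), (.b, true), (.a, true), (.a, true), (.a, true), (.a, true), (.a, true)]),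
  (6536, [(.a, true), (.a, true), (.b, true), (.a, true), (.b, true), (.a, true), (.a, true), (.b, true), (.a, true)]),
  (6542, [(.a, true), (.b, true), (.b, true), (.b, true), (.b, true), (.a, true), (.b, true), (.a, true), (.b, true), (.a, true)]),
  (6546, [(.a, true), (.b, true), (.b, true), (.b, true), (.b, true), (.b, true), (.a, true), (.a, true), (.a, true), (.b, true)]),
  (6551, [(.b, true), (.b, true), (.b, true), (.a, true), (.b, true), (.b, true), (.a, true), (.a, true), (.a, true), (.a, true), (.a, true), (.a, true), (.a, true)]),
  (6565, [(.b, true), (.b, true), (.a, true), (.b, true), (.a, true), (.a, true), (.a, true), (.b, true), (.a, true)]),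
  (6567, [(.a, true), (.b, true), (.b, true), (.a, true), (.b, true), (.a, true), (.b, true), (.b, true), (.a, true), (.a, true)]),
  (6590, [(.b, true), (.b, true), (.b, true), (.a, true), (.a, true), (.a, true), (.b, true), (.a, true), (.b, true), (.a, true), (.a, true)]),
  (6594, [(.a, true), (.b, true), (.b, true), (.b, true), (.a, true), (.b, true), (.b, true), (.a, true), (.a, true), (.a, true)]),
  (6599, [(.a, true), (.b, true), (.a, true), (.b, true), (.b, true), (.b, true), (.a, true), (.a, true), (.a, true)]),
  (6601, [(.a, true), (.a, true), (.b, true), (.a, true), (.b, true), (.b, true), (.b, true), (.a, true), (.b, true), (.a, true), (.a, true)]),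
  (6606, [(.a, true), (.a, true), (.a, true), (.b, true), (.a, true), (.b, true), (.b, true), (.a, true), (.a, true), (.a, true), (.b, true)]),
  (6618, [(.b, true), (.b, true), (.b, true), (.b, true), (.a, true), (.b, true), (.b, true), (.b, true), (.b, true), (.a, true)]),
  (6624, [(.b, true), (.a, true), (.b, true), (.a, true)]),
  (6639, [(.a, true), (.a, true), (.b, true), (.a, true), (.a, true), (.a, true), (.a, true), (.a, true), (.b, true), (.a, true)]),
  (6640, [(.b, true), (.a, true), (.a, true), (.a, true), (.b, true), (.a, true), (.b, true), (.a, true)]),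
  (6657, [(.b, true), (.b, true), (.a, true), (.b, true), (.b, true), (.a, true), (.a, true), (.a, true), (.b, true), (.a, true), (.a, true)]),
  (6665, [(.a, true), (.b, true), (.a, true), (.b, true), (.b, true), (.a, true), (.b, true), (.b, true), (.b, true), (.a, true), (.a, true), (.a, true)]),
  (6667, [(.a, true), (.a, true), (.b, true), (.b, true), (.b, true), (.a, true), (.b, true), (.a, true), (.b, true), (.b, true), (.a, true), (.a, true)]),
  (6674, [(.b, true), (.a, true), (.b, true), (.a, true), (.b, true), (.a, true)]),
  (6676, [(.b, true), (.b, true), (.a, true), (.b, true), (.b, true), (.a, true), (.a, true), (.b, true), (.a, true), (.b, true), (.a, true)]),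
  (6686, [(.b, true), (.b, true), (.a, true), (.a, true), (.a, true), (.b, true), (.a, true), (.b, true), (.a, true), (.a, true), (.a, true)]),
  (6702, [(.b, true), (.a, true), (.b, true), (.b, true), (.a, true), (.a, true), (.a, true), (.b, true), (.b, true), (.a, true), (.a, true)]),
  (6704, [(.a, true), (.b, true), (.b, true), (.b, true), (.b, true), (.a, true), (.b, true), (.b, true), (.a, true), (.b, true), (.a, true), (.a, true)]),
  (6714, [(.a, true), (.b, true), (.a, true), (.b, true), (.a, true), (.a, true), (.b, true), (.b, true), (.a, true), (.b, true), (.a, true)]),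
  (6729, [(.a, true), (.a, true), (.b, true), (.b, true), (.b, true), (.a, true), (.b, true), (.b, true), (.a, true)]),
  (6753, [(.a, true), (.a, true), (.a, true), (.b, true), (.b, true), (.a, true), (.a, true), (.a, true), (.b, true), (.b, true)]),
  (6759, [(.b, true), (.a, true), (.a, true), (.b, true), (.b, true), (.a, true), (.a, true), (.b, true), (.a, true), (.a, true), (.a, true)]),
  (6769, [(.a, true), (.b, true), (.b, true), (.b, true), (.a, true), (.b, true), (.b, true), (.a, true), (.b, true), (.a, true)]),
  (6775, [(.a, true), (.a, true), (.a, true), (.b, true), (.b, true), (.b, true), (.b, true), (.a, true)]),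
  (6787, [(.a, true), (.a, true), (.a, true), (.b, true), (.a, true), (.a, true), (.b, true), (.a, true), (.b, true), (.b, true), (.a, true)]),
  (6795, [(.b, true), (.a, true), (.b, true), (.a, true), (.b, true), (.b, true), (.a, true), (.b, true), (.a, true), (.a, true), (.b, true), (.a, true)]),
  (6801, [(.b, true), (.b, true), (.b, true), (.a, true), (.a, true), (.b, true), (.a, true), (.b, true), (.a, true), (.b, true)]),
  (6803, [(.a, true), (.b, true), (.b, true), (.a, true), (.b, true), (.a, true), (.b, true), (.a, true), (.b, true), (.a, true)]),
  (6814, [(.b, true), (.a, true), (.a, true), (.a, true), (.b, true), (.a, true)]),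
  (6821, [(.b, true), (.a, true), (.b, true), (.a, true), (.b, true), (.a, true), (.b, true), (.a, true), (.a, true), (.a, true)]),
  (6833, [(.b, true), (.a, true), (.a, true), (.a, true), (.b, true), (.a, true), (.b, true), (.b, true), (.a, true)]),
  (6838, [(.b, true), (.a, true), (.a, true), (.a, true), (.a, true), (.a, true), (.a, true), (.b, true), (.b, true), (.b, true), (.b, true)]),
  (6850, [(.b, true), (.a, true), (.a, true), (.a, true), (.b, true), (.a, true), (.b, true), (.b, true), (.a, true), (.b, true), (.a, true)]),
  (6853, [(.a, true), (.a, true), (.a, true), (.b, true), (.b, true), (.a, true), (.b, true), (.a, true)]),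
  (6857, [(.b, true), (.a, true), (.a, true), (.b, true), (.a, true), (.b, true), (.a, true), (.a, true), (.b, true), (.a, true), (.a, true)]),
  (6863, [(.a, true), (.b, true), (.a, true), (.a, true), (.a, true), (.b, true), (.a, true), (.a, true), (.a, true), (.a, true), (.a, true)]),
  (6866, [(.a, true), (.a, true), (.a, true), (.a, true), (.b, true), (.b, true), (.a, true), (.a, true), (.b, true), (.a, true), (.a, true), (.a, true)]),
  (6913, [(.a, true), (.a, true), (.b, true), (.b, true), (.b, true), (.a, true), (.b, true), (.b, true), (.b, true), (.a, true)]),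
  (6925, [(.b, true), (.b, true), (.a, true), (.b, true), (.b, true), (.a, true), (.b, true), (.b, true), (.b, true), (.b, true), (.a, true)]),
  (6930, [(.b, true), (.a, true), (.a, true), (.b, true), (.b, true), (.b, true), (.b, true), (.a, true), (.b, true), (.a, true), (.b, true), (.a, true)]),
  (6940, [(.b, true), (.a, true), (.b, true), (.a, true), (.a, true), (.b, true), (.a, true), (.b, true), (.a, true), (.a, true), (.a, true), (.a, true)]),
  (6945, [(.a, true), (.a, true), (.b, true), (.b, true), (.a, true), (.a, true), (.b, true), (.a, true), (.a, true), (.b, true)]),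
  (6947, [(.a, true), (.a, true), (.a, true), (.b, true), (.b, true), (.a, true), (.a, true), (.b, true), (.a, true), (.b, true), (.a, true)]),
  (6961, [(.b, true), (.b, true), (.b, true), (.a, true), (.a, true), (.b, true), (.a, true), (.b, true), (.a, true), (.a, true), (.b, true), (.a, true), (.a, true)]),
  (6977, [(.a, true), (.a, true), (.a, true), (.a, true)]),
  (6989, [(.b, true), (.a, true), (.a, true), (.b, true), (.b, true), (.b, true), (.a, true), (.a, true), (.b, true), (.b, true), (.a, true), (.a, true)]),
  (7029, [(.b, true), (.b, true), (.b, true), (.b, true), (.a, true), (.b, true), (.b, true), (.b, true), (.a, true)]),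
  (7032, [(.b, true), (.a, true), (.a, true), (.b, true), (.b, true), (.a, true), (.a, true), (.a, true), (.b, true), (.b, true)]),
  (7043, [(.a, true), (.b, true), (.b, true), (.b, true), (.a, true), (.b, true), (.a, true), (.b, true), (.a, true), (.a, true)]),
  (7045, [(.a, true), (.a, true), (.a, true), (.b, true), (.a, true), (.a, true), (.b, true), (.a, true), (.b, true), (.a, true), (.a, true)]),
  (7054, [(.b, true), (.b, true), (.a, true), (.b, true), (.a, true), (.b, true), (.b, true), (.b, true)]),
  (7074, [(.a, true), (.a, true), (.a, true), (.a, true), (.a, true), (.b, true), (.b, true), (.a, true), (.a, true), (.b, true)]),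
  (7077, [(.b, true), (.b, true), (.b, true), (.a, true), (.b, true), (.b, true), (.a, true), (.b, true), (.b, true), (.b, true), (.b, true)]),
  (7082, [(.b, true), (.b, true), (.a, true), (.a, true), (.a, true), (.b, true), (.b, true), (.b, true), (.a, true), (.b, true)]),
  (7089, [(.a, true), (.a, true), (.a, true), (.b, true), (.b, true), (.b, true), (.b, true), (.a, true), (.b, true), (.b, true), (.b, true), (.a, true)]),
  (7120, [(.b, true), (.b, true), (.b, true), (.a, true), (.a, true), (.b, true), (.a, true), (.b, true), (.a, true), (.a, true), (.a, true)]),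
  (7136, [(.b, true), (.b, true), (.a, true), (.a, true), (.b, true), (.a, true), (.a, true), (.a, true), (.a, true)]),
  (7140, [(.b, true), (.b, true), (.b, true), (.a, true), (.a, true), (.b, true), (.a, true), (.a, true), (.b, true), (.a, true), (.a, true)]),
  (7172, [(.b, true), (.a, true), (.a, true), (.a, true), (.b, true), (.a, true), (.b, true), (.a, true), (.b, true), (.b, true), (.b, true), (.b, true), (.a, true)]),
  (7180, [(.b, true), (.a, true), (.a, true), (.b, true)]),
  (7185, [(.b, true), (.b, true), (.a, true), (.b, true), (.b, true), (.a, true), (.a, true), (.a, true), (.a, true), (.a, true), (.a, true)]),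
  (7228, [(.b, true), (.b, true), (.a, true), (.b, true), (.b, true), (.a, true), (.b, true), (.a, true), (.a, true)]),
  (7232, [(.b, true), (.b, true), (.b, true), (.a, true), (.b, true), (.b, true), (.a, true), (.b, true), (.b, true), (.a, true), (.b, true)]),
  (7239, [(.b, true), (.b, true), (.b, true), (.a, true), (.b, true), (.b, true), (.a, true), (.b, true), (.a, true)]),
  (7245, [(.a, true), (.a, true), (.a, true), (.b, true), (.b, true), (.b, true), (.a, true), (.b, true), (.a, true), (.a, true), (.a, true)]),
  (7246, [(.a, true), (.a, true), (.a, true), (.b, true), (.b, true), (.b, true), (.b, true), (.a, true), (.b, true), (.a, true), (.b, true)]),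
  (7248, [(.a, true), (.a, true), (.b, true), (.a, true), (.b, true), (.a, true), (.b, true), (.a, true), (.a, true), (.a, true)]),
  (7264, [(.b, true), (.a, true), (.b, true), (.b, true), (.a, true), (.b, true), (.a, true), (.b, true), (.b, true), (.a, true), (.a, true), (.b, true)]),
  (7272, [(.a, true), (.b, true), (.a, true), (.b, true), (.a, true), (.b, true), (.b, true), (.b, true), (.b, true), (.a, true)]),
  (7295, [(.a, true), (.b, true), (.b, true), (.a, true), (.a, true), (.b, true), (.a, true), (.b, true), (.a, true), (.b, true), (.b, true), (.a, true), (.a, true)]),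
  (7298, [(.a, true), (.a, true), (.a, true), (.a, true), (.a, true), (.b, true), (.a, true), (.b, true)]),
  (7301, [(.b, true), (.b, true), (.b, true), (.a, true), (.b, true), (.b, true), (.a, true), (.a, true), (.a, true)]),
  (7304, [(.a, true), (.a, true), (.b, true), (.b, true), (.a, true), (.a, true), (.a, true), (.a, true), (.a, true)]),
  (7316, [(.a, true), (.a, true), (.a, true), (.b, true), (.b, true), (.b, true), (.a, true), (.a, true), (.a, true), (.a, true)]),
  (7318, [(.b, true), (.b, true), (.b, true), (.a, true), (.a, true), (.a, true), (.b, true), (.a, true), (.b, true), (.b, true)]),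
  (7331, [(.b, true), (.a, true), (.a, true), (.a, true), (.a, true), (.a, true), (.b, true), (.b, true), (.b, true), (.a, true)]),
  (7373, [(.a, true), (.b, true), (.b, true), (.a, true), (.b, true), (.a, true), (.b, true), (.a, true), (.a, true), (.a, true)]),
  (7386, [(.b, true), (.a, true), (.a, true), (.b, true), (.b, true), (.a, true), (.b, true), (.b, true), (.b, true)]),
  (7393, [(.b, true), (.b, true), (.b, true), (.b, true), (.a, true), (.a, true), (.a, true), (.a, true), (.a, true), (.a, true), (.a, true)]),
  (7397, [(.b, true), (.b, true), (.b, true), (.b, true), (.a, true), (.b, true), (.b, true), (.a, true), (.b, true), (.a, true)]),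
  (7403, [(.b, true), (.b, true), (.b, true), (.b, true), (.b, true), (.a, true), (.b, true), (.a, true)]),
  (7416, [(.a, true), (.a, true), (.b, true), (.b, true), (.b, true), (.b, true), (.b, true), (.a, true), (.a, true), (.b, true), (.b, true)]),
  (7420, [(.a, true), (.b, true), (.b, true), (.a, true), (.b, true), (.b, true), (.b, true), (.b, true), (.a, true)]),
  (7421, [(.b, true), (.b, true), (.b, true), (.b, true), (.a, true)]),
  (7427, [(.a, true), (.b, true), (.a, true), (.a, true), (.b, true), (.b, true), (.a, true)]),
  (7434, [(.b, true), (.b, true), (.b, true), (.a, true), (.a, true), (.a, true), (.b, true), (.a, true), (.b, true), (.b, true), (.b, true), (.b, true)]),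
  (7445, [(.b, true), (.a, true), (.a, true), (.b, true), (.b, true), (.b, true), (.a, true)]),
  (7450, [(.b, true), (.a, true), (.a, true), (.b, true), (.b, true), (.a, true), (.a, true), (.a, true), (.a, true), (.a, true), (.a, true)]),
  (7462, [(.b, true), (.b, true), (.a, true), (.a, true), (.a, true), (.b, true), (.a, true), (.a, true)]),
  (7473, [(.b, true), (.a, true), (.b, true), (.a, true), (.b, true), (.a, true), (.b, true), (.b, true), (.b, true), (.b, true), (.a, true)]),
  (7476, [(.b, true), (.b, true), (.b, true), (.a, true), (.a, true), (.b, true), (.b, true), (.b, true), (.b, true), (.a, true), (.b, true)]),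
  (7478, [(.a, true), (.b, true), (.b, true), (.b, true), (.a, true), (.b, true), (.b, true), (.a, true), (.a, true), (.b, true)]),
  (7497, [(.b, true), (.a, true), (.a, true), (.b, true), (.b, true), (.b, true), (.a, true), (.b, true), (.b, true)]),
  (7520, [(.b, true), (.a, true), (.b, true), (.a, true), (.a, true), (.b, true), (.a, true)]),
  (7522, [(.a, true), (.b, true), (.b, true), (.a, true), (.a, true), (.a, true), (.b, true), (.a, true), (.b, true)]),
  (7536, [(.a, true), (.a, true), (.a, true), (.b, true), (.a, true)]),
  (7542, [(.a, true), (.a, true), (.b, true), (.a, true), (.b, true)]),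
  (7545, [(.b, true), (.a, true), (.a, true), (.a, true), (.b, true), (.a, true), (.b, true), (.b, true), (.b, true), (.b, true)]),
  (7547, [(.a, true), (.b, true), (.a, true), (.a, true), (.a, true), (.b, true)]),
  (7548, [(.b, true), (.a, true), (.a, true), (.a, true), (.b, true), (.b, true), (.b, true), (.b, true), (.b, true), (.a, true), (.a, true), (.a, true)]),
  (7552, [(.a, true), (.b, true), (.b, true), (.b, true), (.b, true), (.a, true), (.b, true), (.b, true), (.a, true), (.b, true), (.a, true)]),
  (7556, [(.b, true), (.a, true), (.b, true), (.b, true), (.b, true), (.a, true), (.a, true), (.b, true), (.a, true), (.a, true), (.a, true), (.a, true)]),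
  (7580, [(.a, true), (.b, true), (.a, true), (.b, true), (.b, true), (.a, true), (.b, true), (.b, true), (.b, true), (.a, true), (.b, true), (.a, true)]),
  (7607, [(.b, true), (.a, true), (.a, true), (.b, true), (.b, true), (.a, true)]),
  (7608, [(.a, true), (.b, true), (.a, true), (.a, true), (.a, true), (.b, true), (.a, true), (.b, true), (.b, true), (.a, true)]),
  (7614, [(.a, true), (.a, true), (.b, true), (.a, true), (.b, true), (.a, true), (.a, true), (.a, true), (.b, true)]),
  (7629, [(.a, true), (.b, true), (.a, true), (.a, true), (.a, true), (.b, true), (.a, true), (.a, true), (.a, true), (.a, true)]),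
  (7635, [(.b, true), (.a, true), (.a, true), (.b, true), (.b, true), (.a, true), (.b, true), (.b, true), (.b, true), (.b, true)]),
  (7638, [(.b, true), (.b, true), (.b, true), (.b, true), (.a, true), (.a, true), (.b, true), (.b, true), (.b, true), (.b, true), (.b, true), (.a, true)]),
  (7672, [(.b, true), (.b, true), (.b, true), (.b, true), (.b, true), (.a, true), (.b, true), (.b, true), (.b, true), (.a, true), (.b, true)]),
  (7679, [(.a, true), (.b, true), (.b, true), (.b, true), (.b, true), (.b, true), (.a, true), (.a, true), (.a, true), (.b, true), (.a, true), (.a, true)]),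
  (7682, [(.a, true), (.b, true), (.b, true), (.a, true), (.b, true), (.a, true), (.b, true), (.a, true), (.a, true), (.a, true), (.b, true)]),
  (7701, [(.a, true), (.a, true), (.b, true), (.b, true), (.b, true), (.b, true), (.a, true), (.a, true), (.a, true), (.b, true)]),
  (7704, [(.b, true), (.b, true), (.a, true), (.a, true), (.b, true), (.a, true), (.b, true), (.a, true), (.b, true), (.b, true), (.a, true), (.a, true)]),
  (7705, [(.a, true), (.b, true), (.a, true), (.b, true)]),
  (7708, [(.a, true), (.b, true), (.b, true), (.a, true), (.a, true), (.a, true), (.a, true), (.a, true), (.b, true)]),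
  (7709, [(.b, true), (.b, true), (.b, true), (.b, true), (.b, true), (.a, true), (.b, true), (.b, true), (.a, true), (.b, true)]),
  (7718, [(.a, true), (.a, true), (.a, true), (.b, true), (.b, true), (.a, true), (.b, true), (.b, true), (.a, true), (.a, true), (.a, true), (.a, true)]),
  (7726, [(.b, true), (.b, true), (.b, true), (.a, true), (.b, true), (.a, true), (.a, true), (.b, true)]),
  (7731, [(.b, true), (.a, true), (.b, true), (.b, true), (.a, true), (.b, true), (.b, true), (.a, true), (.b, true), (.a, true), (.b, true)]),
  (7744, [(.a, true), (.b, true), (.b, true), (.a, true), (.b, true), (.b, true), (.a, true), (.a, true), (.a, true), (.b, true), (.a, true), (.a, true)]),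
  (7749, [(.a, true), (.a, true), (.a, true), (.a, true), (.a, true), (.b, true), (.a, true), (.a, true), (.b, true)]),
  (7766, [(.b, true), (.b, true), (.b, true), (.a, true), (.b, true), (.a, true), (.b, true), (.a, true), (.b, true), (.b, true), (.b, true)]),
  (7769, [(.a, true), (.a, true), (.a, true), (.b, true), (.b, true), (.b, true), (.a, true), (.b, true), (.b, true)]),
  (7780, [(.a, true), (.b, true), (.b, true), (.b, true), (.b, true), (.a, true), (.a, true), (.a, true), (.a, true), (.a, true), (.a, true)]),
  (7784, [(.a, true), (.b, true), (.b, true), (.b, true), (.a, true), (.a, true), (.b, true), (.b, true), (.b, true), (.a, true), (.a, true), (.a, true)]),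
  (7789, [(.a, true), (.b, true), (.a, true), (.a, true), (.b, true), (.a, true), (.b, true), (.b, true), (.a, true)]),
  (7795, [(.b, true), (.b, true), (.b, true), (.a, true), (.b, true), (.a, true), (.a, true), (.b, true), (.a, true)]),
  (7806, [(.b, true), (.a, true), (.a, true), (.b, true), (.a, true), (.a, true), (.a, true)]),
  (7825, [(.b, true), (.a, true), (.a, true), (.b, true), (.a, true), (.b, true), (.b, true), (.b, true), (.b, true), (.a, true), (.a, true)]),
  (7831, [(.b, true), (.b, true), (.b, true), (.a, true), (.a, true), (.b, true), (.a, true), (.b, true), (.a, true), (.a, true)]),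
  (7847, [(.b, true), (.b, true), (.a, true), (.a, true), (.b, true), (.b, true), (.b, true), (.a, true)]),
  (7848, [(.b, true), (.a, true), (.a, true), (.b, true), (.b, true), (.b, true), (.b, true), (.b, true), (.a, true), (.a, true), (.a, true)]),
  (7867, [(.a, true), (.a, true), (.a, true), (.a, true), (.a, true), (.b, true), (.b, true), (.b, true), (.b, true), (.a, true)]),
  (7875, [(.b, true), (.a, true), (.a, true), (.a, true), (.b, true), (.b, true), (.b, true), (.a, true), (.b, true), (.a, true), (.a, true), (.a, true)]),
  (7889, [(.b, true), (.a, true), (.b, true), (.b, true), (.a, true), (.b, true), (.b, true), (.b, true)]),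
  (7900, [(.a, true), (.b, true), (.b, true), (.b, true), (.a, true), (.a, true), (.a, true), (.b, true)]),
  (7910, [(.b, true), (.a, true), (.b, true), (.a, true), (.b, true), (.a, true), (.b, true), (.a, true), (.b, true), (.b, true)]),
  (7917, [(.a, true), (.b, true), (.a, true), (.a, true), (.b, true), (.b, true), (.a, true), (.a, true), (.a, true), (.b, true)]),
  (7931, [(.b, true), (.b, true), (.b, true), (.a, true), (.a, true), (.a, true), (.b, true), (.b, true), (.a, true)]),
  (7936, [(.b, true), (.b, true), (.b, true), (.b, true), (.a, true), (.a, true), (.a, true), (.a, true), (.a, true), (.b, true)]),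
  (7965, [(.a, true), (.b, true), (.a, true), (.b, true), (.b, true), (.a, true), (.a, true), (.a, true)]),
  (7967, [(.a, true), (.b, true), (.a, true), (.b, true), (.b, true), (.b, true), (.b, true), (.a, true), (.a, true)]),
  (7973, [(.a, true), (.b, true), (.b, true), (.b, true), (.a, true), (.a, true), (.b, true), (.b, true), (.a, true), (.b, true), (.a, true)]),
  (7987, [(.b, true), (.a, true), (.a, true), (.b, true), (.a, true), (.b, true), (.a, true), (.b, true), (.b, true)]),
  (7998, [(.a, true), (.a, true), (.b, true), (.a, true), (.b, true), (.a, true), (.b, true), (.a, true)]),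
  (7999, [(.b, true), (.b, true), (.b, true), (.b, true), (.b, true), (.a, true), (.a, true), (.b, true), (.b, true), (.b, true)]),
  (8008, [(.a, true), (.a, true), (.a, true), (.a, true), (.a, true), (.a, true), (.b, true), (.b, true), (.b, true), (.b, true), (.a, true), (.a, true)]),
  (8018, [(.a, true), (.b, true), (.b, true), (.b, true), (.b, true), (.a, true), (.a, true), (.b, true), (.a, true), (.b, true), (.a, true)]),
  (8029, [(.b, true), (.b, true), (.a, true), (.b, true), (.b, true), (.a, true), (.b, true), (.a, true), (.b, true), (.a, true), (.b, true)]),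
  (8037, [(.b, true), (.b, true), (.a, true), (.a, true), (.a, true), (.b, true), (.a, true), (.b, true)]),
  (8044, [(.a, true), (.b, true), (.a, true), (.a, true), (.a, true), (.b, true), (.b, true), (.b, true), (.a, true), (.a, true)]),
  (8051, [(.a, true), (.a, true), (.b, true), (.b, true), (.b, true), (.a, true), (.b, true), (.b, true), (.b, true)]),
  (8057, [(.b, true), (.a, true), (.a, true), (.a, true), (.a, true), (.a, true), (.b, true)]),
  (8072, [(.b, true), (.a, true), (.a, true), (.b, true), (.b, true), (.b, true), (.b, true), (.a, true)]),
  (8094, [(.b, true), (.a, true), (.a, true), (.b, true), (.a, true), (.b, true), (.b, true), (.a, true), (.b, true), (.a, true)]),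
  (8097, [(.b, true), (.b, true), (.b, true), (.b, true), (.a, true), (.b, true), (.b, true), (.a, true), (.b, true)]),
  (8107, [(.a, true), (.a, true), (.b, true), (.b, true), (.b, true), (.a, true), (.b, true), (.b, true), (.a, true), (.b, true), (.a, true)]),
  (8112, [(.b, true), (.b, true), (.b, true), (.b, true), (.a, true), (.a, true), (.b, true), (.b, true), (.b, true), (.a, true)]),
  (8117, [(.b, true), (.b, true), (.a, true), (.a, true), (.b, true), (.a, true), (.a, true), (.a, true)]),
  (8119, [(.b, true), (.a, true), (.a, true), (.a, true), (.b, true), (.b, true), (.b, true), (.b, true), (.a, true), (.a, true), (.a, true), (.a, true)]),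
  (8136, [(.a, true), (.a, true), (.b, true), (.b, true), (.b, true), (.b, true), (.b, true), (.a, true), (.a, true)]),
  (8139, [(.a, true), (.a, true), (.a, true), (.a, true), (.b, true), (.a, true), (.a, true), (.b, true), (.a, true), (.b, true), (.b, true)]),
  (8141, [(.b, true), (.a, true), (.a, true), (.b, true), (.a, true), (.b, true), (.a, true), (.b, true), (.b, true), (.a, true)]),
  (8156, [(.b, true), (.b, true), (.a, true), (.a, true), (.a, true), (.a, true), (.a, true), (.b, true), (.a, true)]),
  (8167, [(.b, true), (.a, true), (.a, true), (.b, true), (.b, true), (.b, true), (.b, true), (.b, true), (.a, true), (.a, true), (.a, true), (.b, true)]),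
  (8177, [(.b, true), (.a, true), (.a, true), (.a, true), (.b, true), (.a, true), (.b, true), (.a, true), (.b, true), (.b, true), (.b, true), (.b, true)]),
  (8186, [(.b, true), (.a, true), (.b, true), (.a, true), (.a, true), (.b, true), (.b, true), (.b, true), (.a, true)]),
  (8191, [(.a, true), (.a, true), (.b, true), (.b, true), (.b, true), (.a, true), (.a, true), (.b, true), (.b, true), (.a, true), (.a, true)]),
  (8194, [(.a, true), (.a, true), (.b, true), (.b, true)]),
  (8202, [(.a, true), (.a, true), (.b, true), (.b, true), (.b, true), (.a, true), (.b, true), (.a, true), (.b, true), (.b, true)]),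
  (8213, [(.a, true), (.a, true), (.b, true), (.a, true), (.a, true), (.a, true), (.a, true), (.a, true), (.b, true), (.a, true), (.b, true)]),
  (8226, [(.a, true), (.a, true), (.a, true), (.a, true), (.a, true), (.b, true), (.a, true)]),
  (8240, [(.b, true), (.a, true), (.b, true), (.a, true), (.b, true), (.b, true), (.a, true), (.b, true), (.a, true), (.b, true), (.a, true), (.a, true)]),
  (8241, [(.a, true), (.a, true), (.a, true), (.b, true), (.a, true), (.b, true), (.a, true), (.b, true), (.b, true), (.a, true)]),
  (8259, [(.b, true), (.a, true), (.b, true), (.b, true), (.b, true), (.a, true), (.a, true), (.b, true), (.a, true)]),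
  (8264, [(.a, true), (.a, true), (.b, true), (.a, true), (.b, true), (.b, true), (.b, true)]),
  (8279, [(.b, true), (.b, true), (.a, true), (.a, true), (.b, true), (.b, true), (.b, true), (.b, true), (.a, true), (.b, true), (.a, true)]),
  (8297, [(.b, true), (.b, true), (.b, true), (.b, true), (.b, true), (.a, true), (.a, true), (.a, true), (.a, true), (.a, true), (.b, true), (.a, true)]),
  (8309, [(.b, true), (.a, true), (.a, true), (.a, true), (.a, true), (.a, true), (.b, true), (.b, true), (.b, true)]),
  (8339, [(.b, true), (.a, true), (.a, true), (.a, true), (.b, true), (.a, true), (.b, true), (.a, true), (.b, true), (.b, true), (.b, true)]),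
  (8347, [(.b, true), (.b, true), (.a, true), (.a, true), (.b, true), (.b, true), (.b, true), (.a, true), (.b, true), (.a, true)]),
  (8355, [(.b, true), (.b, true), (.a, true), (.a, true), (.a, true), (.b, true), (.a, true)]),
  (8386, [(.a, true), (.a, true), (.a, true), (.a, true), (.b, true), (.a, true), (.a, true)]),
  (8388, [(.b, true), (.b, true), (.a, true), (.a, true), (.b, true), (.b, true), (.b, true), (.b, true), (.b, true), (.a, true), (.a, true), (.a, true), (.b, true)]),
  (8394, [(.b, true), (.a, true), (.b, true), (.a, true), (.a, true), (.a, true), (.a, true), (.a, true), (.b, true)]),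
  (8406, [(.b, true), (.a, true), (.b, true), (.a, true), (.b, true), (.a, true), (.a, true), (.b, true), (.b, true), (.a, true), (.a, true)]),
  (8407, [(.a, true), (.a, true), (.b, true), (.a, true), (.b, true), (.b, true), (.b, true), (.b, true), (.a, true), (.a, true)]),
  (8411, [(.a, true), (.a, true), (.a, true), (.b, true), (.b, true), (.b, true), (.b, true), (.a, true), (.a, true), (.a, true), (.a, true)]),
  (8412, [(.b, true), (.b, true), (.a, true), (.b, true), (.b, true), (.b, true), (.a, true), (.a, true), (.b, true)]),
  (8413, [(.a, true), (.b, true), (.b, true), (.a, true), (.a, true), (.a, true), (.a, true), (.a, true), (.a, true), (.a, true)]),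
  (8428, [(.b, true), (.a, true), (.b, true), (.a, true), (.b, true), (.a, true), (.a, true)]),
  (8460, [(.b, true), (.a, true), (.b, true), (.b, true), (.b, true), (.b, true), (.a, true), (.a, true), (.a, true), (.a, true), (.a, true), (.a, true)]),
  (8470, [(.b, true), (.a, true), (.b, true), (.b, true), (.a, true), (.b, true), (.a, true), (.b, true), (.a, true), (.b, true), (.a, true), (.a, true)]),
  (8492, [(.b, true), (.a, true), (.a, true), (.a, true), (.b, true), (.b, true), (.b, true), (.a, true)]),
  (8509, [(.a, true), (.b, true), (.b, true), (.b, true), (.b, true), (.b, true), (.a, true), (.a, true), (.a, true), (.b, true), (.a, true)]),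
  (8513, [(.b, true), (.a, true), (.a, true), (.b, true), (.a, true), (.b, true), (.a, true), (.b, true), (.a, true)]),
  (8528, [(.b, true), (.a, true), (.a, true), (.b, true), (.b, true), (.a, true), (.a, true), (.a, true), (.a, true), (.a, true), (.a, true), (.a, true)]),
  (8545, [(.b, true), (.b, true), (.b, true), (.a, true), (.a, true), (.a, true), (.b, true), (.b, true), (.a, true), (.a, true)]),
  (8554, [(.a, true), (.b, true), (.a, true), (.b, true), (.b, true), (.b, true), (.a, true), (.b, true), (.b, true)]),
  (8559, [(.a, true), (.b, true), (.a, true), (.a, true), (.a, true), (.a, true), (.a, true), (.b, true), (.a, true), (.b, true)]),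
  (8572, [(.b, true), (.b, true), (.a, true), (.a, true), (.a, true), (.b, true), (.a, true), (.b, true), (.a, true), (.a, true)]),
  (8577, [(.a, true), (.a, true), (.b, true), (.b, true), (.a, true), (.b, true), (.b, true)]),
  (8580, [(.b, true), (.b, true), (.a, true), (.a, true), (.a, true), (.a, true), (.a, true), (.a, true), (.a, true)]),
  (8581, [(.a, true), (.b, true), (.b, true), (.a, true), (.b, true), (.b, true), (.a, true), (.b, true), (.a, true), (.b, true)]),
  (8620, [(.a, true), (.b, true), (.b, true), (.b, true), (.b, true), (.a, true), (.b, true), (.b, true), (.b, true), (.a, true), (.b, true)]),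
  (8629, [(.a, true), (.b, true), (.b, true), (.b, true), (.b, true), (.a, true), (.a, true), (.b, true), (.a, true), (.b, true)]),
  (8647, [(.b, true), (.a, true), (.a, true), (.a, true), (.a, true), (.a, true), (.a, true)]),
  (8654, [(.b, true), (.b, true), (.b, true), (.a, true), (.b, true), (.b, true), (.a, true), (.a, true), (.a, true), (.a, true), (.a, true), (.a, true)]),
  (8655, [(.a, true), (.a, true), (.b, true), (.b, true), (.a, true), (.a, true), (.a, true), (.b, true), (.a, true)]),
  (8657, [(.a, true), (.b, true), (.b, true), (.b, true), (.b, true), (.a, true), (.a, true), (.b, true), (.a, true), (.a, true)]),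
  (8668, [(.a, true), (.a, true), (.b, true), (.a, true), (.b, true), (.b, true), (.b, true), (.a, true), (.b, true), (.a, true), (.a, true), (.a, true)]),
  (8671, [(.a, true), (.a, true), (.b, true), (.b, true), (.b, true), (.a, true), (.a, true), (.b, true), (.b, true), (.b, true), (.a, true), (.a, true)]),
  (8679, [(.a, true), (.b, true), (.a, true), (.a, true), (.b, true), (.a, true), (.b, true), (.a, true), (.b, true), (.a, true), (.a, true), (.a, true)]),
  (8682, [(.b, true), (.b, true), (.b, true), (.b, true), (.a, true), (.b, true), (.a, true), (.b, true), (.a, true)]),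
  (8692, [(.b, true), (.a, true), (.b, true), (.b, true), (.a, true), (.b, true)]),
  (8700, [(.b, true), (.b, true), (.a, true), (.b, true), (.b, true), (.a, true), (.b, true), (.b, true), (.a, true)]),
  (8712, [(.b, true), (.a, true), (.a, true), (.b, true), (.a, true), (.a, true), (.b, true), (.a, true), (.a, true)]),
  (8726, [(.b, true), (.a, true), (.a, true), (.b, true), (.a, true), (.a, true), (.b, true), (.b, true)]),
  (8734, [(.b, true), (.a, true), (.b, true), (.a, true), (.a, true), (.b, true), (.a, true), (.a, true), (.a, true), (.a, true), (.a, true)]),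
  (8742, [(.a, true), (.a, true), (.a, true), (.a, true), (.b, true), (.b, true), (.b, true), (.b, true), (.a, true), (.a, true), (.a, true)]),
  (8746, [(.a, true), (.b, true), (.a, true), (.a, true), (.a, true), (.b, true), (.b, true), (.b, true), (.b, true), (.a, true), (.a, true)]),
  (8748, [(.b, true), (.a, true), (.a, true), (.b, true), (.b, true), (.a, true), (.b, true), (.b, true), (.a, true)]),
  (8750, [(.b, true), (.a, true), (.a, true), (.a, true), (.a, true), (.a, true), (.a, true), (.b, true), (.b, true), (.a, true), (.b, true)]),
  (8766, [(.a, true), (.a, true), (.a, true), (.a, true), (.a, true), (.a, true), (.b, true), (.b, true), (.a, true), (.a, true), (.b, true)]),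
  (8767, [(.a, true), (.b, true), (.b, true), (.a, true), (.a, true), (.b, true), (.a, true), (.a, true), (.a, true)]),
  (8781, [(.a, true), (.a, true), (.b, true), (.a, true), (.b, true), (.a, true), (.b, true), (.b, true), (.b, true), (.b, true), (.a, true)]),
  (8791, [(.a, true), (.b, true), (.b, true), (.a, true), (.b, true), (.b, true), (.a, true), (.b, true), (.a, true)]),
  (8797, [(.a, true), (.b, true), (.a, true), (.b, true), (.b, true), (.a, true), (.a, true), (.a, true), (.b, true), (.b, true), (.a, true)]),
  (8812, [(.a, true), (.a, true), (.b, true), (.a, true), (.a, true)]),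
  (8828, [(.a, true), (.a, true), (.a, true), (.b, true), (.a, true), (.a, true), (.a, true), (.a, true), (.a, true), (.b, true)]),
  (8845, [(.b, true), (.a, true), (.b, true), (.a, true), (.a, true), (.b, true), (.a, true), (.a, true), (.b, true), (.b, true)]),
  (8852, [(.b, true), (.b, true), (.b, true), (.a, true), (.b, true), (.b, true), (.b, true), (.a, true), (.b, true), (.b, true), (.a, true), (.a, true)]),
  (8866, [(.a, true), (.a, true), (.a, true), (.b, true), (.b, true), (.b, true), (.a, true), (.a, true), (.b, true), (.b, true)]),
  (8881, [(.b, true), (.b, true), (.a, true), (.b, true), (.a, true), (.b, true), (.a, true), (.a, true)]),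
  (8900, [(.b, true), (.b, true), (.b, true), (.a, true), (.a, true), (.b, true), (.b, true), (.b, true), (.b, true), (.b, true)]),
  (8929, [(.b, true), (.a, true), (.b, true), (.b, true), (.b, true), (.a, true)]),
  (8936, [(.b, true), (.b, true), (.a, true), (.b, true), (.a, true), (.b, true), (.a, true), (.a, true), (.a, true), (.b, true)]),
  (8944, [(.b, true), (.b, true), (.a, true), (.b, true), (.a, true), (.b, true), (.a, true), (.b, true)]),
  (8965, [(.a, true), (.a, true), (.b, true), (.a, true), (.a, true), (.b, true), (.a, true), (.b, true), (.a, true), (.a, true)]),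
  (8981, [(.a, true), (.a, true), (.a, true), (.a, true), (.a, true), (.a, true), (.a, true), (.b, true), (.b, true), (.a, true), (.b, true)]),
  (8989, [(.a, true), (.a, true), (.b, true), (.a, true), (.a, true), (.b, true), (.b, true)]),
  (8990, [(.b, true), (.a, true), (.a, true), (.b, true), (.a, true), (.a, true), (.a, true), (.a, true), (.a, true), (.b, true), (.a, true)]),
  (9016, [(.b, true), (.a, true), (.a, true), (.b, true), (.a, true), (.b, true), (.b, true), (.b, true), (.a, true), (.a, true)]),
  (9024, [(.a, true), (.a, true), (.a, true), (.b, true), (.a, true), (.a, true), (.a, true), (.a, true), (.a, true), (.b, true), (.b, true), (.a, true)]),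
  (9026, [(.a, true), (.b, true), (.b, true), (.b, true), (.a, true), (.b, true), (.a, true), (.b, true), (.a, true), (.a, true), (.a, true), (.a, true)]),
  (9041, [(.a, true), (.a, true), (.a, true), (.b, true), (.a, true), (.b, true), (.a, true), (.a, true), (.a, true)]),
  (9043, [(.a, true), (.a, true), (.b, true), (.b, true), (.b, true), (.b, true), (.a, true), (.b, true), (.b, true), (.b, true), (.a, true)]),
  (9050, [(.a, true), (.a, true), (.a, true), (.b, true), (.a, true), (.b, true), (.b, true), (.a, true), (.a, true)]),
  (9052, [(.b, true), (.b, true), (.a, true), (.a, true), (.a, true), (.a, true), (.a, true), (.a, true), (.a, true), (.b, true)]),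
  (9091, [(.a, true), (.b, true), (.b, true), (.b, true), (.a, true), (.b, true), (.b, true), (.a, true), (.b, true), (.b, true), (.a, true), (.b, true)]),
  (9097, [(.a, true), (.a, true), (.a, true), (.b, true), (.a, true), (.b, true), (.b, true), (.b, true), (.a, true), (.a, true)]),
  (9135, [(.a, true), (.b, true), (.b, true), (.b, true), (.a, true), (.b, true), (.a, true), (.b, true), (.b, true), (.b, true), (.b, true)]),
  (9150, [(.a, true), (.b, true), (.b, true), (.b, true), (.a, true), (.a, true), (.b, true), (.a, true), (.b, true), (.a, true)]),
  (9175, [(.a, true), (.a, true), (.a, true), (.a, true), (.a, true), (.b, true), (.b, true)]),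
  (9189, [(.a, true), (.b, true), (.a, true), (.a, true), (.a, true), (.a, true), (.a, true)]),
  (9196, [(.b, true), (.b, true), (.a, true), (.b, true), (.b, true), (.b, true), (.a, true), (.a, true), (.b, true), (.a, true)]),
  (9207, [(.b, true), (.a, true), (.b, true), (.a, true), (.b, true), (.a, true), (.b, true), (.b, true), (.b, true), (.a, true), (.a, true)]),
  (9210, [(.b, true), (.b, true), (.b, true), (.a, true), (.b, true), (.b, true), (.b, true), (.a, true), (.b, true), (.a, true), (.b, true), (.a, true)]),
  (9211, [(.b, true), (.b, true), (.b, true), (.a, true), (.a, true), (.a, true), (.b, true), (.a, true)]),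
  (9220, [(.a, true), (.a, true), (.a, true), (.b, true), (.b, true), (.b, true), (.b, true), (.a, true), (.b, true), (.b, true)]),
  (9229, [(.a, true), (.b, true), (.b, true), (.b, true), (.b, true), (.b, true)]),
  (9249, [(.b, true), (.b, true), (.b, true), (.a, true), (.a, true), (.b, true), (.a, true), (.a, true), (.a, true), (.a, true)]),
  (9255, [(.b, true), (.a, true), (.b, true), (.b, true), (.a, true), (.a, true), (.a, true)]),
  (9256, [(.b, true), (.b, true), (.b, true), (.a, true), (.b, true)]),
  (9260, [(.b, true), (.a, true), (.b, true), (.b, true), (.a, true), (.b, true), (.a, true), (.a, true), (.b, true), (.a, true)]),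
  (9274, [(.b, true), (.a, true), (.a, true), (.b, true), (.b, true), (.b, true), (.a, true), (.b, true)]),
  (9277, [(.a, true), (.a, true), (.b, true), (.b, true), (.a, true), (.a, true), (.b, true), (.a, true), (.a, true), (.b, true), (.b, true)]),
  (9282, [(.b, true), (.b, true), (.a, true), (.b, true), (.a, true), (.b, true), (.b, true), (.a, true), (.b, true), (.a, true), (.a, true)]),
  (9289, [(.b, true), (.b, true), (.a, true), (.a, true), (.a, true), (.b, true), (.a, true), (.b, true), (.b, true), (.a, true), (.b, true), (.a, true)]),
  (9297, [(.a, true), (.a, true), (.a, true), (.a, true), (.b, true), (.b, true), (.b, true), (.a, true), (.a, true), (.b, true)]),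
  (9325, [(.b, true), (.b, true), (.b, true), (.b, true), (.b, true), (.a, true), (.b, true), (.b, true)]),
  (9372, [(.a, true), (.a, true), (.b, true), (.a, true), (.a, true), (.b, true), (.a, true), (.b, true), (.a, true), (.a, true), (.a, true)]),
  (9379, [(.a, true), (.a, true), (.b, true), (.a, true), (.b, true), (.a, true), (.b, true), (.b, true), (.b, true), (.a, true), (.a, true)]),
  (9398, [(.a, true), (.b, true), (.a, true), (.a, true), (.b, true), (.b, true), (.a, true), (.b, true), (.b, true)]),
  (9400, [(.b, true), (.b, true), (.a, true), (.b, true), (.a, true), (.a, true), (.b, true), (.a, true), (.b, true)]),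
  (9402, [(.a, true), (.a, true), (.b, true), (.a, true), (.a, true), (.b, true), (.a, true)]),
  (9410, [(.b, true), (.a, true), (.a, true), (.a, true), (.a, true), (.a, true), (.b, true), (.a, true), (.b, true), (.a, true)]),
  (9413, [(.b, true), (.b, true), (.b, true), (.a, true), (.b, true), (.a, true), (.a, true), (.a, true), (.b, true), (.a, true)]),
  (9432, [(.b, true), (.a, true), (.b, true), (.a, true), (.b, true), (.b, true)]),
  (9446, [(.a, true), (.a, true), (.a, true), (.a, true), (.b, true), (.b, true), (.a, true), (.a, true), (.b, true), (.a, true), (.a, true)]),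
  (9450, [(.a, true), (.b, true), (.a, true), (.b, true), (.b, true), (.b, true), (.b, true), (.a, true), (.a, true), (.b, true)]),
  (9475, [(.a, true), (.a, true), (.b, true), (.a, true), (.a, true), (.b, true), (.a, true), (.a, true), (.a, true)]),
  (9478, [(.a, true), (.b, true), (.a, true), (.a, true), (.a, true), (.b, true), (.a, true), (.b, true), (.b, true), (.a, true), (.b, true)]),
  (9490, [(.a, true), (.a, true), (.a, true), (.a, true), (.b, true)]),
  (9545, [(.a, true), (.b, true), (.a, true), (.a, true), (.a, true), (.b, true), (.b, true), (.a, true), (.a, true)]),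
  (9546, [(.a, true), (.a, true), (.a, true), (.b, true), (.b, true), (.a, true)]),
  (9567, [(.b, true), (.a, true), (.a, true), (.b, true), (.a, true), (.b, true), (.b, true), (.a, true), (.b, true)]),
  (9593, [(.a, true), (.a, true), (.a, true), (.b, true), (.b, true), (.a, true), (.b, true), (.b, true), (.a, true), (.a, true), (.a, true)]),
  (9604, [(.a, true), (.b, true), (.a, true), (.a, true), (.b, true), (.b, true), (.a, true), (.b, true), (.b, true), (.a, true), (.a, true)]),
  (9607, [(.a, true), (.b, true), (.b, true), (.a, true), (.b, true), (.a, true), (.b, true), (.a, true), (.b, true), (.a, true), (.a, true)]),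
  (9624, [(.b, true), (.a, true), (.a, true), (.b, true), (.a, true), (.b, true), (.b, true), (.b, true), (.b, true), (.a, true)]),
  (9643, [(.a, true), (.a, true), (.a, true), (.a, true), (.b, true), (.a, true), (.b, true), (.b, true), (.a, true), (.a, true)]),
  (9645, [(.a, true), (.b, true), (.b, true), (.b, true), (.a, true), (.b, true), (.b, true), (.b, true)]),
  (9648, [(.b, true), (.b, true), (.b, true), (.b, true), (.b, true)]),
  (9650, [(.b, true), (.a, true), (.a, true), (.a, true), (.b, true), (.a, true), (.a, true), (.a, true), (.a, true), (.a, true), (.a, true)]),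
  (9673, [(.a, true), (.b, true), (.b, true), (.b, true), (.a, true), (.a, true), (.b, true), (.a, true), (.b, true), (.a, true), (.a, true)]),
  (9694, [(.b, true), (.b, true), (.a, true), (.a, true), (.b, true), (.a, true), (.b, true), (.a, true), (.b, true)]),
  (9696, [(.a, true), (.b, true), (.a, true), (.b, true), (.b, true), (.b, true), (.a, true), (.b, true)]),
  (9706, [(.a, true), (.b, true), (.a, true), (.b, true), (.b, true), (.a, true)]),
  (9709, [(.a, true), (.b, true), (.a, true), (.a, true), (.a, true), (.b, true), (.b, true), (.b, true), (.b, true)]),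
  (9713, [(.a, true), (.b, true), (.a, true), (.a, true), (.a, true), (.b, true), (.a, true), (.b, true), (.a, true), (.a, true)]),
  (9715, [(.a, true), (.b, true), (.b, true), (.a, true), (.b, true), (.b, true), (.b, true), (.a, true), (.a, true), (.b, true), (.a, true)]),
  (9716, [(.b, true), (.b, true), (.a, true), (.a, true), (.b, true), (.b, true), (.b, true), (.a, true), (.b, true), (.a, true), (.a, true), (.a, true)]),
  (9717, [(.b, true), (.b, true), (.a, true), (.a, true), (.a, true), (.b, true), (.a, true), (.b, true), (.b, true), (.a, true), (.a, true)]),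
  (9727, [(.b, true), (.a, true), (.b, true), (.b, true), (.b, true), (.a, true), (.a, true), (.a, true)]),
  (9730, [(.a, true), (.b, true), (.a, true), (.a, true), (.a, true), (.b, true), (.b, true), (.b, true), (.b, true), (.a, true)]),
  (9749, [(.b, true), (.a, true), (.a, true), (.b, true), (.b, true), (.a, true), (.a, true)]),
  (9754, [(.b, true), (.a, true), (.b, true), (.b, true), (.b, true), (.a, true), (.b, true), (.b, true), (.a, true), (.a, true), (.b, true)]),
  (9764, [(.a, true), (.a, true), (.b, true), (.a, true), (.a, true), (.a, true), (.a, true), (.a, true), (.b, true), (.b, true), (.a, true)]),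
  (9773, [(.b, true), (.b, true), (.a, true), (.a, true), (.b, true), (.a, true), (.a, true), (.a, true), (.a, true), (.a, true), (.a, true)]),
  (9775, [(.b, true), (.a, true), (.b, true), (.a, true), (.b, true), (.a, true), (.a, true), (.b, true)]),
  (9825, [(.b, true), (.b, true), (.b, true), (.a, true), (.a, true), (.a, true), (.a, true), (.a, true), (.a, true)]),
  (9833, [(.b, true), (.a, true), (.a, true), (.b, true), (.b, true), (.a, true), (.b, true), (.b, true), (.b, true), (.a, true), (.a, true)]),
  (9865, [(.b, true), (.b, true), (.b, true), (.a, true), (.a, true), (.a, true), (.b, true), (.b, true), (.a, true), (.a, true), (.a, true)]),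
  (9874, [(.a, true), (.b, true), (.a, true), (.a, true), (.a, true), (.b, true), (.a, true), (.b, true), (.a, true)]),
  (9884, [(.a, true), (.a, true), (.a, true), (.a, true), (.a, true), (.b, true), (.b, true), (.b, true), (.a, true), (.a, true)]),
  (9888, [(.b, true), (.b, true), (.b, true), (.a, true), (.a, true), (.b, true), (.b, true), (.b, true), (.a, true)]),
  (9889, [(.a, true), (.b, true), (.a, true), (.a, true), (.b, true), (.b, true), (.b, true), (.a, true), (.a, true), (.a, true)]),
  (9906, [(.a, true), (.b, true), (.a, true), (.a, true), (.b, true), (.b, true), (.a, true), (.b, true), (.a, true)]),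
  (9926, [(.a, true), (.b, true), (.a, true), (.b, true), (.a, true)]),
  (9950, [(.b, true), (.a, true), (.b, true), (.b, true), (.a, true), (.b, true), (.a, true), (.b, true), (.a, true)]),
  (9960, [(.b, true), (.b, true), (.b, true), (.a, true), (.a, true), (.a, true), (.a, true), (.a, true)]),
  (9965, [(.b, true), (.a, true), (.a, true), (.b, true), (.a, true), (.a, true), (.a, true), (.a, true), (.a, true), (.b, true)]),
  (9981, [(.a, true), (.b, true), (.b, true), (.a, true), (.a, true), (.b, true), (.a, true), (.a, true), (.a, true), (.a, true), (.a, true), (.a, true)]),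
  (9995, [(.a, true), (.a, true), (.a, true), (.b, true), (.a, true), (.b, true), (.a, true), (.a, true)]),
  (10019, [(.b, true), (.a, true), (.b, true), (.b, true), (.a, true), (.b, true), (.a, true), (.a, true)]),
  (10039, [(.a, true), (.a, true), (.b, true), (.a, true), (.b, true), (.a, true), (.b, true), (.b, true), (.b, true), (.b, true)]),
  (10072, [(.b, true), (.b, true), (.b, true), (.a, true), (.a, true), (.a, true), (.a, true), (.a, true), (.a, true), (.a, true)]),
  (10080, [(.b, true), (.b, true), (.b, true), (.b, true), (.b, true), (.a, true), (.a, true), (.a, true), (.b, true), (.a, true), (.a, true), (.a, true)]),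
  (10097, [(.a, true), (.a, true), (.a, true), (.a, true), (.b, true), (.a, true), (.a, true), (.b, true), (.a, true), (.b, true), (.a, true), (.a, true)]),
  (10098, [(.b, true), (.a, true), (.b, true), (.a, true), (.a, true), (.a, true), (.b, true), (.a, true), (.a, true)]),
  (10103, [(.a, true), (.b, true), (.a, true), (.b, true), (.a, true), (.a, true), (.a, true), (.a, true), (.a, true), (.a, true)]),
  (10104, [(.a, true), (.a, true), (.a, true), (.a, true), (.b, true), (.b, true), (.a, true), (.a, true), (.b, true), (.a, true), (.a, true), (.b, true)]),
  (10113, [(.a, true), (.b, true)]),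
  (10116, [(.b, true), (.b, true), (.b, true), (.a, true), (.a, true), (.b, true), (.b, true), (.b, true), (.a, true), (.b, true)]),
  (10120, [(.a, true), (.a, true), (.a, true), (.a, true), (.a, true), (.b, true), (.b, true), (.a, true), (.b, true)]),
  (10129, [(.a, true), (.b, true), (.b, true), (.b, true), (.b, true), (.a, true), (.b, true), (.b, true), (.b, true)]),
  (10138, [(.b, true), (.a, true), (.b, true), (.b, true), (.b, true), (.b, true), (.a, true), (.a, true), (.b, true), (.a, true), (.a, true), (.a, true)]),
  (10139, [(.b, true), (.b, true), (.a, true), (.b, true), (.a, true), (.b, true), (.a, true), (.b, true), (.b, true), (.b, true), (.a, true), (.a, true)]),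
  (10161, [(.a, true), (.a, true), (.b, true), (.b, true), (.b, true), (.b, true), (.b, true), (.a, true), (.a, true), (.a, true), (.b, true)]),
  (10171, [(.a, true), (.b, true), (.b, true), (.a, true), (.b, true), (.a, true), (.a, true)]),
  (10189, [(.b, true), (.a, true), (.b, true), (.b, true), (.b, true), (.b, true), (.a, true), (.a, true), (.a, true), (.a, true), (.a, true), (.a, true), (.a, true)]),
  (10201, [(.a, true), (.a, true), (.b, true), (.a, true), (.a, true), (.b, true), (.a, true), (.b, true), (.b, true), (.b, true), (.a, true)]),
  (10228, [(.b, true), (.b, true), (.a, true), (.a, true), (.b, true), (.a, true), (.b, true), (.a, true), (.a, true), (.b, true)]),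
  (10243, [(.a, true), (.b, true), (.a, true), (.b, true), (.a, true), (.a, true), (.b, true), (.b, true), (.a, true)]),
  (10245, [(.a, true), (.a, true), (.a, true), (.a, true), (.a, true), (.a, true), (.b, true), (.b, true), (.a, true)]),
  (10305, [(.b, true), (.a, true), (.a, true), (.b, true), (.b, true), (.a, true), (.b, true), (.a, true)]),
  (10306, [(.b, true), (.a, true), (.a, true), (.a, true), (.b, true)]),
  (10317, [(.a, true), (.b, true), (.a, true), (.b, true), (.b, true), (.a, true), (.a, true), (.b, true), (.a, true)]),
  (10325, [(.b, true), (.a, true), (.b, true), (.a, true), (.b, true), (.b, true), (.a, true), (.b, true), (.b, true), (.b, true), (.a, true), (.b, true), (.a, true)]),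
  (10330, [(.b, true), (.a, true), (.b, true), (.a, true), (.b, true), (.a, true), (.b, true), (.b, true), (.b, true), (.b, true), (.a, true), (.a, true)]),
  (10341, [(.a, true), (.b, true), (.b, true), (.b, true), (.a, true), (.a, true), (.a, true), (.b, true), (.a, true)]),
  (10372, [(.a, true), (.a, true), (.a, true), (.a, true), (.b, true), (.b, true), (.a, true), (.b, true), (.a, true), (.a, true)]),
  (10380, [(.b, true), (.b, true), (.b, true), (.a, true), (.b, true), (.b, true), (.a, true), (.a, true), (.b, true), (.a, true), (.a, true), (.a, true)]),
  (10417, [(.a, true), (.a, true), (.b, true), (.a, true), (.b, true), (.a, true)]),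
  (10421, [(.a, true), (.a, true), (.a, true), (.b, true), (.b, true), (.a, true), (.a, true), (.b, true)]),
  (10442, [(.b, true), (.b, true), (.a, true), (.b, true), (.b, true), (.a, true), (.a, true), (.b, true), (.a, true), (.b, true)]),
  (10463, [(.b, true), (.b, true), (.a, true), (.a, true), (.a, true), (.b, true), (.a, true), (.a, true), (.a, true)]),
  (10475, [(.a, true), (.a, true), (.a, true), (.b, true), (.a, true), (.b, true), (.b, true), (.a, true), (.b, true), (.a, true)]),
  (10488, [(.b, true), (.b, true), (.b, true), (.a, true), (.a, true), (.b, true), (.a, true)]),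
  (10497, [(.a, true), (.a, true), (.b, true), (.b, true), (.b, true), (.a, true), (.b, true), (.b, true), (.a, true), (.a, true), (.a, true)]),
  (10529, [(.b, true), (.a, true), (.b, true), (.b, true), (.b, true), (.a, true), (.a, true), (.b, true), (.b, true)]),
  (10547, [(.b, true), (.b, true), (.a, true), (.b, true), (.b, true), (.a, true), (.a, true), (.a, true), (.a, true), (.a, true), (.b, true)]),
  (10568, [(.b, true), (.a, true), (.b, true), (.a, true), (.a, true)]),
  (10570, [(.b, true), (.b, true), (.a, true), (.a, true), (.b, true), (.b, true), (.b, true), (.b, true), (.b, true), (.a, true), (.a, true), (.a, true)]),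
  (10588, [(.a, true), (.b, true), (.a, true), (.b, true), (.b, true), (.b, true), (.a, true), (.b, true), (.b, true), (.a, true), (.a, true), (.b, true)]),
  (10595, [(.a, true), (.a, true), (.b, true), (.a, true), (.a, true), (.b, true), (.a, true), (.b, true), (.b, true), (.a, true)]),
  (10610, [(.b, true), (.a, true), (.b, true), (.a, true), (.b, true), (.b, true), (.a, true), (.b, true), (.a, true)]),
  (10628, [(.a, true), (.b, true), (.a, true), (.b, true), (.a, true), (.b, true), (.b, true), (.a, true), (.a, true), (.a, true)]),
  (10641, [(.b, true), (.b, true), (.b, true), (.b, true), (.a, true), (.a, true), (.a, true), (.b, true), (.a, true), (.b, true)]),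
  (10647, [(.b, true), (.a, true), (.a, true), (.a, true), (.a, true), (.a, true), (.b, true), (.b, true), (.a, true)]),
  (10652, [(.a, true), (.a, true), (.b, true), (.a, true)]),
  (10667, [(.a, true), (.a, true), (.a, true), (.b, true), (.b, true), (.b, true), (.a, true), (.b, true), (.b, true), (.b, true), (.a, true)]),
  (10669, [(.b, true), (.a, true), (.a, true), (.a, true), (.b, true), (.a, true), (.a, true), (.a, true), (.a, true), (.a, true), (.b, true), (.b, true)]),
  (10671, [(.a, true), (.a, true), (.b, true), (.a, true), (.b, true), (.b, true), (.a, true), (.b, true), (.b, true)]),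
  (10672, [(.a, true), (.b, true), (.a, true), (.a, true), (.a, true), (.a, true), (.a, true), (.a, true)]),
  (10682, [(.b, true), (.b, true), (.a, true), (.b, true), (.a, true), (.b, true), (.a, true), (.b, true), (.a, true), (.a, true), (.a, true)]),
  (10687, [(.b, true), (.b, true), (.a, true), (.b, true), (.b, true), (.b, true), (.a, true), (.b, true)]),
  (10704, [(.b, true), (.b, true), (.a, true), (.b, true), (.b, true), (.a, true), (.b, true), (.b, true)]),
  (10706, [(.a, true), (.a, true), (.b, true), (.b, true), (.b, true), (.b, true), (.b, true), (.a, true), (.b, true), (.a, true)]),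
  (10709, [(.a, true), (.b, true), (.a, true), (.b, true), (.b, true), (.a, true), (.b, true)]),
  (10716, [(.a, true), (.a, true), (.a, true), (.a, true), (.b, true), (.b, true), (.b, true), (.b, true), (.b, true), (.a, true), (.a, true)]),
  (10722, [(.b, true), (.a, true), (.a, true), (.a, true), (.b, true), (.b, true), (.b, true), (.b, true), (.b, true)]),
  (10723, [(.b, true), (.b, true), (.b, true), (.b, true), (.b, true), (.a, true), (.b, true), (.b, true), (.a, true), (.b, true), (.b, true)]),
  (10730, [(.a, true), (.b, true), (.a, true), (.b, true), (.b, true), (.b, true), (.a, true), (.b, true), (.b, true), (.b, true), (.a, true), (.a, true)]),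
  (10734, [(.a, true), (.b, true), (.b, true), (.b, true), (.b, true), (.b, true), (.a, true), (.a, true), (.b, true), (.b, true)]),
  (10736, [(.a, true), (.a, true), (.a, true), (.a, true), (.b, true), (.a, true), (.b, true), (.b, true), (.a, true), (.b, true), (.a, true), (.a, true)]),
  (10742, [(.b, true), (.b, true), (.a, true), (.b, true), (.b, true), (.a, true), (.b, true), (.b, true), (.b, true), (.a, true), (.b, true)]),
  (10761, [(.a, true), (.b, true), (.a, true), (.a, true), (.a, true), (.a, true), (.a, true), (.a, true), (.b, true)]),
  (10764, [(.b, true), (.b, true), (.b, true), (.a, true), (.a, true), (.b, true), (.a, true), (.b, true), (.a, true), (.a, true), (.b, true)]),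
  (10768, [(.a, true), (.b, true), (.b, true), (.a, true), (.b, true), (.a, true)]),
  (10773, [(.b, true), (.b, true), (.b, true), (.a, true), (.b, true), (.a, true), (.b, true)]),
  (10780, [(.b, true), (.a, true), (.a, true), (.b, true), (.a, true), (.b, true), (.a, true), (.a, true), (.b, true), (.a, true)]),
  (10788, [(.a, true), (.a, true), (.a, true), (.b, true), (.b, true), (.b, true), (.b, true), (.b, true), (.a, true), (.a, true), (.a, true)]),
  (10793, [(.a, true), (.a, true), (.a, true), (.a, true), (.a, true), (.b, true), (.a, true), (.a, true), (.b, true), (.a, true)]),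
  (10800, [(.b, true), (.b, true), (.b, true), (.a, true), (.a, true), (.b, true), (.a, true), (.a, true), (.b, true), (.b, true)]),
  (10801, [(.b, true), (.a, true), (.a, true), (.b, true), (.b, true), (.b, true), (.b, true)]),
  (10807, [(.b, true), (.a, true), (.b, true), (.b, true), (.b, true), (.b, true), (.a, true), (.a, true), (.b, true), (.a, true), (.a, true)]),
  (10810, [(.b, true), (.b, true), (.b, true), (.a, true), (.b, true), (.a, true), (.b, true), (.a, true), (.b, true), (.a, true), (.a, true)]),
  (10811, [(.a, true), (.a, true), (.b, true), (.a, true), (.b, true), (.a, true), (.b, true), (.a, true), (.b, true), (.a, true)]),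
  (10815, [(.a, true), (.a, true), (.b, true), (.b, true), (.a, true), (.a, true), (.a, true), (.a, true), (.a, true), (.b, true)]),
  (10821, [(.b, true), (.a, true), (.a, true), (.a, true), (.b, true), (.b, true), (.a, true), (.a, true)]),
  (10824, [(.b, true), (.b, true), (.b, true), (.a, true), (.a, true), (.b, true), (.b, true), (.b, true), (.b, true)]),
  (10825, [(.a, true), (.b, true), (.b, true), (.b, true), (.a, true), (.b, true), (.a, true), (.b, true), (.b, true), (.a, true), (.a, true)]),
  (10826, [(.b, true), (.a, true), (.a, true), (.b, true), (.a, true), (.b, true), (.b, true), (.a, true), (.a, true), (.b, true)]),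
  (10839, [(.a, true), (.a, true), (.b, true), (.b, true), (.a, true), (.a, true), (.b, true), (.a, true), (.b, true), (.a, true), (.b, true)]),
  (10841, [(.a, true), (.b, true), (.a, true), (.b, true), (.a, true), (.a, true), (.b, true), (.b, true), (.b, true), (.a, true), (.b, true), (.a, true)]),
  (10845, [(.b, true), (.b, true), (.b, true), (.b, true), (.a, true), (.b, true), (.b, true), (.b, true), (.b, true)]),
  (10852, [(.a, true), (.b, true), (.a, true), (.b, true), (.a, true), (.b, true)]),
  (10853, [(.b, true), (.a, true), (.a, true), (.a, true), (.a, true), (.a, true), (.a, true), (.b, true), (.b, true), (.b, true), (.b, true), (.a, true)]),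
  (10863, [(.a, true), (.b, true), (.a, true), (.b, true), (.b, true), (.b, true), (.b, true), (.a, true), (.a, true), (.a, true)]),
  (10864, [(.a, true), (.a, true), (.a, true), (.a, true), (.b, true), (.a, true), (.a, true), (.a, true), (.a, true), (.a, true), (.a, true), (.b, true)]),
  (10870, [(.a, true), (.b, true), (.a, true), (.b, true), (.b, true), (.a, true), (.b, true), (.a, true), (.b, true)]),
  (10894, [(.b, true), (.b, true), (.b, true), (.a, true), (.a, true), (.b, true)]),
  (10895, [(.b, true), (.a, true), (.a, true), (.b, true), (.b, true), (.b, true), (.a, true), (.b, true), (.a, true), (.a, true), (.a, true), (.a, true)]),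
  (10911, [(.b, true), (.a, true), (.a, true), (.b, true), (.b, true), (.a, true), (.a, true), (.a, true), (.b, true), (.b, true), (.a, true), (.a, true)]),
  (10919, [(.a, true), (.b, true), (.b, true), (.b, true), (.a, true), (.b, true), (.b, true), (.b, true), (.a, true)]),
  (10926, [(.b, true), (.a, true), (.b, true), (.a, true), (.b, true), (.a, true), (.b, true), (.a, true)]),
  (10931, [(.a, true), (.b, true), (.a, true), (.a, true), (.a, true), (.a, true), (.a, true), (.b, true), (.b, true)]),
  (10933, [(.a, true), (.b, true), (.a, true), (.a, true), (.a, true), (.a, true), (.a, true), (.b, true), (.b, true), (.a, true)]),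
  (10937, [(.a, true), (.a, true), (.b, true), (.b, true), (.a, true), (.b, true), (.b, true), (.a, true), (.a, true)]),
  (10944, [(.b, true), (.b, true), (.b, true), (.a, true), (.a, true), (.a, true), (.a, true), (.a, true), (.b, true)]),
  (10950, [(.a, true), (.b, true), (.a, true), (.a, true), (.a, true), (.a, true), (.a, true), (.b, true), (.a, true)]),
  (10957, [(.b, true), (.b, true), (.a, true), (.a, true), (.a, true), (.b, true), (.a, true), (.b, true), (.b, true), (.b, true), (.a, true)]),
  (10963, [(.a, true), (.b, true), (.b, true), (.b, true), (.a, true), (.b, true), (.a, true), (.a, true), (.a, true)]),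
  (10970, [(.b, true), (.b, true), (.a, true), (.a, true), (.a, true), (.b, true)]),
  (10989, [(.b, true), (.a, true), (.a, true), (.a, true), (.b, true), (.b, true), (.b, true)]),
  (10993, [(.b, true), (.a, true), (.a, true), (.a, true), (.a, true), (.a, true), (.a, true), (.a, true)]),
  (10996, [(.b, true), (.a, true), (.b, true), (.b, true), (.b, true), (.a, true), (.a, true), (.b, true), (.a, true), (.b, true)]),
  (11002, [(.a, true), (.a, true), (.a, true), (.a, true), (.b, true), (.b, true), (.b, true), (.b, true), (.a, true), (.a, true), (.a, true), (.a, true)]),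
  (11022, [(.a, true), (.a, true), (.a, true), (.b, true), (.a, true), (.b, true), (.a, true), (.a, true), (.a, true), (.b, true), (.a, true), (.a, true)]),
  (11029, [(.b, true), (.b, true), (.b, true), (.a, true), (.a, true), (.b, true), (.b, true), (.b, true), (.a, true), (.a, true), (.a, true), (.b, true)]),
  (11030, [(.a, true), (.a, true), (.a, true), (.b, true), (.b, true), (.a, true), (.a, true), (.a, true), (.b, true)]),
  (11070, [(.b, true), (.b, true), (.b, true), (.a, true), (.b, true), (.b, true), (.b, true), (.a, true), (.a, true), (.a, true), (.b, true)]),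
  (11093, [(.b, true), (.a, true), (.b, true), (.a, true), (.b, true), (.b, true), (.a, true), (.b, true), (.b, true), (.b, true), (.a, true), (.a, true)]),
  (11099, [(.a, true), (.b, true), (.b, true), (.b, true), (.a, true), (.b, true), (.b, true)]),
  (11115, [(.b, true), (.a, true), (.a, true), (.a, true), (.b, true), (.b, true), (.b, true), (.b, true), (.a, true), (.a, true)]),
  (11119, [(.b, true), (.b, true), (.a, true), (.b, true), (.a, true), (.b, true), (.b, true)]),
  (11130, [(.b, true), (.a, true), (.b, true), (.a, true), (.a, true), (.b, true), (.a, true), (.b, true), (.a, true), (.b, true), (.a, true)]),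
  (11148, [(.a, true), (.a, true), (.b, true), (.a, true), (.b, true), (.a, true), (.b, true), (.b, true), (.b, true), (.b, true), (.a, true), (.a, true)]),
  (11159, [(.a, true), (.b, true), (.b, true), (.a, true), (.b, true), (.b, true), (.a, true), (.a, true), (.a, true), (.b, true)]),
  (11165, [(.b, true), (.a, true), (.a, true), (.a, true), (.b, true), (.b, true), (.a, true), (.a, true), (.b, true), (.a, true), (.b, true)]),
  (11170, [(.a, true), (.a, true), (.a, true), (.b, true), (.a, true), (.b, true), (.a, true), (.b, true), (.b, true), (.b, true), (.b, true)]),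
  (11207, [(.b, true), (.a, true), (.b, true), (.b, true), (.a, true), (.b, true), (.a, true), (.a, true), (.b, true)]),
  (11216, [(.a, true), (.b, true), (.a, true), (.b, true), (.a, true), (.b, true), (.a, true)]),
  (11223, [(.a, true), (.b, true), (.b, true), (.b, true), (.a, true), (.a, true), (.b, true), (.a, true), (.a, true), (.a, true)]),
  (11226, [(.a, true), (.a, true), (.b, true), (.a, true), (.b, true), (.b, true), (.b, true), (.a, true), (.a, true), (.a, true)]),
  (11229, [(.a, true), (.b, true), (.b, true), (.a, true), (.a, true), (.a, true), (.b, true), (.a, true), (.b, true), (.b, true), (.a, true)]),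
  (11235, [(.b, true), (.b, true), (.a, true), (.b, true), (.a, true), (.b, true), (.b, true), (.b, true), (.b, true), (.a, true), (.a, true)]),
  (11237, [(.b, true), (.b, true), (.b, true), (.a, true), (.a, true), (.a, true), (.b, true), (.a, true), (.b, true), (.b, true), (.b, true)]),
  (11243, [(.a, true), (.a, true), (.b, true), (.b, true), (.a, true), (.b, true), (.b, true), (.a, true), (.a, true), (.a, true), (.a, true), (.a, true), (.a, true)]),
  (11269, [(.a, true), (.b, true), (.b, true), (.b, true), (.a, true), (.b, true), (.b, true), (.b, true), (.a, true), (.b, true), (.b, true), (.a, true)]),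
  (11276, [(.b, true), (.b, true), (.b, true), (.a, true), (.b, true), (.a, true), (.a, true), (.a, true), (.a, true), (.a, true), (.b, true)]),
  (11283, [(.b, true), (.b, true), (.a, true), (.b, true), (.a, true), (.a, true)]),
  (11289, [(.a, true), (.b, true), (.b, true), (.b, true), (.b, true), (.a, true), (.a, true)]),
  (11293, [(.a, true), (.b, true), (.b, true)]),
  (11311, [(.a, true), (.b, true), (.a, true), (.b, true), (.b, true), (.a, true), (.b, true), (.a, true), (.a, true), (.b, true)]),
  (11314, [(.b, true), (.a, true), (.a, true), (.b, true), (.a, true), (.b, true), (.a, true), (.a, true)]),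
  (11320, [(.b, true), (.b, true), (.a, true), (.b, true), (.a, true), (.b, true), (.b, true), (.b, true), (.b, true), (.a, true)]),
  (11327, [(.b, true), (.a, true), (.b, true), (.a, true), (.a, true), (.b, true), (.a, true), (.a, true)]),
  (11332, [(.a, true), (.a, true), (.a, true), (.a, true), (.b, true), (.b, true), (.b, true), (.a, true), (.b, true), (.a, true)]),
  (11334, [(.a, true), (.a, true), (.b, true), (.b, true), (.a, true), (.a, true), (.b, true), (.a, true), (.b, true), (.a, true), (.a, true)]),
  (11345, [(.a, true), (.b, true), (.a, true), (.a, true), (.a, true), (.a, true), (.a, true), (.b, true), (.a, true), (.b, true), (.a, true)]),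
  (11361, [(.b, true), (.a, true), (.b, true), (.a, true), (.a, true), (.b, true), (.b, true), (.b, true), (.a, true), (.b, true), (.a, true), (.a, true)]),
  (11371, [(.b, true), (.b, true), (.b, true), (.b, true), (.b, true), (.a, true), (.a, true), (.a, true), (.b, true), (.a, true), (.a, true)]),
  (11372, [(.b, true), (.a, true), (.a, true), (.b, true), (.a, true), (.b, true)]),
  (11385, [(.b, true), (.b, true), (.b, true), (.a, true), (.b, true), (.a, true), (.b, true), (.a, true)]),
  (11402, [(.b, true), (.b, true), (.b, true), (.b, true), (.a, true), (.a, true), (.b, true), (.a, true), (.a, true), (.b, true)]),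
  (11415, [(.b, true), (.b, true), (.b, true), (.a, true), (.b, true), (.b, true), (.a, true), (.a, true), (.a, true), (.b, true), (.a, true)]),
  (11427, [(.b, true), (.b, true), (.b, true), (.b, true), (.a, true), (.a, true), (.b, true), (.b, true), (.a, true), (.a, true), (.a, true), (.b, true)]),
  (11434, [(.b, true), (.b, true), (.a, true), (.a, true), (.b, true), (.b, true)]),
  (11453, [(.b, true), (.a, true), (.b, true), (.b, true), (.b, true), (.a, true), (.b, true), (.a, true)]),
  (11472, [(.b, true), (.b, true), (.a, true), (.b, true), (.a, true), (.b, true), (.b, true), (.a, true), (.b, true), (.a, true)]),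
  (11485, [(.a, true), (.a, true), (.a, true), (.a, true), (.a, true), (.a, true), (.a, true)]),
  (11505, [(.a, true), (.a, true), (.a, true), (.a, true), (.b, true), (.a, true), (.a, true), (.b, true)]),
  (11513, [(.a, true), (.b, true), (.a, true), (.a, true), (.b, true), (.a, true)]),
  (11517, [(.b, true), (.a, true), (.b, true), (.b, true), (.b, true), (.b, true), (.a, true), (.a, true), (.b, true)]),
  (11528, [(.b, true), (.a, true), (.b, true), (.a, true), (.a, true), (.b, true), (.b, true), (.a, true), (.b, true), (.a, true)]),
  (11536, [(.a, true), (.a, true), (.b, true), (.b, true), (.b, true), (.b, true), (.a, true), (.b, true), (.b, true), (.a, true)]),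
  (11537, [(.a, true), (.b, true), (.b, true), (.b, true), (.b, true), (.b, true), (.a, true), (.b, true), (.b, true), (.a, true)]),
  (11550, [(.a, true), (.a, true), (.a, true), (.a, true), (.b, true), (.b, true), (.b, true), (.b, true), (.a, true), (.a, true)]),
  (11553, [(.b, true), (.a, true), (.b, true), (.a, true), (.a, true), (.b, true), (.a, true), (.a, true), (.b, true)]),
  (11568, [(.a, true), (.a, true), (.a, true), (.a, true), (.a, true), (.a, true), (.b, true), (.b, true), (.b, true), (.a, true)]),
  (11570, [(.a, true), (.b, true), (.a, true), (.b, true), (.a, true), (.b, true), (.b, true), (.b, true), (.a, true)]),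
  (11579, [(.b, true), (.b, true), (.a, true), (.b, true), (.a, true), (.a, true), (.b, true), (.a, true), (.a, true), (.a, true)]),
  (11610, [(.b, true), (.a, true), (.b, true), (.a, true), (.a, true), (.b, true), (.a, true), (.a, true), (.a, true)]),
  (11619, [(.b, true), (.a, true), (.b, true), (.b, true), (.a, true), (.b, true), (.b, true), (.b, true), (.b, true), (.a, true)]),
  (11622, [(.a, true), (.b, true), (.a, true), (.b, true), (.b, true), (.a, true), (.b, true), (.b, true)]),
  (11625, [(.b, true), (.b, true), (.b, true), (.b, true), (.a, true), (.a, true), (.a, true), (.a, true), (.a, true)]),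
  (11644, [(.a, true), (.b, true), (.b, true), (.a, true), (.b, true), (.a, true), (.b, true), (.a, true)]),
  (11662, [(.a, true), (.a, true), (.b, true), (.a, true), (.b, true), (.b, true), (.b, true), (.b, true), (.a, true)]),
  (11667, [(.b, true), (.a, true), (.b, true), (.b, true), (.a, true), (.b, true), (.b, true), (.b, true), (.a, true), (.a, true)]),
  (11670, [(.b, true), (.b, true), (.a, true), (.b, true), (.b, true), (.b, true), (.b, true)]),
  (11717, [(.a, true), (.a, true), (.a, true), (.b, true), (.a, true), (.b, true), (.b, true), (.a, true), (.a, true), (.b, true)]),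
  (11722, [(.b, true), (.a, true), (.b, true), (.a, true), (.b, true), (.b, true), (.b, true), (.b, true), (.a, true), (.a, true), (.a, true)]),
  (11727, [(.a, true), (.a, true), (.a, true), (.a, true), (.a, true), (.b, true), (.a, true), (.a, true), (.b, true), (.b, true)]),
  (11730, [(.a, true), (.b, true), (.b, true), (.a, true), (.b, true), (.b, true), (.a, true), (.b, true)]),
  (11739, [(.a, true), (.b, true), (.a, true), (.b, true), (.a, true), (.b, true), (.a, true), (.b, true), (.a, true), (.b, true)]),
  (11760, [(.b, true), (.b, true), (.b, true), (.b, true), (.a, true), (.b, true), (.a, true), (.b, true), (.b, true)]),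
  (11769, [(.a, true), (.a, true), (.a, true), (.a, true), (.b, true), (.b, true), (.a, true), (.a, true), (.a, true), (.b, true)]),
  (11776, [(.b, true), (.b, true), (.b, true), (.a, true), (.b, true), (.a, true), (.b, true), (.b, true), (.a, true), (.a, true)]),
  (11778, [(.a, true), (.b, true), (.a, true), (.a, true), (.a, true), (.b, true), (.a, true)]),
  (11788, [(.b, true), (.b, true), (.b, true), (.a, true), (.a, true), (.b, true), (.a, true), (.a, true), (.b, true)]),
  (11789, [(.a, true), (.b, true), (.b, true), (.b, true), (.a, true), (.a, true), (.b, true), (.b, true), (.b, true), (.a, true), (.b, true)]),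
  (11799, [(.b, true), (.b, true), (.a, true), (.b, true), (.b, true), (.a, true), (.b, true), (.b, true), (.a, true), (.b, true)]),
  (11807, [(.a, true), (.b, true), (.a, true), (.b, true), (.b, true), (.a, true), (.a, true), (.a, true), (.b, true), (.a, true)]),
  (11810, [(.a, true), (.b, true), (.b, true), (.b, true), (.a, true), (.b, true), (.a, true), (.b, true), (.a, true), (.b, true), (.b, true)]),
  (11846, [(.a, true), (.a, true), (.a, true), (.b, true), (.b, true), (.b, true), (.a, true), (.b, true), (.b, true), (.b, true), (.a, true), (.a, true)]),
  (11856, [(.b, true), (.b, true), (.a, true), (.a, true), (.b, true), (.a, true), (.a, true), (.b, true), (.b, true)]),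
  (11858, [(.a, true), (.a, true), (.a, true), (.b, true), (.b, true), (.b, true), (.a, true), (.a, true)]),
  (11863, [(.a, true), (.b, true), (.b, true), (.a, true), (.a, true), (.a, true), (.b, true), (.a, true), (.a, true), (.a, true)]),
  (11866, [(.a, true), (.b, true), (.a, true), (.a, true), (.b, true), (.b, true), (.a, true), (.a, true), (.a, true)]),
  (11909, [(.b, true), (.b, true), (.a, true), (.a, true), (.b, true), (.b, true), (.a, true), (.b, true), (.a, true), (.a, true)]),
  (11917, [(.a, true), (.a, true), (.a, true), (.b, true), (.b, true), (.a, true), (.b, true), (.b, true), (.a, true), (.b, true), (.a, true)]),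
  (11931, [(.b, true), (.a, true), (.b, true), (.b, true), (.a, true), (.b, true), (.a, true)]),
  (11960, [(.a, true), (.b, true), (.b, true), (.a, true), (.b, true), (.b, true), (.a, true), (.b, true), (.a, true), (.a, true)]),
  (11962, [(.a, true), (.b, true), (.b, true), (.a, true), (.b, true), (.b, true), (.a, true), (.a, true), (.b, true), (.a, true)]),
  (11970, [(.a, true), (.b, true), (.b, true), (.a, true), (.b, true), (.a, true), (.b, true), (.b, true), (.a, true), (.b, true)]),
  (11984, [(.b, true), (.b, true), (.b, true), (.a, true), (.a, true), (.a, true), (.a, true), (.a, true), (.a, true), (.b, true)]),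
  (11994, [(.b, true), (.b, true), (.a, true), (.b, true), (.b, true), (.a, true)]),
  (12021, [(.a, true), (.b, true), (.a, true), (.b, true), (.a, true), (.a, true), (.b, true), (.a, true), (.a, true), (.b, true), (.b, true)]),
  (12037, [(.b, true), (.a, true), (.b, true), (.b, true), (.a, true), (.a, true), (.a, true), (.a, true), (.a, true), (.a, true), (.a, true)]),
  (12045, [(.a, true), (.a, true), (.a, true), (.b, true), (.a, true), (.a, true), (.b, true), (.a, true), (.b, true)]),
  (12058, [(.b, true), (.b, true), (.a, true), (.b, true), (.a, true), (.a, true), (.b, true), (.a, true), (.b, true), (.a, true)]),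
  (12074, [(.a, true), (.b, true), (.b, true), (.b, true), (.a, true), (.b, true), (.b, true), (.b, true), (.a, true), (.a, true)]),
  (12075, [(.a, true), (.a, true), (.b, true), (.b, true), (.a, true), (.a, true), (.a, true), (.b, true), (.b, true), (.a, true), (.a, true)]),
  (12078, [(.a, true), (.a, true), (.a, true), (.b, true), (.a, true), (.b, true), (.a, true)]),
  (12089, [(.a, true), (.b, true), (.a, true), (.b, true), (.a, true), (.a, true), (.a, true), (.b, true), (.a, true)]),
  (12091, [(.b, true), (.b, true), (.a, true), (.b, true), (.a, true), (.b, true), (.a, true), (.b, true), (.b, true)]),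
  (12108, [(.b, true), (.b, true), (.b, true), (.a, true), (.a, true), (.b, true), (.b, true), (.a, true), (.a, true)]),
  (12123, [(.b, true), (.b, true), (.b, true), (.a, true), (.b, true), (.a, true), (.b, true), (.b, true), (.b, true), (.b, true)]),
  (12134, [(.b, true), (.a, true), (.b, true), (.a, true), (.b, true), (.b, true), (.b, true), (.b, true)]),
  (12150, [(.b, true), (.a, true), (.b, true), (.b, true), (.b, true), (.b, true), (.a, true), (.a, true), (.b, true), (.a, true), (.b, true)]),
  (12157, [(.a, true), (.b, true), (.a, true), (.a, true), (.a, true), (.a, true), (.a, true), (.a, true), (.b, true), (.b, true)]),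
  (12161, [(.a, true), (.a, true), (.a, true), (.b, true), (.b, true), (.a, true), (.a, true), (.a, true), (.b, true), (.b, true), (.a, true), (.a, true)]),
  (12163, [(.a, true), (.b, true), (.b, true), (.b, true), (.a, true), (.b, true), (.b, true), (.a, true)]),
  (12172, [(.b, true), (.a, true), (.b, true), (.b, true), (.b, true), (.a, true), (.b, true), (.b, true), (.a, true), (.a, true), (.a, true)]),
  (12182, [(.b, true), (.b, true), (.a, true), (.a, true), (.a, true), (.b, true), (.b, true), (.b, true), (.a, true), (.b, true), (.a, true), (.a, true)]),
  (12186, [(.b, true), (.a, true), (.b, true), (.a, true), (.a, true), (.a, true), (.a, true), (.a, true), (.a, true)]),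
  (12192, [(.a, true), (.a, true), (.b, true), (.b, true), (.a, true), (.b, true), (.b, true), (.a, true), (.b, true), (.a, true)]),
  (12198, [(.a, true), (.a, true), (.a, true), (.b, true), (.b, true), (.a, true), (.b, true), (.b, true), (.b, true), (.a, true), (.a, true)]),
  (12231, [(.a, true), (.a, true), (.a, true), (.b, true), (.a, true), (.b, true), (.b, true), (.b, true), (.b, true), (.a, true)]),
  (12233, [(.b, true), (.a, true), (.b, true), (.a, true), (.a, true), (.b, true), (.b, true), (.b, true), (.a, true), (.b, true)]),
  (12265, [(.b, true), (.a, true), (.b, true), (.b, true), (.a, true), (.b, true), (.b, true), (.b, true), (.a, true), (.a, true), (.a, true)]),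
  (12266, [(.b, true), (.a, true), (.b, true), (.a, true), (.b, true), (.b, true), (.a, true), (.b, true), (.b, true)]),
  (12276, [(.a, true), (.a, true), (.a, true), (.a, true), (.a, true), (.b, true), (.a, true), (.a, true), (.a, true), (.a, true), (.a, true), (.a, true)]),
  (12282, [(.a, true), (.a, true), (.a, true), (.b, true), (.a, true), (.a, true), (.a, true), (.a, true), (.a, true), (.b, true), (.a, true)]),
  (12284, [(.b, true), (.b, true), (.a, true), (.a, true), (.b, true), (.b, true), (.b, true), (.b, true), (.a, true), (.b, true)]),
  (12300, [(.b, true), (.b, true), (.a, true), (.b, true), (.b, true), (.a, true), (.b, true), (.b, true), (.a, true), (.a, true), (.a, true)]),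
  (12306, [(.b, true), (.a, true), (.a, true), (.a, true), (.b, true), (.a, true), (.b, true), (.b, true), (.b, true), (.a, true)]),
  (12309, [(.a, true), (.b, true), (.a, true), (.b, true), (.a, true), (.a, true), (.b, true), (.b, true), (.b, true), (.a, true)]),
  (12312, [(.b, true), (.b, true), (.b, true), (.a, true), (.a, true), (.a, true), (.b, true), (.b, true), (.b, true), (.a, true)]),
  (12318, [(.b, true), (.b, true), (.b, true), (.b, true), (.a, true), (.b, true), (.a, true), (.b, true), (.a, true), (.b, true), (.a, true), (.b, true)]),
  (12320, [(.a, true), (.a, true), (.b, true), (.b, true), (.b, true), (.b, true), (.b, true), (.a, true), (.a, true), (.b, true), (.a, true), (.a, true)]),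
  (12349, [(.b, true), (.a, true), (.b, true), (.a, true), (.b, true), (.a, true), (.b, true), (.b, true), (.a, true)]),
  (12353, [(.a, true), (.b, true), (.a, true), (.b, true), (.a, true), (.b, true), (.b, true), (.a, true), (.a, true)]),
  (12376, [(.a, true), (.b, true), (.b, true), (.b, true), (.a, true), (.b, true), (.b, true), (.a, true), (.a, true), (.b, true), (.a, true), (.a, true)]),
  (12379, [(.b, true), (.b, true), (.a, true), (.b, true), (.b, true), (.a, true), (.a, true), (.b, true), (.a, true)]),
  (12383, [(.b, true), (.a, true), (.b, true), (.a, true), (.a, true), (.b, true), (.b, true)]),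
  (12390, [(.b, true), (.a, true), (.a, true), (.b, true), (.b, true), (.b, true), (.a, true), (.a, true), (.b, true), (.b, true)]),
  (12403, [(.b, true), (.b, true), (.b, true), (.a, true), (.b, true), (.b, true), (.a, true), (.b, true), (.b, true), (.b, true)]),
  (12413, [(.a, true), (.a, true), (.b, true), (.b, true), (.b, true), (.a, true), (.b, true), (.b, true), (.a, true), (.b, true), (.a, true), (.b, true)]),
  (12414, [(.b, true), (.b, true), (.a, true)]),
  (12416, [(.a, true), (.b, true), (.b, true), (.a, true), (.b, true), (.a, true), (.b, true), (.a, true), (.b, true), (.a, true), (.a, true), (.a, true)]),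
  (12429, [(.b, true), (.a, true), (.a, true), (.a, true), (.b, true), (.a, true), (.b, true), (.b, true), (.b, true), (.a, true), (.b, true)]),
  (12449, [(.b, true), (.b, true), (.a, true), (.a, true), (.b, true), (.b, true), (.b, true), (.a, true), (.a, true)]),
  (12457, [(.b, true), (.b, true), (.b, true), (.a, true), (.b, true), (.a, true), (.b, true), (.a, true), (.a, true), (.a, true), (.a, true)]),
  (12458, [(.b, true), (.a, true), (.a, true), (.b, true), (.b, true), (.b, true), (.a, true), (.a, true), (.b, true), (.b, true), (.a, true), (.b, true)]),
  (12461, [(.b, true), (.b, true), (.a, true), (.a, true), (.b, true), (.b, true), (.a, true), (.a, true)]),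
  (12467, [(.a, true), (.a, true), (.b, true), (.a, true), (.b, true), (.b, true), (.a, true), (.a, true), (.a, true), (.b, true), (.b, true)]),
  (12469, [(.b, true), (.b, true), (.b, true), (.a, true), (.a, true), (.b, true), (.b, true), (.a, true), (.b, true), (.b, true), (.a, true)]),
  (12491, [(.b, true), (.b, true), (.b, true), (.b, true), (.b, true), (.a, true), (.b, true), (.a, true), (.b, true), (.a, true)]),
  (12497, [(.b, true), (.a, true), (.b, true), (.b, true), (.a, true), (.b, true), (.b, true), (.a, true), (.a, true), (.b, true), (.a, true), (.a, true)]),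
  (12504, [(.a, true), (.b, true), (.a, true), (.b, true), (.a, true), (.b, true), (.b, true), (.b, true), (.a, true), (.a, true), (.a, true)]),
  (12516, [(.b, true), (.a, true), (.a, true), (.b, true), (.a, true), (.a, true), (.b, true), (.a, true)]),
  (12519, [(.a, true), (.a, true), (.a, true), (.a, true), (.a, true), (.b, true), (.b, true), (.a, true)]),
  (12533, [(.b, true), (.b, true), (.a, true), (.a, true), (.a, true), (.a, true), (.a, true)]),
  (12535, [(.b, true), (.a, true), (.a, true), (.b, true), (.a, true), (.a, true), (.b, true), (.b, true), (.b, true)]),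
  (12536, [(.b, true), (.a, true), (.b, true), (.b, true), (.a, true), (.a, true), (.b, true), (.a, true)]),
  (12548, [(.a, true), (.a, true), (.b, true), (.b, true), (.a, true), (.a, true), (.a, true), (.b, true), (.a, true), (.a, true)]),
  (12552, [(.a, true), (.b, true), (.a, true), (.b, true), (.a, true), (.a, true), (.b, true), (.b, true), (.a, true), (.a, true)]),
  (12558, [(.b, true), (.a, true), (.a, true), (.a, true), (.b, true), (.a, true), (.b, true), (.a, true), (.b, true)]),
  (12563, [(.a, true), (.a, true), (.a, true), (.a, true), (.b, true), (.b, true), (.a, true), (.a, true)]),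
  (12582, [(.b, true), (.a, true), (.a, true), (.a, true), (.b, true), (.b, true), (.a, true), (.a, true), (.a, true), (.a, true)]),
  (12589, [(.b, true), (.a, true), (.a, true), (.b, true), (.a, true), (.b, true), (.b, true), (.b, true), (.b, true)]),
  (12592, [(.a, true), (.a, true), (.b, true), (.a, true), (.b, true), (.b, true), (.b, true), (.a, true), (.b, true)]),
  (12599, [(.b, true), (.b, true), (.a, true), (.a, true), (.b, true), (.b, true), (.b, true)]),
  (12602, [(.b, true), (.a, true), (.a, true), (.b, true), (.b, true), (.a, true), (.b, true), (.b, true), (.a, true), (.a, true), (.a, true)]),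
  (12640, [(.b, true), (.a, true), (.b, true), (.b, true), (.a, true), (.b, true), (.a, true), (.b, true)]),
  (12646, [(.a, true), (.a, true), (.a, true), (.b, true), (.a, true), (.b, true), (.b, true), (.a, true), (.a, true), (.a, true)]),
  (12651, [(.b, true), (.a, true), (.a, true), (.a, true), (.b, true), (.a, true), (.b, true), (.a, true), (.b, true), (.b, true), (.a, true)]),
  (12654, [(.a, true), (.b, true), (.a, true), (.b, true), (.a, true), (.b, true), (.a, true), (.a, true)]),
  (12661, [(.b, true), (.a, true), (.b, true), (.b, true), (.a, true), (.a, true), (.b, true)]),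
  (12672, [(.a, true), (.b, true), (.a, true), (.a, true), (.b, true)]),
  (12675, [(.a, true), (.b, true), (.b, true), (.b, true), (.b, true), (.b, true), (.a, true), (.a, true), (.a, true), (.a, true)]),
  (12684, [(.a, true), (.a, true), (.a, true), (.a, true), (.b, true), (.b, true), (.b, true), (.a, true), (.b, true), (.a, true), (.a, true), (.a, true), (.a, true)]),
  (12691, [(.a, true), (.a, true), (.b, true), (.a, true), (.b, true), (.b, true), (.b, true), (.b, true), (.a, true), (.a, true), (.a, true)]),
  (12706, [(.a, true), (.a, true), (.b, true), (.b, true), (.a, true), (.a, true), (.a, true), (.a, true), (.a, true), (.a, true)]),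
  (12722, [(.b, true), (.a, true), (.a, true), (.b, true), (.b, true), (.b, true), (.b, true), (.b, true)]),
  (12746, [(.b, true), (.a, true), (.b, true), (.a, true), (.a, true), (.a, true), (.a, true), (.a, true), (.b, true), (.b, true), (.b, true)]),
  (12756, [(.b, true), (.a, true), (.a, true), (.a, true), (.b, true), (.a, true), (.a, true), (.a, true), (.a, true), (.a, true), (.a, true), (.b, true)]),
  (12758, [(.b, true), (.b, true), (.a, true), (.b, true), (.b, true), (.a, true), (.a, true), (.a, true)]),
  (12762, [(.b, true), (.a, true), (.a, true), (.b, true), (.b, true), (.b, true), (.b, true), (.a, true), (.b, true), (.b, true), (.a, true)]),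
  (12763, [(.a, true), (.b, true), (.b, true), (.b, true), (.b, true), (.b, true), (.a, true), (.a, true), (.b, true)]),
  (12778, [(.b, true), (.a, true), (.a, true), (.a, true), (.b, true), (.a, true), (.b, true), (.a, true), (.a, true), (.a, true)]),
  (12790, [(.b, true), (.b, true), (.a, true), (.b, true), (.a, true), (.b, true), (.b, true), (.a, true), (.b, true), (.a, true), (.a, true), (.b, true), (.a, true)]),
  (12793, [(.a, true), (.b, true), (.a, true)]),
  (12802, [(.b, true), (.a, true), (.b, true), (.b, true), (.b, true), (.a, true), (.b, true), (.a, true), (.b, true), (.b, true), (.a, true)]),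
  (12835, [(.a, true), (.a, true), (.a, true), (.b, true), (.a, true), (.b, true), (.a, true), (.a, true), (.a, true), (.b, true)]),
  (12839, [(.b, true), (.b, true), (.b, true), (.a, true), (.a, true), (.b, true), (.b, true), (.a, true), (.b, true), (.a, true)]),
  (12841, [(.a, true), (.a, true), (.a, true), (.b, true), (.b, true), (.a, true), (.b, true), (.b, true)]),
  (12859, [(.b, true), (.a, true), (.b, true), (.b, true), (.b, true), (.a, true), (.a, true), (.b, true), (.a, true), (.b, true), (.a, true)]),
  (12864, [(.a, true), (.b, true), (.b, true), (.a, true), (.a, true), (.b, true), (.a, true), (.b, true), (.a, true), (.b, true)]),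
  (12869, [(.b, true), (.a, true), (.a, true), (.b, true), (.b, true), (.b, true), (.b, true), (.b, true), (.a, true), (.a, true), (.b, true), (.a, true)]),
  (12873, [(.a, true), (.b, true), (.a, true), (.a, true), (.b, true), (.a, true), (.b, true), (.a, true), (.b, true)]),
  (12899, [(.b, true), (.b, true), (.a, true), (.a, true), (.a, true), (.b, true), (.b, true), (.a, true), (.a, true)]),
  (12901, [(.a, true), (.b, true), (.b, true), (.a, true), (.a, true), (.a, true), (.b, true), (.b, true), (.a, true)]),
  (12924, [(.b, true), (.b, true), (.a, true), (.b, true), (.a, true), (.a, true), (.b, true), (.a, true), (.b, true), (.a, true), (.a, true), (.a, true)]),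
  (12935, [(.a, true), (.b, true), (.a, true), (.a, true), (.b, true), (.a, true), (.a, true), (.b, true), (.a, true), (.a, true)]),
  (12937, [(.a, true), (.b, true), (.a, true), (.a, true), (.a, true), (.b, true), (.b, true), (.a, true), (.a, true), (.a, true), (.a, true), (.a, true)]),
  (12962, [(.b, true), (.a, true), (.b, true), (.b, true), (.a, true), (.a, true), (.a, true), (.b, true), (.a, true)]),
  (12967, [(.a, true), (.a, true), (.b, true), (.a, true), (.b, true), (.a, true), (.a, true), (.b, true), (.b, true), (.a, true)]),
  (12980, [(.b, true), (.b, true), (.a, true), (.b, true), (.b, true), (.a, true), (.a, true)]),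
  (12982, [(.b, true), (.a, true), (.a, true), (.b, true), (.b, true), (.b, true), (.a, true), (.a, true)]),
  (12988, [(.a, true), (.b, true), (.b, true), (.a, true), (.a, true), (.a, true), (.b, true), (.b, true), (.a, true), (.a, true), (.a, true)]),
  (12995, [(.b, true), (.a, true), (.b, true), (.a, true), (.b, true), (.a, true), (.a, true), (.b, true), (.b, true), (.b, true), (.a, true)]),
  (13010, [(.b, true), (.b, true), (.a, true), (.b, true), (.b, true), (.b, true), (.a, true), (.b, true), (.b, true), (.a, true), (.a, true), (.b, true)]),
  (13018, [(.a, true), (.b, true), (.b, true), (.a, true), (.a, true), (.b, true), (.a, true), (.b, true), (.a, true), (.a, true)]),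
  (13021, [(.a, true), (.a, true), (.b, true), (.b, true), (.a, true), (.b, true), (.a, true), (.a, true), (.b, true)]),
  (13028, [(.a, true), (.a, true), (.b, true), (.a, true), (.b, true), (.a, true), (.a, true)]),
  (13039, [(.b, true), (.a, true), (.b, true), (.b, true), (.a, true), (.a, true), (.a, true), (.b, true), (.b, true)]),
  (13061, [(.b, true), (.a, true), (.b, true), (.b, true), (.b, true), (.b, true), (.a, true), (.a, true), (.a, true), (.a, true), (.a, true)]),
  (13066, [(.b, true), (.b, true), (.b, true), (.a, true), (.b, true), (.a, true), (.b, true), (.b, true), (.a, true), (.a, true), (.b, true)]),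
  (13095, [(.b, true), (.a, true), (.b, true), (.b, true), (.a, true), (.b, true), (.a, true), (.b, true), (.b, true), (.a, true), (.b, true)]),
  (13096, [(.a, true), (.b, true), (.b, true), (.b, true), (.b, true), (.a, true), (.b, true), (.a, true), (.b, true), (.a, true), (.b, true)]),
  (13099, [(.b, true), (.b, true), (.b, true), (.b, true), (.a, true), (.a, true), (.b, true)]),
  (13104, [(.b, true), (.b, true), (.b, true), (.b, true), (.b, true), (.a, true), (.a, true), (.b, true), (.b, true), (.a, true)]),
  (13110, [(.b, true), (.b, true), (.a, true), (.b, true), (.a, true), (.b, true), (.a, true), (.b, true), (.a, true), (.a, true), (.a, true), (.a, true)]),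
  (13113, [(.a, true), (.a, true), (.a, true), (.a, true), (.a, true), (.b, true), (.a, true), (.b, true), (.a, true)]),
  (13123, [(.b, true), (.a, true), (.a, true), (.a, true), (.b, true), (.a, true), (.b, true), (.a, true), (.a, true), (.b, true), (.a, true)]),
  (13145, [(.a, true), (.a, true), (.a, true), (.a, true), (.a, true), (.b, true), (.b, true), (.b, true), (.b, true), (.b, true), (.a, true)]),
  (13165, [(.b, true), (.b, true), (.b, true), (.a, true)]),
  (13168, [(.b, true), (.b, true), (.a, true), (.a, true), (.b, true), (.b, true), (.a, true), (.b, true)]),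
  (13181, [(.b, true), (.b, true), (.b, true), (.a, true), (.b, true), (.a, true), (.b, true), (.a, true), (.b, true)]),
  (13182, [(.a, true), (.b, true), (.a, true), (.b, true), (.b, true)]),
  (13184, [(.a, true), (.a, true), (.a, true), (.a, true), (.a, true), (.b, true), (.a, true), (.a, true), (.a, true), (.a, true)]),
  (13186, [(.a, true), (.a, true), (.b, true), (.a, true), (.b, true), (.a, true), (.b, true), (.b, true), (.b, true), (.a, true)]),
  (13191, [(.b, true), (.b, true), (.b, true), (.b, true), (.a, true), (.b, true), (.b, true)]),
  (13194, [(.b, true), (.a, true), (.a, true), (.a, true), (.b, true), (.b, true), (.a, true), (.a, true), (.b, true)]),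
  (13195, [(.a, true), (.b, true), (.a, true), (.b, true), (.b, true), (.a, true), (.b, true), (.b, true), (.a, true), (.a, true)]),
  (13214, [(.b, true), (.a, true), (.b, true), (.b, true), (.a, true), (.b, true), (.a, true), (.b, true), (.a, true), (.a, true)]),
  (13219, [(.b, true), (.b, true), (.a, true), (.a, true), (.a, true), (.b, true), (.a, true), (.b, true), (.b, true), (.b, true), (.a, true), (.a, true)]),
  (13223, [(.b, true), (.a, true), (.a, true), (.a, true), (.b, true), (.a, true), (.b, true), (.b, true), (.a, true), (.a, true), (.a, true)]),
  (13239, [(.b, true), (.a, true), (.a, true), (.b, true), (.a, true), (.a, true), (.a, true), (.a, true), (.a, true), (.a, true)]),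
  (13264, [(.a, true), (.b, true), (.a, true), (.a, true), (.b, true), (.a, true), (.b, true), (.a, true)]),
  (13280, [(.b, true), (.b, true), (.b, true), (.b, true), (.a, true), (.b, true), (.a, true), (.b, true), (.a, true), (.b, true)]),
  (13288, [(.b, true), (.b, true), (.a, true), (.b, true), (.b, true), (.b, true), (.a, true), (.a, true), (.a, true), (.b, true)]),
  (13291, [(.b, true), (.b, true), (.a, true), (.b, true), (.b, true)]),
  (13295, [(.a, true), (.a, true), (.b, true), (.b, true), (.b, true), (.a, true), (.b, true), (.b, true), (.a, true), (.b, true), (.b, true), (.a, true)]),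
  (13298, [(.b, true), (.a, true), (.b, true), (.b, true), (.a, true), (.a, true), (.a, true), (.a, true), (.a, true), (.a, true)]),
  (13302, [(.b, true), (.a, true), (.a, true), (.a, true), (.a, true), (.a, true), (.b, true), (.b, true)]),
  (13311, [(.a, true), (.a, true), (.a, true), (.a, true), (.b, true), (.b, true), (.b, true), (.b, true), (.a, true), (.a, true), (.a, true), (.a, true), (.a, true)]),
  (13325, [(.b, true), (.a, true), (.a, true), (.a, true), (.b, true), (.b, true), (.b, true), (.a, true), (.b, true)]),
  (13326, [(.a, true), (.b, true), (.a, true), (.a, true), (.a, true), (.b, true), (.b, true), (.a, true), (.a, true), (.a, true), (.a, true)]),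
  (13342, [(.a, true), (.a, true), (.a, true), (.a, true), (.b, true), (.a, true), (.a, true), (.a, true), (.a, true)]),
  (13345, [(.a, true), (.a, true), (.a, true), (.b, true), (.a, true), (.a, true), (.a, true), (.a, true), (.a, true), (.a, true), (.b, true)]),
  (13351, [(.b, true), (.a, true), (.a, true), (.a, true), (.a, true), (.a, true), (.a, true), (.b, true), (.b, true), (.b, true), (.a, true)]),
  (13362, [(.a, true), (.b, true), (.b, true), (.a, true), (.b, true), (.a, true), (.b, true), (.a, true), (.b, true), (.a, true), (.b, true), (.a, true)]),
  (13376, [(.a, true), (.b, true), (.a, true), (.a, true), (.b, true), (.b, true)]),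
  (13378, [(.b, true), (.b, true), (.a, true), (.b, true), (.b, true), (.a, true), (.a, true), (.a, true), (.a, true), (.a, true)]),
  (13379, [(.b, true), (.a, true), (.b, true), (.b, true), (.a, true), (.a, true), (.a, true), (.b, true), (.b, true), (.a, true), (.a, true), (.a, true), (.a, true)]),
  (13387, [(.b, true), (.a, true), (.b, true), (.b, true), (.a, true), (.b, true), (.b, true), (.a, true), (.a, true), (.b, true)]),
  (13393, [(.b, true), (.b, true), (.a, true), (.b, true), (.a, true), (.a, true), (.a, true), (.a, true), (.a, true)]),
  (13414, [(.a, true), (.b, true), (.a, true), (.b, true), (.a, true), (.a, true), (.b, true), (.a, true), (.a, true), (.b, true)]),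
  (13432, [(.b, true), (.b, true), (.b, true), (.b, true), (.a, true), (.b, true), (.a, true), (.b, true), (.a, true), (.b, true), (.a, true), (.a, true)]),
  (13438, [(.b, true), (.b, true), (.a, true), (.a, true), (.a, true), (.b, true), (.b, true), (.b, true), (.a, true), (.a, true), (.a, true), (.a, true)]),
  (13440, [(.a, true), (.a, true), (.a, true), (.b, true), (.b, true), (.b, true), (.b, true), (.a, true), (.a, true), (.a, true), (.b, true)]),
  (13449, [(.b, true), (.a, true), (.a, true), (.a, true), (.a, true), (.a, true), (.b, true), (.a, true), (.b, true)]),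
  (13454, [(.a, true), (.b, true), (.a, true), (.b, true), (.b, true), (.b, true), (.a, true), (.b, true), (.b, true), (.b, true)]),
  (13460, [(.b, true), (.a, true), (.b, true), (.b, true), (.a, true), (.b, true), (.b, true), (.a, true), (.b, true)]),
  (13475, [(.b, true), (.b, true), (.a, true), (.a, true), (.b, true), (.b, true), (.b, true), (.a, true), (.b, true)]),
  (13499, [(.a, true), (.a, true), (.a, true), (.b, true), (.a, true), (.a, true), (.a, true), (.a, true), (.a, true), (.a, true)]),
  (13510, [(.b, true), (.a, true), (.a, true), (.b, true), (.a, true), (.b, true), (.b, true), (.b, true)]),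
  (13511, [(.b, true), (.b, true), (.b, true), (.a, true), (.b, true), (.b, true), (.b, true), (.a, true), (.b, true), (.b, true), (.b, true)]),
  (13517, [(.a, true), (.a, true), (.b, true), (.a, true), (.b, true), (.a, true), (.a, true), (.b, true), (.b, true), (.a, true), (.a, true)]),
  (13526, [(.b, true), (.b, true), (.b, true), (.a, true), (.b, true), (.a, true), (.a, true), (.b, true), (.a, true), (.a, true), (.a, true), (.a, true)]),
  (13537, [(.a, true), (.a, true), (.a, true), (.b, true), (.a, true), (.a, true), (.b, true), (.a, true), (.a, true)]),
  (13556, [(.b, true), (.b, true), (.b, true), (.b, true), (.a, true), (.a, true), (.b, true), (.b, true), (.a, true), (.b, true)]),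
  (13598, [(.a, true), (.b, true), (.b, true), (.b, true), (.b, true), (.b, true), (.a, true), (.b, true)]),
  (13600, [(.b, true), (.b, true), (.a, true), (.a, true), (.a, true), (.b, true), (.a, true), (.b, true), (.b, true), (.b, true), (.b, true), (.a, true)]),
  (13601, [(.a, true), (.b, true), (.a, true), (.a, true), (.b, true), (.a, true), (.a, true), (.a, true), (.a, true), (.a, true), (.b, true), (.a, true)]),
  (13612, [(.a, true), (.a, true), (.b, true), (.a, true), (.a, true), (.b, true), (.a, true), (.a, true)]),
  (13615, [(.a, true), (.a, true), (.b, true), (.a, true), (.a, true), (.b, true), (.b, true), (.b, true), (.a, true)]),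
  (13625, [(.a, true), (.a, true), (.b, true), (.b, true), (.b, true), (.b, true), (.a, true), (.b, true), (.a, true), (.b, true), (.a, true)]),
  (13628, [(.a, true), (.a, true), (.b, true), (.b, true), (.a, true), (.b, true), (.b, true), (.a, true)]),
  (13638, [(.a, true), (.a, true), (.b, true), (.b, true), (.b, true), (.a, true), (.a, true), (.b, true), (.b, true), (.a, true)]),
  (13644, [(.a, true), (.b, true), (.a, true), (.b, true), (.b, true), (.a, true), (.b, true), (.b, true), (.a, true), (.b, true), (.a, true)]),
  (13649, [(.a, true), (.a, true), (.a, true), (.a, true), (.a, true), (.a, true), (.b, true), (.b, true), (.b, true)]),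
  (13663, [(.a, true), (.a, true), (.a, true), (.a, true), (.b, true), (.a, true), (.b, true), (.a, true), (.a, true)]),
  (13665, [(.a, true), (.b, true), (.a, true), (.b, true), (.b, true), (.b, true), (.a, true), (.b, true), (.a, true), (.a, true)]),
  (13677, [(.a, true), (.b, true), (.a, true), (.b, true), (.a, true), (.b, true), (.a, true), (.b, true), (.b, true), (.a, true)]),
  (13693, [(.a, true), (.b, true), (.b, true), (.a, true), (.b, true), (.a, true), (.b, true)]),
  (13716, [(.b, true), (.a, true), (.b, true), (.a, true), (.b, true), (.a, true), (.b, true), (.a, true), (.a, true)]),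
  (13724, [(.a, true), (.a, true), (.b, true), (.b, true), (.b, true), (.b, true), (.a, true), (.b, true), (.b, true)]),
  (13731, [(.a, true), (.b, true), (.a, true), (.a, true), (.b, true), (.a, true), (.b, true), (.a, true), (.a, true)]),
  (13745, [(.a, true), (.b, true), (.b, true), (.b, true), (.a, true), (.b, true), (.b, true), (.b, true), (.a, true), (.b, true), (.b, true), (.b, true)]),
  (13751, [(.a, true), (.a, true), (.a, true), (.b, true), (.a, true), (.a, true), (.b, true), (.a, true)]),
  (13769, [(.a, true), (.a, true), (.a, true), (.b, true), (.b, true), (.a, true), (.a, true), (.b, true), (.a, true), (.a, true), (.b, true), (.a, true)]),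
  (13774, [(.b, true), (.a, true), (.b, true), (.a, true), (.a, true), (.b, true), (.b, true), (.a, true), (.b, true)]),
  (13784, [(.b, true), (.a, true), (.a, true), (.a, true), (.a, true), (.a, true), (.b, true), (.b, true), (.b, true), (.a, true), (.a, true)]),
  (13818, [(.b, true), (.a, true), (.b, true), (.a, true), (.b, true), (.a, true), (.b, true), (.a, true), (.b, true), (.a, true)]),
  (13829, [(.b, true), (.a, true), (.b, true), (.b, true), (.a, true), (.a, true), (.b, true), (.a, true), (.b, true), (.a, true), (.b, true)]),
  (13830, [(.a, true), (.b, true), (.b, true), (.a, true), (.a, true), (.b, true), (.a, true), (.a, true), (.b, true), (.b, true)]),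
  (13832, [(.b, true), (.a, true), (.b, true), (.b, true), (.b, true), (.b, true), (.a, true), (.a, true), (.a, true), (.a, true), (.a, true), (.b, true)]),
  (13839, [(.a, true), (.b, true), (.a, true), (.a, true), (.b, true), (.a, true), (.a, true), (.b, true), (.b, true), (.b, true)]),
  (13843, [(.b, true), (.b, true), (.a, true), (.a, true), (.b, true), (.b, true), (.a, true), (.a, true), (.b, true)]),
  (13851, [(.b, true), (.b, true), (.b, true), (.a, true), (.b, true), (.b, true), (.b, true), (.a, true), (.b, true), (.a, true), (.b, true)]),
  (13856, [(.a, true), (.a, true), (.a, true), (.b, true), (.b, true), (.b, true), (.a, true), (.b, true), (.b, true), (.b, true)]),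
  (13868, [(.a, true), (.b, true), (.a, true), (.a, true), (.a, true), (.b, true), (.b, true), (.b, true), (.b, true), (.b, true)]),
  (13878, [(.a, true), (.a, true), (.a, true), (.b, true), (.a, true), (.b, true), (.b, true), (.a, true)]),
  (13904, [(.b, true), (.b, true), (.b, true), (.a, true), (.a, true), (.b, true), (.a, true), (.a, true), (.b, true), (.a, true)]),
  (13906, [(.b, true), (.b, true), (.b, true), (.a, true), (.a, true), (.b, true), (.b, true), (.b, true), (.b, true), (.b, true), (.a, true)]),
  (13947, [(.a, true), (.a, true), (.b, true), (.a, true), (.b, true), (.b, true), (.b, true), (.a, true), (.b, true), (.b, true), (.a, true), (.a, true)]),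
  (13954, [(.b, true), (.b, true), (.a, true), (.b, true), (.a, true), (.a, true), (.b, true)]),
  (13961, [(.b, true), (.a, true), (.a, true), (.b, true), (.a, true), (.b, true), (.a, true), (.a, true), (.b, true), (.b, true)]),
  (13977, [(.b, true), (.a, true), (.b, true), (.a, true), (.b, true), (.a, true), (.b, true), (.b, true), (.b, true), (.b, true)]),
  (13982, [(.a, true), (.a, true), (.b, true), (.b, true), (.b, true), (.b, true), (.a, true), (.b, true), (.a, true)]),
  (14000, [(.a, true), (.a, true), (.a, true), (.b, true), (.b, true), (.a, true), (.a, true), (.b, true), (.a, true), (.b, true)]),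
  (14020, [(.a, true), (.b, true), (.b, true), (.a, true), (.a, true), (.b, true), (.a, true), (.b, true), (.a, true), (.b, true), (.b, true)]),
  (14023, [(.b, true), (.b, true), (.a, true), (.b, true), (.a, true), (.b, true), (.b, true), (.a, true)]),
  (14024, [(.b, true), (.b, true), (.b, true), (.a, true), (.b, true), (.b, true), (.a, true), (.a, true), (.b, true), (.a, true), (.a, true)]),
  (14031, [(.a, true), (.a, true), (.b, true), (.b, true), (.b, true), (.b, true), (.a, true), (.a, true), (.a, true), (.b, true), (.a, true)]),
  (14060, [(.a, true), (.b, true), (.a, true), (.b, true), (.b, true), (.a, true), (.b, true), (.b, true), (.a, true), (.b, true)]),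
  (14071, [(.b, true), (.b, true), (.a, true), (.b, true), (.b, true), (.a, true), (.a, true), (.a, true), (.b, true), (.a, true)]),
  (14078, [(.b, true), (.a, true), (.a, true), (.a, true), (.a, true), (.a, true), (.b, true), (.b, true), (.b, true), (.b, true)]),
  (14084, [(.a, true), (.b, true), (.a, true), (.a, true), (.a, true), (.b, true), (.a, true), (.a, true)]),
  (14085, [(.b, true), (.a, true), (.a, true), (.a, true), (.b, true), (.a, true), (.b, true), (.a, true), (.a, true), (.b, true)]),
  (14094, [(.b, true), (.a, true), (.b, true), (.a, true), (.b, true), (.a, true), (.a, true), (.a, true), (.b, true), (.a, true)]),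
  (14099, [(.a, true), (.b, true), (.b, true), (.b, true), (.b, true), (.b, true), (.a, true), (.a, true), (.b, true), (.a, true), (.b, true)]),
  (14113, [(.a, true), (.a, true), (.b, true), (.a, true), (.b, true), (.a, true), (.b, true), (.a, true), (.a, true), (.a, true), (.a, true)]),
  (14118, [(.a, true), (.b, true), (.b, true), (.b, true), (.b, true), (.b, true), (.a, true), (.a, true)]),
  (14119, [(.b, true), (.b, true), (.a, true), (.a, true), (.b, true), (.b, true), (.b, true), (.b, true), (.a, true), (.b, true), (.b, true)]),
  (14120, [(.b, true), (.b, true), (.a, true), (.b, true), (.b, true), (.b, true), (.a, true)]),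
  (14129, [(.a, true), (.a, true), (.b, true), (.b, true), (.b, true), (.a, true), (.a, true), (.a, true), (.b, true), (.a, true)]),
  (14134, [(.b, true), (.a, true), (.b, true), (.b, true), (.b, true), (.a, true), (.b, true), (.a, true), (.b, true)]),
  (14135, [(.b, true), (.a, true), (.a, true), (.a, true), (.b, true), (.b, true), (.a, true), (.a, true), (.a, true), (.b, true)]),
  (14139, [(.b, true), (.b, true), (.b, true), (.a, true), (.a, true), (.a, true), (.b, true), (.b, true), (.b, true), (.a, true), (.b, true), (.a, true)]),
  (14143, [(.a, true), (.b, true), (.a, true), (.a, true), (.a, true), (.b, true), (.b, true), (.a, true), (.a, true), (.b, true)]),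
  (14158, [(.b, true), (.a, true), (.a, true), (.a, true), (.b, true), (.a, true), (.b, true), (.b, true), (.b, true)]),
  (14174, [(.b, true), (.a, true), (.a, true), (.a, true), (.b, true), (.a, true), (.b, true), (.a, true), (.b, true), (.b, true)]),
  (14181, [(.b, true), (.b, true), (.a, true), (.a, true), (.b, true), (.b, true), (.b, true), (.b, true)]),
  (14182, [(.a, true), (.a, true), (.b, true), (.b, true), (.b, true), (.b, true), (.a, true), (.a, true), (.a, true), (.b, true), (.a, true), (.b, true)]),
  (14209, [(.a, true), (.b, true), (.b, true), (.b, true), (.b, true), (.b, true), (.a, true), (.b, true), (.b, true), (.b, true), (.a, true), (.b, true)]),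
  (14213, [(.a, true), (.a, true), (.a, true), (.a, true), (.a, true), (.b, true), (.b, true), (.b, true), (.b, true), (.a, true), (.a, true), (.a, true)]),
  (14218, [(.a, true), (.b, true), (.b, true), (.b, true), (.a, true), (.b, true), (.b, true), (.a, true), (.a, true), (.b, true), (.a, true)]),
  (14220, [(.b, true), (.b, true), (.b, true), (.b, true), (.b, true), (.a, true), (.b, true), (.b, true), (.a, true)]),
  (14221, [(.a, true), (.a, true), (.a, true), (.b, true), (.b, true), (.a, true), (.a, true), (.b, true), (.a, true)]),
  (14231, [(.a, true), (.a, true), (.b, true)]),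
  (14244, [(.a, true), (.b, true), (.b, true), (.a, true), (.a, true), (.a, true), (.b, true), (.b, true), (.a, true), (.a, true), (.a, true), (.a, true)]),
  (14249, [(.b, true), (.b, true), (.a, true), (.b, true), (.b, true), (.b, true), (.a, true), (.b, true), (.a, true)]),
  (14257, [(.a, true), (.a, true), (.a, true), (.a, true), (.b, true), (.b, true), (.b, true), (.b, true)]),
  (14265, [(.a, true), (.a, true), (.a, true), (.b, true), (.a, true), (.b, true), (.a, true), (.b, true), (.b, true), (.b, true), (.b, true), (.a, true)]),
  (14267, [(.a, true), (.a, true), (.b, true), (.b, true), (.b, true), (.a, true), (.a, true), (.b, true), (.a, true), (.a, true), (.a, true)]),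
  (14287, [(.a, true), (.a, true), (.b, true), (.a, true), (.b, true), (.b, true), (.a, true), (.a, true), (.a, true)]),
  (14291, [(.b, true), (.a, true), (.a, true), (.a, true), (.a, true), (.a, true), (.b, true), (.b, true), (.a, true), (.a, true), (.a, true)]),
  (14296, [(.a, true), (.a, true), (.a, true), (.b, true), (.b, true)]),
  (14297, [(.a, true), (.a, true), (.a, true), (.a, true), (.a, true), (.b, true), (.b, true), (.a, true), (.a, true), (.a, true)]),
  (14307, [(.b, true), (.b, true), (.b, true), (.b, true), (.a, true), (.b, true), (.b, true), (.a, true)]),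
  (14332, [(.b, true), (.b, true), (.b, true), (.a, true), (.b, true), (.b, true), (.a, true), (.a, true), (.b, true), (.a, true)]),
  (14333, [(.a, true), (.b, true), (.a, true), (.a, true), (.b, true), (.a, true), (.b, true), (.b, true), (.b, true)]),
  (14337, [(.b, true), (.a, true), (.b, true), (.a, true), (.b, true), (.b, true), (.a, true)]),
  (14345, [(.b, true), (.b, true), (.a, true), (.b, true), (.a, true), (.a, true), (.a, true), (.a, true)]),
  (14353, [(.a, true), (.a, true), (.a, true), (.a, true), (.a, true), (.a, true), (.b, true)]),
  (14360, [(.a, true), (.b, true), (.a, true), (.b, true), (.a, true), (.a, true), (.b, true)]),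
  (14378, [(.a, true), (.a, true), (.a, true), (.b, true), (.b, true), (.b, true), (.a, true), (.b, true), (.a, true), (.a, true)]),
  (14385, [(.a, true), (.b, true), (.a, true), (.b, true), (.a, true), (.a, true), (.a, true), (.b, true)]),
  (14386, [(.b, true), (.a, true), (.b, true), (.a, true), (.a, true), (.a, true), (.a, true), (.a, true), (.b, true), (.b, true)]),
  (14391, [(.b, true), (.a, true), (.b, true), (.b, true), (.b, true), (.a, true), (.b, true), (.b, true)]),
  (14409, [(.b, true), (.a, true), (.a, true), (.b, true), (.a, true), (.b, true), (.b, true), (.b, true), (.a, true), (.a, true), (.a, true)]),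
  (14412, [(.a, true), (.a, true), (.a, true), (.a, true), (.b, true), (.b, true), (.a, true), (.a, true), (.a, true)]),
  (14436, [(.b, true), (.a, true), (.b, true), (.a, true), (.b, true), (.b, true), (.a, true), (.b, true), (.a, true), (.b, true)]),
  (14437, [(.b, true), (.a, true), (.a, true), (.b, true), (.a, true), (.b, true), (.a, true), (.b, true), (.a, true), (.a, true), (.a, true), (.a, true)]),
  (14450, [(.b, true), (.a, true), (.b, true), (.b, true), (.b, true), (.a, true), (.b, true), (.a, true), (.a, true)]),
  (14457, [(.b, true), (.a, true), (.a, true), (.a, true), (.b, true), (.a, true), (.a, true), (.a, true), (.a, true)]),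
  (14472, [(.a, true), (.a, true), (.b, true), (.a, true), (.a, true), (.b, true), (.a, true), (.a, true), (.b, true)]),
  (14476, [(.a, true), (.b, true), (.b, true), (.b, true), (.a, true), (.a, true), (.b, true), (.a, true), (.b, true)]),
  (14487, [(.b, true), (.b, true), (.b, true), (.b, true), (.a, true), (.a, true), (.b, true), (.b, true), (.a, true), (.a, true), (.a, true)]),
  (14495, [(.b, true), (.a, true), (.a, true), (.b, true), (.b, true), (.a, true), (.b, true), (.a, true), (.a, true), (.b, true), (.a, true)]),
  (14497, [(.b, true), (.a, true), (.b, true), (.b, true), (.b, true), (.b, true), (.a, true), (.a, true), (.a, true), (.b, true)]),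
  (14501, [(.b, true), (.a, true), (.a, true), (.b, true), (.b, true), (.b, true), (.a, true), (.b, true), (.a, true), (.a, true)]),
  (14502, [(.b, true), (.a, true), (.a, true), (.b, true), (.b, true), (.a, true), (.a, true), (.a, true), (.b, true), (.a, true), (.a, true)]),
  (14517, [(.b, true), (.b, true), (.b, true), (.a, true), (.b, true), (.a, true), (.a, true), (.b, true), (.a, true), (.a, true)]),
  (14553, [(.a, true), (.b, true), (.a, true), (.b, true), (.b, true), (.a, true), (.a, true), (.a, true), (.b, true), (.a, true), (.a, true)]),
  (14573, [(.a, true), (.b, true), (.b, true), (.b, true), (.a, true), (.a, true), (.b, true), (.b, true)]),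
  (14576, [(.b, true), (.b, true), (.b, true), (.a, true), (.a, true), (.b, true), (.a, true), (.b, true), (.a, true), (.a, true), (.a, true), (.a, true)]),
  (14590, [(.b, true), (.a, true), (.a, true), (.b, true), (.a, true), (.b, true), (.b, true), (.a, true), (.b, true), (.b, true), (.a, true), (.b, true)]),
  (14596, [(.b, true), (.a, true), (.b, true), (.b, true), (.a, true), (.a, true), (.a, true), (.a, true), (.a, true)]),
  (14601, [(.b, true), (.a, true), (.b, true), (.b, true), (.b, true), (.a, true), (.b, true), (.b, true), (.b, true)]),
  (14602, [(.b, true), (.a, true), (.b, true), (.b, true), (.a, true), (.b, true), (.b, true), (.b, true), (.a, true)]),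
  (14604, [(.a, true), (.a, true), (.b, true), (.b, true), (.a, true), (.b, true), (.b, true), (.a, true), (.b, true), (.a, true), (.a, true)]),
  (14607, [(.a, true), (.b, true), (.a, true), (.a, true), (.a, true)]),
  (14615, [(.a, true), (.a, true), (.b, true), (.a, true), (.b, true), (.a, true), (.b, true), (.b, true), (.a, true), (.a, true), (.b, true)]),
  (14626, [(.a, true), (.a, true), (.a, true), (.b, true), (.a, true), (.b, true), (.a, true), (.a, true), (.b, true), (.a, true), (.a, true)]),
  (14630, [(.a, true), (.a, true), (.b, true), (.b, true), (.a, true), (.b, true)]),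
  (14631, [(.a, true), (.b, true), (.a, true), (.a, true), (.a, true), (.b, true), (.a, true), (.b, true)]),
  (14638, [(.b, true), (.b, true), (.b, true), (.b, true), (.a, true), (.b, true), (.b, true), (.b, true), (.a, true), (.b, true), (.a, true)]),
  (14639, [(.b, true), (.b, true), (.a, true), (.a, true), (.b, true), (.b, true), (.b, true), (.a, true), (.b, true), (.a, true), (.a, true), (.a, true), (.a, true)]),
  (14640, [(.b, true), (.a, true), (.b, true), (.b, true), (.b, true), (.a, true), (.a, true)]),
  (14646, [(.a, true), (.a, true), (.a, true), (.b, true), (.b, true), (.a, true), (.a, true), (.b, true), (.a, true), (.a, true), (.b, true)]),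
  (14647, [(.b, true), (.a, true), (.b, true), (.a, true), (.b, true), (.a, true), (.b, true)]),
  (14648, [(.b, true), (.b, true), (.a, true), (.b, true), (.b, true), (.a, true), (.b, true), (.a, true), (.b, true), (.a, true)]),
  (14668, [(.b, true), (.a, true), (.b, true), (.b, true), (.a, true), (.b, true), (.b, true), (.a, true), (.b, true), (.a, true)]),
  (14684, [(.b, true), (.a, true), (.b, true), (.a, true), (.b, true), (.b, true), (.b, true), (.b, true), (.a, true), (.a, true)]),
  (14689, [(.b, true), (.a, true), (.b, true), (.b, true), (.b, true), (.b, true), (.a, true), (.a, true), (.b, true), (.a, true), (.a, true), (.a, true), (.a, true)]),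
  (14700, [(.a, true), (.b, true), (.b, true), (.b, true), (.a, true), (.b, true), (.a, true), (.a, true), (.a, true), (.a, true)]),
  (14706, [(.a, true), (.b, true), (.b, true), (.b, true), (.a, true), (.a, true), (.b, true), (.b, true), (.b, true)]),
  (14710, [(.b, true), (.b, true), (.a, true), (.a, true), (.b, true), (.a, true), (.b, true), (.a, true), (.b, true), (.a, true), (.a, true), (.a, true), (.a, true)]),
  (14720, [(.a, true), (.a, true), (.a, true), (.a, true), (.b, true), (.a, true), (.b, true), (.b, true)]),
  (14751, [(.b, true), (.b, true), (.a, true), (.b, true), (.a, true), (.b, true), (.b, true), (.a, true), (.b, true)]),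
  (14756, [(.a, true), (.a, true), (.a, true), (.a, true), (.a, true), (.b, true), (.b, true), (.a, true), (.a, true), (.a, true), (.a, true)]),
  (14759, [(.b, true), (.b, true), (.a, true), (.b, true), (.a, true), (.a, true), (.b, true), (.a, true)]),
  (14784, [(.b, true), (.b, true), (.a, true), (.b, true), (.a, true), (.b, true), (.a, true), (.b, true), (.a, true), (.b, true), (.a, true)]),
  (14811, [(.b, true), (.a, true), (.a, true), (.a, true), (.b, true), (.b, true), (.b, true), (.b, true)]),
  (14829, [(.b, true), (.b, true), (.b, true), (.a, true), (.b, true), (.a, true), (.a, true), (.a, true), (.a, true), (.a, true)]),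
  (14834, [(.a, true), (.b, true), (.a, true), (.a, true), (.a, true), (.a, true)]),
  (14846, [(.a, true), (.b, true), (.a, true), (.a, true), (.b, true), (.a, true), (.b, true), (.a, true), (.b, true), (.a, true), (.a, true)]),
  (14859, [(.b, true), (.b, true), (.b, true), (.a, true), (.a, true), (.b, true), (.b, true), (.a, true)]),
  (14868, [(.b, true), (.a, true), (.b, true), (.b, true), (.b, true), (.a, true), (.b, true), (.a, true), (.b, true), (.a, true), (.b, true)]),
  (14874, [(.a, true), (.a, true), (.a, true), (.b, true), (.a, true), (.b, true), (.a, true), (.b, true)]),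
  (14885, [(.a, true), (.a, true), (.b, true), (.b, true), (.a, true), (.a, true), (.b, true), (.a, true), (.a, true), (.a, true)]),
  (14906, [(.a, true), (.b, true), (.b, true), (.a, true), (.b, true), (.b, true)]),
  (14960, [(.a, true), (.b, true), (.a, true), (.a, true), (.b, true), (.b, true), (.a, true), (.a, true), (.b, true), (.a, true)]),
  (14964, [(.a, true), (.a, true), (.a, true), (.a, true), (.a, true), (.a, true), (.b, true), (.b, true), (.a, true), (.a, true), (.a, true)]),
  (14978, [(.b, true), (.a, true), (.b, true), (.a, true), (.a, true), (.b, true), (.a, true), (.a, true), (.b, true), (.a, true)]),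
  (14983, [(.a, true), (.a, true), (.b, true), (.a, true), (.b, true), (.a, true), (.a, true), (.a, true)]),
  (14998, [(.b, true), (.b, true), (.a, true), (.a, true), (.b, true), (.b, true), (.a, true)]),
  (15005, [(.a, true), (.a, true), (.a, true), (.b, true), (.b, true), (.a, true), (.b, true), (.a, true), (.a, true)]),
  (15011, [(.a, true), (.b, true), (.a, true), (.b, true), (.a, true), (.b, true), (.b, true), (.b, true), (.b, true), (.a, true), (.a, true)]),
  (15021, [(.a, true), (.b, true), (.b, true), (.a, true), (.b, true), (.a, true), (.b, true), (.a, true), (.b, true), (.a, true), (.b, true)]),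
  (15041, [(.b, true), (.a, true), (.b, true), (.b, true), (.b, true), (.a, true), (.a, true), (.a, true), (.b, true)]),
  (15042, [(.a, true), (.a, true), (.a, true), (.a, true), (.a, true), (.b, true), (.a, true), (.a, true)]),
  (15053, [(.a, true), (.b, true), (.b, true), (.a, true), (.b, true), (.b, true), (.a, true), (.a, true), (.b, true), (.a, true), (.a, true)]),
  (15059, [(.a, true), (.a, true), (.a, true), (.a, true), (.a, true), (.b, true), (.b, true), (.b, true)]),
  (15064, [(.b, true), (.b, true), (.b, true), (.b, true), (.a, true), (.b, true), (.a, true), (.b, true), (.b, true), (.b, true), (.b, true)]),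
  (15082, [(.b, true), (.a, true), (.b, true), (.b, true), (.a, true), (.a, true), (.a, true), (.b, true), (.b, true), (.a, true)]),
  (15102, [(.a, true), (.b, true), (.b, true), (.b, true), (.b, true), (.b, true), (.a, true), (.b, true), (.b, true), (.b, true), (.b, true)]),
  (15113, [(.a, true), (.b, true), (.a, true), (.b, true), (.b, true), (.a, true), (.a, true), (.a, true), (.b, true)]),
  (15115, [(.a, true), (.a, true), (.b, true), (.b, true), (.b, true), (.a, true), (.a, true), (.b, true), (.b, true), (.b, true)]),
  (15122, [(.a, true), (.b, true), (.a, true), (.b, true), (.a, true), (.a, true), (.a, true), (.b, true), (.a, true), (.a, true)]),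
  (15129, [(.b, true), (.a, true), (.b, true), (.b, true), (.a, true), (.b, true), (.b, true), (.b, true), (.a, true), (.b, true), (.a, true)]),
  (15144, [(.b, true), (.b, true), (.b, true), (.a, true), (.b, true), (.b, true), (.a, true), (.a, true), (.a, true), (.a, true), (.a, true), (.b, true)]),
  (15156, [(.a, true), (.a, true), (.a, true), (.a, true), (.b, true), (.b, true), (.b, true), (.a, true), (.a, true), (.b, true), (.b, true)]),
  (15165, [(.b, true), (.a, true), (.a, true), (.a, true), (.a, true), (.a, true), (.a, true), (.b, true), (.b, true)]),
  (15166, [(.b, true), (.b, true), (.a, true), (.b, true), (.b, true), (.b, true), (.a, true), (.a, true), (.a, true), (.a, true)]),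
  (15209, [(.b, true), (.b, true), (.b, true), (.a, true), (.b, true), (.b, true), (.b, true), (.a, true)]),
  (15221, [(.a, true), (.a, true), (.b, true), (.b, true), (.b, true), (.a, true), (.a, true), (.b, true), (.a, true), (.b, true), (.a, true)]),
  (15231, [(.a, true), (.b, true), (.a, true), (.a, true), (.b, true), (.a, true), (.b, true)]),
  (15242, [(.a, true), (.b, true), (.b, true), (.a, true), (.a, true), (.b, true), (.a, true), (.a, true), (.b, true), (.a, true)]),
  (15247, [(.b, true), (.b, true), (.a, true), (.b, true), (.a, true), (.b, true), (.b, true), (.a, true), (.a, true)]),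
  (15249, [(.b, true), (.b, true), (.b, true), (.a, true), (.b, true), (.b, true), (.a, true), (.b, true), (.b, true), (.b, true), (.a, true)]),
  (15253, [(.b, true), (.a, true), (.b, true), (.a, true), (.b, true), (.a, true), (.b, true), (.b, true), (.b, true), (.a, true)]),
  (15256, [(.a, true), (.a, true), (.b, true), (.b, true), (.b, true), (.a, true), (.b, true), (.b, true), (.b, true), (.a, true), (.a, true)]),
  (15270, [(.a, true), (.a, true), (.a, true)]),
  (15292, [(.b, true), (.a, true), (.a, true), (.b, true), (.a, true), (.a, true), (.a, true), (.a, true), (.a, true)]),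
  (15294, [(.a, true), (.b, true), (.a, true), (.a, true), (.b, true), (.a, true), (.b, true), (.a, true), (.b, true), (.a, true)]),
  (15299, [(.a, true), (.b, true), (.a, true), (.a, true), (.b, true), (.b, true), (.a, true), (.a, true), (.a, true), (.a, true)]),
  (15328, [(.a, true), (.b, true), (.a, true), (.b, true), (.b, true), (.a, true), (.a, true), (.b, true)]),
  (15334, [(.a, true), (.a, true), (.b, true), (.a, true), (.b, true), (.a, true), (.a, true), (.b, true), (.a, true), (.b, true)]),
  (15337, [(.a, true), (.b, true), (.a, true), (.b, true), (.a, true), (.b, true), (.a, true), (.b, true), (.a, true)]),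
  (15360, [(.b, true), (.b, true), (.b, true), (.a, true), (.a, true), (.a, true), (.b, true), (.a, true), (.a, true)]),
  (15376, [(.b, true), (.b, true), (.a, true), (.b, true), (.a, true), (.b, true), (.a, true), (.b, true), (.a, true), (.a, true)]),
  (15390, [(.a, true), (.a, true), (.b, true), (.b, true), (.a, true), (.a, true), (.a, true), (.b, true), (.b, true)]),
  (15395, [(.b, true), (.b, true), (.a, true), (.a, true), (.a, true)]),
  (15407, [(.b, true), (.a, true), (.b, true), (.a, true), (.a, true), (.b, true), (.b, true), (.b, true), (.a, true), (.a, true), (.a, true)]),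
  (15424, [(.a, true), (.b, true), (.b, true), (.a, true), (.b, true), (.b, true), (.a, true), (.a, true), (.a, true)]),
  (15438, [(.a, true), (.b, true), (.a, true), (.a, true), (.a, true), (.b, true), (.b, true), (.b, true), (.b, true), (.b, true), (.a, true)]),
  (15468, [(.a, true), (.b, true), (.b, true), (.b, true), (.a, true), (.a, true), (.b, true), (.b, true), (.a, true), (.b, true), (.a, true), (.a, true)]),
  (15476, [(.b, true), (.b, true), (.b, true), (.b, true), (.b, true), (.a, true), (.a, true), (.b, true), (.a, true), (.b, true)]),
  (15496, [(.b, true), (.b, true), (.b, true), (.a, true), (.a, true), (.b, true), (.b, true), (.b, true), (.a, true), (.a, true), (.a, true)]),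
  (15501, [(.a, true), (.a, true), (.a, true), (.a, true), (.a, true), (.a, true), (.b, true), (.b, true), (.b, true), (.a, true), (.a, true)]),
  (15516, [(.a, true), (.b, true), (.a, true), (.b, true), (.b, true), (.b, true), (.a, true), (.b, true), (.a, true)]),
  (15538, [(.a, true), (.a, true), (.b, true), (.b, true), (.a, true), (.a, true), (.a, true), (.b, true), (.b, true), (.a, true), (.a, true), (.a, true)]),
  (15542, [(.a, true), (.b, true), (.a, true), (.b, true), (.a, true), (.b, true), (.b, true), (.b, true)]),
  (15547, [(.b, true), (.a, true), (.a, true), (.a, true), (.b, true), (.a, true), (.a, true), (.a, true)]),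
  (15550, [(.b, true), (.b, true), (.a, true), (.b, true), (.a, true), (.b, true)]),
  (15551, [(.b, true), (.b, true), (.a, true), (.a, true), (.b, true), (.a, true), (.b, true), (.a, true), (.a, true), (.b, true), (.a, true), (.a, true)]),
  (15558, [(.a, true), (.b, true), (.a, true), (.b, true), (.a, true), (.b, true), (.a, true), (.a, true), (.a, true), (.a, true)]),
  (15578, [(.b, true), (.a, true), (.b, true), (.b, true), (.b, true), (.b, true)]),
  (15591, [(.b, true), (.b, true), (.b, true), (.b, true), (.a, true), (.b, true), (.a, true)]),
  (15605, [(.b, true), (.a, true), (.a, true), (.a, true), (.b, true), (.b, true), (.b, true), (.b, true), (.b, true), (.a, true), (.a, true)]),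
  (15625, [(.a, true), (.b, true), (.a, true), (.b, true), (.b, true), (.b, true), (.a, true), (.b, true), (.b, true), (.b, true), (.a, true)]),
  (15657, [(.a, true), (.a, true), (.a, true), (.b, true), (.b, true), (.b, true), (.b, true), (.b, true)]),
  (15659, [(.b, true), (.b, true), (.b, true), (.a, true), (.a, true), (.b, true), (.a, true), (.b, true), (.a, true), (.b, true), (.b, true), (.a, true), (.a, true)]),
  (15662, [(.a, true), (.a, true), (.b, true), (.a, true), (.b, true), (.b, true), (.b, true), (.a, true), (.a, true)]),
  (15679, [(.a, true), (.b, true), (.a, true), (.b, true), (.a, true), (.b, true), (.a, true), (.a, true), (.a, true)]),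
  (15684, [(.a, true), (.a, true), (.b, true), (.b, true), (.a, true), (.b, true), (.b, true), (.b, true), (.b, true), (.a, true)]),
  (15705, [(.b, true), (.b, true), (.a, true), (.a, true), (.b, true), (.a, true), (.b, true), (.a, true), (.b, true), (.b, true)]),
  (15713, [(.a, true), (.b, true), (.a, true), (.a, true), (.b, true), (.b, true), (.a, true), (.b, true), (.b, true), (.b, true)]),
  (15723, [(.b, true), (.a, true), (.a, true), (.b, true), (.a, true), (.b, true), (.b, true), (.a, true), (.b, true), (.b, true), (.a, true)]),
  (15728, [(.a, true), (.a, true), (.a, true), (.b, true), (.a, true), (.b, true), (.a, true), (.a, true), (.a, true), (.b, true), (.a, true)]),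
  (15745, [(.a, true), (.a, true), (.b, true), (.b, true), (.b, true), (.a, true), (.a, true), (.a, true)]),
  (15753, [(.a, true), (.a, true), (.a, true), (.b, true)]),
  (15759, [(.a, true), (.a, true), (.b, true), (.b, true), (.a, true), (.b, true), (.a, true)]),
  (15768, [(.b, true), (.a, true), (.a, true), (.a, true), (.a, true), (.a, true), (.a, true), (.a, true), (.b, true)]),
  (15780, [(.b, true), (.a, true), (.a, true), (.a, true), (.b, true), (.a, true), (.b, true), (.b, true), (.a, true), (.a, true)]),
  (15797, [(.a, true), (.a, true), (.b, true), (.b, true), (.a, true), (.b, true), (.b, true), (.a, true), (.a, true), (.a, true), (.a, true)]),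
  (15803, [(.b, true), (.a, true), (.b, true), (.b, true), (.b, true), (.a, true), (.b, true), (.b, true), (.b, true), (.b, true)]),
  (15805, [(.b, true), (.a, true), (.a, true), (.b, true), (.b, true), (.b, true), (.a, true), (.a, true), (.b, true), (.b, true), (.a, true)]),
  (15838, [(.b, true), (.b, true), (.a, true), (.b, true), (.b, true), (.b, true), (.a, true), (.b, true), (.a, true), (.b, true), (.a, true), (.a, true)]),
  (15843, [(.b, true), (.a, true), (.b, true), (.b, true), (.b, true), (.a, true), (.a, true), (.b, true), (.b, true), (.a, true), (.a, true)]),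
  (15858, [(.b, true), (.a, true), (.a, true), (.a, true), (.b, true), (.b, true), (.a, true)]),
  (15865, [(.a, true), (.b, true), (.a, true), (.b, true), (.a, true), (.a, true)]),
  (15873, [(.a, true), (.a, true), (.a, true), (.b, true), (.a, true), (.b, true)]),
  (15875, [(.a, true), (.b, true), (.b, true), (.a, true), (.b, true), (.b, true), (.a, true), (.a, true), (.b, true)]),
  (15886, [(.b, true), (.b, true), (.b, true), (.b, true), (.b, true), (.a, true), (.a, true), (.a, true), (.a, true), (.a, true), (.b, true)]),
  (15895, [(.a, true), (.b, true), (.b, true), (.a, true), (.a, true), (.a, true), (.b, true), (.a, true), (.a, true)]),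
  (15901, [(.a, true), (.a, true), (.b, true), (.a, true), (.b, true), (.b, true), (.a, true), (.a, true)]),
  (15936, [(.a, true), (.a, true), (.a, true), (.a, true), (.b, true), (.a, true), (.b, true), (.b, true), (.a, true)]),
  (15942, [(.a, true), (.b, true), (.a, true), (.b, true), (.a, true), (.a, true), (.a, true), (.a, true), (.a, true)]),
  (15979, [(.b, true), (.a, true), (.a, true), (.b, true), (.b, true), (.b, true), (.b, true), (.b, true), (.a, true), (.b, true), (.a, true)]),
  (15989, [(.a, true), (.b, true), (.b, true), (.a, true), (.b, true), (.a, true), (.b, true), (.a, true), (.a, true)]),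
  (15992, [(.a, true), (.b, true), (.b, true), (.a, true), (.a, true), (.b, true), (.a, true)]),
  (16000, [(.a, true), (.a, true), (.a, true), (.a, true), (.a, true), (.a, true), (.a, true), (.b, true)]),
  (16004, [(.a, true), (.b, true), (.a, true), (.a, true), (.a, true), (.b, true), (.a, true), (.b, true), (.b, true)]),
  (16006, [(.b, true), (.b, true), (.b, true), (.a, true), (.b, true), (.b, true), (.a, true), (.b, true), (.b, true), (.a, true), (.a, true), (.a, true)]),
  (16007, [(.a, true), (.a, true), (.a, true), (.b, true), (.b, true), (.a, true), (.b, true)]),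
  (16008, [(.b, true), (.b, true), (.b, true), (.b, true), (.a, true), (.a, true), (.a, true), (.b, true), (.a, true), (.a, true)]),
  (16012, [(.b, true), (.a, true), (.b, true), (.b, true), (.b, true), (.a, true), (.b, true), (.a, true), (.b, true), (.b, true)]),
  (16041, [(.b, true), (.b, true), (.a, true), (.a, true), (.b, true), (.b, true), (.a, true), (.b, true), (.b, true), (.a, true)]),
  (16052, [(.b, true), (.a, true), (.b, true), (.a, true), (.b, true), (.a, true), (.a, true), (.b, true), (.b, true)]),
  (16065, [(.b, true), (.b, true), (.a, true), (.a, true), (.a, true), (.b, true), (.b, true), (.a, true)]),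
  (16105, [(.b, true), (.b, true), (.b, true), (.b, true), (.b, true), (.a, true), (.b, true)]),
  (16116, [(.b, true), (.b, true), (.a, true), (.b, true), (.b, true), (.a, true), (.b, true), (.b, true), (.b, true), (.a, true)]),
  (16142, [(.b, true), (.b, true), (.a, true), (.b, true), (.a, true), (.a, true), (.a, true), (.a, true), (.a, true), (.b, true)]),
  (16162, [(.b, true), (.b, true), (.b, true), (.b, true), (.b, true), (.a, true), (.a, true), (.b, true), (.b, true)]),
  (16187, [(.b, true), (.a, true), (.a, true), (.b, true), (.a, true), (.b, true), (.b, true), (.b, true), (.b, true), (.a, true), (.a, true), (.a, true)]),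
  (16191, [(.a, true), (.b, true), (.a, true), (.b, true), (.b, true), (.a, true), (.a, true), (.b, true), (.a, true), (.a, true)]),
  (16199, [(.a, true), (.a, true), (.a, true), (.a, true), (.a, true), (.a, true), (.a, true), (.b, true), (.b, true), (.a, true)]),
  (16219, [(.b, true), (.b, true), (.b, true), (.a, true), (.b, true), (.b, true), (.b, true), (.a, true), (.b, true), (.b, true), (.a, true)]),
  (16231, [(.a, true), (.a, true), (.a, true), (.a, true), (.b, true), (.a, true), (.b, true), (.a, true)]),
  (16235, [(.b, true), (.a, true), (.a, true), (.b, true), (.b, true), (.b, true), (.a, true), (.a, true), (.b, true)]),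
  (16247, [(.a, true), (.b, true), (.a, true), (.a, true), (.a, true), (.b, true), (.b, true), (.b, true), (.a, true)]),
  (16256, [(.b, true), (.a, true), (.a, true), (.b, true), (.b, true), (.a, true), (.a, true), (.b, true), (.a, true)]),
  (16281, [(.b, true), (.a, true), (.b, true), (.b, true), (.b, true), (.b, true), (.a, true), (.a, true), (.a, true)]),
  (16282, [(.b, true), (.b, true), (.a, true), (.a, true), (.b, true), (.a, true), (.a, true)]),
  (16334, [(.a, true), (.a, true), (.b, true), (.b, true), (.a, true), (.a, true), (.a, true)]),
  (16340, [(.b, true), (.b, true), (.b, true), (.b, true), (.b, true), (.a, true), (.a, true), (.b, true), (.a, true)]),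
  (16363, [(.b, true), (.b, true), (.b, true), (.a, true), (.a, true), (.b, true), (.a, true), (.b, true), (.a, true), (.b, true), (.b, true)]),
  (16376, [(.b, true), (.b, true), (.a, true), (.b, true), (.b, true), (.a, true), (.b, true), (.b, true), (.b, true)]),
  (16378, [(.a, true), (.a, true), (.a, true), (.a, true), (.b, true), (.b, true), (.a, true), (.b, true), (.a, true)]),
  (16381, [(.b, true), (.b, true), (.b, true), (.b, true), (.a, true), (.a, true), (.b, true), (.a, true)]),
  (16386, [(.b, true), (.a, true), (.b, true), (.b, true), (.a, true), (.b, true), (.b, true), (.b, true), (.a, true), (.a, true), (.a, true), (.b, true)]),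
  (16393, [(.a, true), (.b, true), (.b, true), (.b, true), (.a, true), (.a, true), (.a, true), (.b, true), (.a, true), (.a, true), (.a, true)]),
  (16395, [(.a, true), (.b, true), (.a, true), (.a, true), (.a, true), (.b, true), (.b, true), (.b, true), (.b, true), (.a, true), (.a, true), (.a, true)]),
  (16406, [(.a, true), (.b, true), (.b, true), (.b, true), (.a, true)]),
  (16428, [(.b, true), (.a, true), (.b, true), (.a, true), (.b, true), (.a, true), (.a, true), (.a, true), (.a, true), (.a, true)]),
  (16444, [(.a, true), (.b, true), (.b, true), (.a, true), (.a, true), (.b, true), (.a, true), (.a, true)]),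
  (16450, [(.b, true), (.a, true), (.b, true), (.a, true), (.a, true), (.b, true)]),
  (16455, [(.b, true), (.b, true), (.a, true), (.a, true), (.b, true), (.a, true), (.a, true), (.b, true)]),
  (16472, [(.b, true), (.a, true), (.a, true), (.b, true), (.a, true), (.b, true), (.a, true), (.b, true), (.a, true), (.a, true)]),
  (16502, [(.a, true), (.a, true), (.a, true), (.a, true), (.b, true), (.b, true), (.b, true)]),
  (16513, [(.b, true), (.a, true), (.a, true), (.b, true), (.a, true), (.b, true), (.b, true), (.a, true), (.b, true), (.b, true)]),
  (16516, [(.b, true), (.a, true), (.a, true), (.b, true), (.b, true), (.a, true), (.a, true), (.a, true)]),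
  (16528, [(.a, true), (.a, true), (.b, true), (.a, true), (.b, true), (.a, true), (.b, true), (.b, true), (.a, true)]),
  (16534, [(.a, true), (.a, true), (.a, true), (.a, true), (.a, true), (.a, true), (.a, true), (.b, true), (.b, true), (.b, true), (.b, true)]),
  (16540, [(.a, true), (.b, true), (.b, true), (.a, true), (.a, true), (.a, true), (.a, true), (.a, true)]),
  (16542, [(.b, true), (.a, true), (.b, true), (.b, true), (.a, true), (.a, true), (.b, true), (.a, true), (.a, true), (.a, true), (.a, true)]),
  (16551, [(.b, true), (.b, true), (.a, true), (.b, true), (.b, true), (.b, true), (.a, true), (.b, true), (.a, true), (.b, true), (.b, true)]),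
  (16554, [(.b, true), (.a, true), (.a, true), (.b, true), (.b, true), (.b, true), (.a, true), (.b, true), (.b, true), (.a, true), (.b, true), (.b, true)]),
  (16564, [(.a, true), (.b, true), (.b, true), (.a, true), (.a, true), (.b, true), (.a, true), (.b, true), (.a, true), (.b, true), (.b, true), (.a, true)]),
  (16568, [(.b, true), (.b, true), (.b, true), (.a, true), (.b, true), (.b, true), (.b, true), (.a, true), (.b, true)]),
  (16581, [(.b, true), (.a, true), (.a, true), (.b, true), (.b, true), (.a, true), (.a, true), (.b, true), (.a, true), (.a, true)]),
  (16587, [(.b, true), (.a, true), (.a, true), (.b, true), (.b, true), (.b, true), (.b, true), (.a, true), (.a, true), (.a, true), (.a, true)]),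
  (16599, [(.b, true), (.b, true), (.b, true), (.b, true), (.b, true), (.a, true), (.a, true), (.b, true)]),
  (16603, [(.a, true), (.a, true), (.b, true), (.b, true), (.b, true), (.b, true), (.b, true), (.a, true), (.a, true), (.b, true), (.b, true), (.a, true)]),
  (16606, [(.b, true), (.a, true), (.b, true), (.b, true), (.a, true), (.b, true), (.a, true), (.b, true), (.b, true), (.b, true)]),
  (16607, [(.a, true), (.a, true), (.b, true), (.b, true), (.b, true), (.a, true), (.a, true), (.a, true), (.b, true), (.a, true), (.a, true)]),
  (16616, [(.b, true), (.a, true), (.a, true), (.b, true), (.a, true), (.b, true), (.a, true), (.b, true), (.a, true), (.b, true), (.a, true)]),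
  (16630, [(.b, true), (.b, true), (.a, true), (.b, true), (.b, true), (.a, true), (.b, true), (.b, true), (.b, true), (.b, true)]),
  (16641, [(.b, true), (.a, true), (.b, true), (.b, true), (.b, true)]),
  (16642, [(.a, true), (.b, true), (.a, true), (.b, true), (.a, true), (.a, true), (.b, true), (.b, true), (.b, true)]),
  (16647, [(.b, true), (.a, true), (.b, true), (.a, true), (.b, true), (.b, true), (.a, true), (.a, true), (.b, true)]),
  (16651, [(.b, true), (.a, true), (.a, true), (.b, true), (.b, true), (.a, true), (.b, true), (.a, true), (.a, true)]),
  (16665, [(.b, true), (.a, true), (.a, true), (.a, true)]),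
  (16669, [(.b, true), (.a, true), (.a, true), (.b, true), (.b, true), (.a, true), (.a, true), (.a, true), (.b, true), (.b, true), (.a, true), (.a, true), (.a, true)]),
  (16670, [(.b, true), (.b, true), (.a, true), (.b, true), (.a, true), (.a, true), (.b, true), (.a, true), (.a, true)]),
  (16678, [(.b, true), (.a, true), (.b, true), (.a, true), (.b, true), (.a, true), (.b, true), (.b, true), (.a, true), (.a, true)]),
  (16686, [(.b, true), (.b, true), (.a, true), (.a, true), (.b, true), (.b, true), (.b, true), (.b, true), (.a, true), (.b, true), (.a, true), (.b, true), (.a, true)]),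
  (16700, [(.a, true), (.a, true), (.b, true), (.b, true), (.a, true), (.a, true), (.a, true), (.b, true)]),
  (16720, [(.b, true), (.b, true), (.b, true), (.a, true), (.b, true), (.a, true), (.a, true), (.a, true), (.a, true), (.a, true), (.a, true)]),
  (16745, [(.a, true), (.b, true), (.b, true), (.a, true), (.b, true), (.a, true), (.b, true), (.b, true), (.a, true)]),
  (16755, [(.b, true), (.b, true), (.a, true), (.a, true), (.a, true), (.b, true), (.b, true), (.a, true), (.a, true), (.a, true)]),
  (16764, [(.a, true), (.b, true), (.a, true), (.a, true), (.b, true), (.a, true), (.a, true), (.a, true), (.a, true)]),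
  (16768, [(.b, true), (.b, true), (.b, true), (.b, true), (.b, true), (.a, true), (.a, true), (.a, true), (.b, true), (.a, true), (.b, true)]),
  (16774, [(.a, true), (.b, true), (.b, true), (.a, true), (.b, true), (.b, true), (.a, true), (.a, true), (.b, true), (.a, true), (.b, true)]),
  (16775, [(.b, true), (.a, true), (.b, true), (.b, true), (.b, true), (.b, true), (.a, true), (.a, true)]),
  (16781, [(.b, true), (.a, true), (.a, true), (.b, true), (.b, true)]),
  (16784, [(.b, true), (.a, true), (.b, true), (.a, true), (.b, true), (.a, true), (.b, true), (.a, true), (.b, true), (.a, true), (.b, true)]),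
  (16786, [(.a, true), (.a, true), (.a, true), (.b, true), (.b, true), (.b, true), (.b, true), (.a, true), (.a, true), (.a, true), (.a, true), (.a, true)]),
  (16794, [(.b, true), (.b, true), (.a, true), (.b, true), (.a, true), (.b, true), (.a, true), (.b, true), (.b, true), (.b, true), (.a, true)]),
  (16805, [(.b, true), (.a, true), (.b, true), (.a, true), (.b, true), (.a, true), (.a, true), (.b, true), (.a, true), (.b, true)]),
  (16812, [(.b, true), (.b, true), (.b, true), (.a, true), (.b, true), (.b, true)]),
  (16813, [(.a, true), (.b, true), (.a, true), (.b, true), (.b, true), (.b, true), (.a, true), (.b, true), (.a, true), (.a, true), (.a, true)]),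
  (16819, [(.b, true), (.b, true), (.b, true), (.a, true), (.a, true), (.b, true), (.a, true), (.b, true)]),
  (16839, [(.a, true), (.b, true), (.b, true), (.a, true), (.a, true), (.a, true), (.b, true), (.b, true), (.a, true), (.a, true), (.a, true), (.b, true)]),
  (16844, [(.a, true), (.b, true), (.a, true), (.a, true), (.a, true), (.b, true), (.a, true), (.b, true), (.b, true), (.a, true), (.b, true), (.a, true)]),
  (16848, [(.a, true), (.a, true), (.a, true), (.a, true), (.b, true), (.a, true), (.b, true), (.a, true), (.b, true), (.b, true)]),
  (16866, [(.b, true), (.a, true), (.b, true), (.b, true), (.a, true), (.a, true), (.a, true), (.b, true)]),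
  (16871, [(.b, true), (.a, true), (.b, true), (.b, true), (.b, true), (.a, true), (.b, true), (.a, true), (.a, true), (.a, true), (.a, true), (.a, true)]),
  (16872, [(.b, true), (.b, true), (.b, true), (.a, true), (.b, true), (.b, true), (.b, true), (.a, true), (.a, true), (.a, true), (.a, true)]),
  (16873, [(.a, true), (.b, true), (.a, true), (.a, true), (.b, true), (.b, true), (.a, true), (.b, true)]),
  (16904, [(.a, true), (.b, true), (.a, true), (.a, true), (.b, true), (.a, true), (.b, true), (.b, true), (.a, true), (.a, true)]),
  (16908, [(.a, true), (.b, true), (.a, true), (.b, true), (.a, true), (.a, true), (.b, true), (.a, true)]),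
  (16911, [(.b, true), (.b, true), (.b, true), (.a, true), (.b, true), (.b, true), (.a, true), (.b, true)]),
  (16912, [(.a, true), (.a, true), (.b, true), (.b, true), (.b, true), (.a, true), (.a, true), (.a, true), (.b, true)]),
  (16920, [(.a, true), (.b, true), (.b, true), (.b, true), (.a, true), (.b, true), (.b, true), (.a, true), (.a, true)]),
  (16924, [(.b, true), (.b, true), (.a, true), (.b, true), (.b, true), (.b, true), (.a, true), (.a, true), (.b, true), (.a, true), (.b, true)]),
  (16925, [(.a, true), (.a, true), (.a, true), (.b, true), (.a, true), (.b, true), (.a, true), (.a, true), (.b, true)]),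
  (16926, [(.a, true), (.a, true), (.a, true), (.a, true), (.b, true), (.b, true), (.b, true), (.a, true), (.a, true), (.b, true), (.a, true)]),
  (16940, [(.a, true), (.b, true), (.b, true), (.a, true), (.b, true), (.a, true), (.b, true), (.a, true), (.b, true), (.b, true)]),
  (16964, [(.a, true), (.a, true), (.b, true), (.a, true), (.b, true), (.a, true), (.b, true), (.b, true), (.b, true), (.a, true), (.a, true), (.a, true)]),
  (16973, [(.a, true), (.b, true), (.a, true), (.a, true), (.b, true), (.a, true), (.a, true), (.a, true), (.a, true), (.a, true)]),
  (16980, [(.b, true), (.a, true), (.a, true), (.a, true), (.b, true), (.a, true), (.b, true), (.b, true), (.a, true), (.b, true)]),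
  (16983, [(.b, true), (.b, true), (.b, true), (.a, true), (.b, true), (.a, true), (.b, true), (.a, true), (.a, true), (.a, true), (.a, true), (.a, true)]),
  (17002, [(.b, true), (.a, true), (.b, true)]),
  (17004, [(.a, true), (.a, true), (.a, true), (.b, true), (.a, true), (.b, true), (.a, true), (.a, true), (.b, true), (.a, true)]),
  (17014, [(.a, true), (.a, true), (.b, true), (.a, true), (.b, true), (.b, true)]),
  (17018, [(.a, true), (.b, true), (.a, true), (.a, true), (.a, true), (.b, true), (.b, true), (.b, true), (.b, true), (.b, true), (.a, true), (.a, true)]),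
  (17024, [(.b, true), (.b, true), (.a, true), (.a, true), (.a, true), (.b, true), (.b, true), (.b, true), (.a, true)]),
  (17033, [(.a, true), (.b, true), (.b, true), (.b, true), (.a, true), (.a, true), (.b, true), (.b, true), (.b, true), (.a, true)]),
  (17041, [(.b, true), (.b, true), (.b, true), (.a, true), (.a, true), (.a, true), (.b, true), (.b, true), (.b, true)]),
  (17046, [(.b, true), (.a, true), (.a, true), (.b, true), (.b, true), (.b, true), (.b, true), (.b, true), (.a, true), (.b, true)]),
  (17049, [(.a, true), (.b, true), (.b, true), (.b, true), (.b, true), (.a, true), (.b, true), (.a, true), (.b, true)]),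
  (17061, [(.b, true), (.a, true), (.b, true), (.a, true), (.b, true), (.b, true), (.b, true), (.b, true), (.a, true)]),
  (17064, [(.a, true), (.a, true), (.b, true), (.a, true), (.a, true), (.a, true), (.a, true), (.a, true), (.a, true), (.b, true)]),
  (17072, [(.a, true), (.a, true), (.a, true), (.b, true), (.b, true), (.a, true), (.a, true), (.b, true), (.a, true), (.a, true), (.b, true), (.b, true)]),
  (17094, [(.a, true), (.a, true), (.a, true), (.b, true), (.b, true), (.b, true), (.b, true), (.a, true), (.b, true), (.b, true), (.a, true)]),
  (17095, [(.b, true), (.a, true), (.b, true), (.b, true), (.a, true), (.b, true), (.b, true), (.a, true)]),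
  (17105, [(.b, true), (.b, true), (.a, true), (.b, true), (.b, true), (.b, true), (.a, true), (.b, true), (.b, true), (.a, true)]),
  (17109, [(.b, true), (.b, true), (.b, true), (.a, true), (.a, true), (.a, true), (.b, true), (.b, true), (.a, true), (.a, true), (.a, true), (.a, true), (.a, true)]),
  (17113, [(.b, true), (.a, true), (.a, true), (.b, true), (.a, true), (.b, true), (.b, true)]),
  (17125, [(.a, true), (.b, true), (.a, true), (.a, true), (.a, true), (.b, true), (.b, true), (.b, true), (.a, true), (.a, true), (.a, true)]),
  (17129, [(.a, true), (.a, true), (.a, true), (.b, true), (.a, true), (.b, true), (.a, true), (.a, true), (.a, true), (.a, true), (.a, true)]),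
  (17130, [(.b, true), (.a, true), (.b, true), (.a, true), (.b, true), (.b, true), (.b, true), (.a, true), (.a, true), (.a, true)]),
  (17139, [(.a, true), (.a, true), (.b, true), (.a, true), (.b, true), (.b, true), (.a, true), (.b, true), (.b, true), (.a, true)]),
  (17150, [(.b, true), (.a, true), (.a, true), (.a, true), (.b, true), (.a, true), (.a, true), (.a, true), (.a, true), (.a, true)]),
  (17169, [(.a, true), (.b, true), (.b, true), (.b, true), (.a, true), (.b, true), (.b, true), (.a, true), (.b, true), (.b, true), (.a, true)]),
  (17185, [(.b, true), (.b, true), (.b, true), (.a, true), (.a, true), (.b, true), (.b, true), (.b, true)]),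
  (17199, [(.b, true), (.b, true), (.b, true), (.a, true), (.b, true), (.b, true), (.b, true), (.a, true), (.b, true), (.b, true)]),
  (17213, [(.a, true), (.a, true), (.a, true), (.b, true), (.b, true), (.b, true), (.b, true), (.a, true), (.a, true)]),
  (17214, [(.b, true), (.a, true), (.a, true), (.a, true), (.b, true), (.b, true), (.b, true), (.a, true), (.a, true)]),
  (17228, [(.a, true), (.b, true), (.b, true), (.a, true), (.b, true), (.b, true), (.b, true)]),
  (17231, [(.a, true), (.a, true), (.b, true), (.b, true), (.b, true), (.a, true)]),
  (17246, [(.a, true), (.a, true), (.a, true), (.a, true), (.b, true), (.b, true), (.b, true), (.a, true), (.b, true)]),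
  (17254, [(.b, true), (.b, true), (.a, true), (.a, true), (.b, true), (.a, true), (.b, true)]),
  (17258, [(.b, true), (.b, true), (.a, true), (.a, true), (.a, true), (.b, true), (.b, true), (.a, true), (.a, true), (.a, true), (.a, true)]),
  (17274, [(.a, true), (.b, true), (.b, true), (.a, true), (.a, true), (.b, true)]),
  (17276, [(.a, true), (.b, true), (.a, true), (.b, true), (.b, true), (.b, true), (.a, true), (.b, true), (.a, true), (.a, true), (.a, true), (.a, true)]),
  (17282, [(.b, true), (.b, true), (.b, true), (.b, true), (.b, true), (.a, true), (.a, true), (.b, true), (.a, true), (.a, true), (.b, true)]),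
  (17291, [(.b, true), (.a, true), (.b, true), (.a, true), (.a, true), (.b, true), (.b, true), (.a, true), (.a, true), (.b, true), (.a, true), (.a, true)]),
  (17299, [(.b, true), (.a, true), (.b, true), (.b, true), (.a, true), (.b, true), (.b, true), (.a, true), (.a, true), (.b, true), (.a, true)]),
  (17317, [(.a, true), (.b, true), (.b, true), (.b, true), (.b, true), (.a, true), (.b, true), (.b, true), (.a, true), (.b, true), (.a, true), (.b, true)]),
  (17359, [(.a, true), (.a, true), (.a, true), (.b, true), (.b, true), (.b, true), (.a, true), (.b, true), (.a, true), (.a, true), (.a, true), (.a, true)]),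
  (17364, [(.b, true), (.b, true), (.b, true), (.a, true), (.b, true), (.a, true), (.a, true), (.b, true), (.a, true), (.b, true)]),
  (17396, [(.a, true), (.a, true), (.a, true), (.a, true), (.b, true), (.a, true), (.b, true), (.a, true), (.b, true)]),
  (17400, [(.a, true), (.b, true), (.b, true), (.b, true), (.a, true), (.b, true), (.a, true), (.b, true)]),
  (17409, [(.a, true), (.a, true), (.a, true), (.a, true), (.b, true), (.b, true), (.b, true), (.a, true), (.a, true)]),
  (17415, [(.b, true), (.a, true), (.a, true), (.b, true), (.b, true), (.a, true), (.a, true), (.b, true)]),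
  (17443, [(.a, true), (.a, true), (.b, true), (.b, true), (.b, true), (.b, true), (.a, true), (.a, true), (.a, true), (.a, true)]),
  (17468, [(.a, true), (.a, true), (.b, true), (.a, true), (.a, true), (.a, true), (.a, true), (.a, true)]),
  (17491, [(.b, true), (.a, true), (.a, true), (.b, true), (.b, true), (.b, true), (.a, true), (.a, true), (.b, true), (.b, true), (.b, true)]),
  (17498, [(.a, true), (.a, true), (.b, true), (.a, true), (.b, true), (.a, true), (.b, true), (.b, true), (.b, true), (.a, true), (.a, true), (.a, true), (.a, true)]),
  (17507, [(.a, true), (.a, true), (.b, true), (.a, true), (.b, true), (.b, true), (.a, true), (.a, true), (.b, true), (.a, true), (.a, true)]),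
  (17520, [(.a, true), (.b, true), (.a, true), (.b, true), (.b, true), (.a, true), (.b, true), (.b, true), (.a, true), (.a, true), (.b, true)]),
  (17536, [(.b, true), (.a, true), (.b, true), (.b, true), (.a, true), (.a, true), (.a, true), (.a, true)]),
  (17538, [(.b, true), (.b, true), (.b, true), (.b, true), (.b, true), (.a, true), (.b, true), (.b, true), (.a, true), (.b, true), (.a, true), (.a, true)]),
  (17545, [(.a, true), (.a, true), (.b, true), (.a, true), (.a, true), (.a, true)]),
  (17570, [(.a, true), (.a, true), (.a, true), (.b, true), (.b, true), (.b, true), (.b, true), (.b, true), (.a, true)]),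
  (17572, [(.b, true), (.b, true), (.a, true), (.b, true), (.b, true), (.b, true), (.a, true), (.a, true), (.b, true), (.a, true), (.a, true)]),
  (17582, [(.a, true), (.a, true), (.b, true), (.b, true), (.b, true), (.b, true), (.a, true), (.b, true), (.b, true), (.b, true), (.b, true)]),
  (17589, [(.b, true), (.b, true), (.a, true), (.a, true), (.a, true), (.b, true), (.b, true), (.b, true), (.a, true), (.b, true), (.a, true)]),
  (17607, [(.b, true), (.b, true), (.b, true), (.a, true), (.a, true), (.b, true), (.b, true), (.a, true), (.a, true), (.a, true)]),
  (17620, [(.a, true), (.b, true), (.a, true), (.a, true), (.a, true), (.a, true), (.a, true), (.a, true), (.b, true), (.b, true), (.b, true)]),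
  (17623, [(.a, true), (.a, true), (.b, true), (.b, true), (.a, true), (.a, true)]),
  (17629, [(.b, true), (.b, true), (.b, true), (.b, true), (.a, true), (.b, true), (.b, true), (.b, true), (.a, true), (.b, true), (.b, true)]),
  (17630, [(.b, true), (.a, true), (.b, true), (.a, true), (.b, true), (.a, true), (.b, true), (.b, true)]),
  (17633, [(.b, true), (.b, true), (.b, true), (.b, true), (.a, true), (.b, true), (.a, true), (.b, true)]),
  (17647, [(.b, true), (.a, true), (.a, true), (.b, true), (.a, true), (.b, true), (.a, true), (.b, true), (.b, true), (.a, true), (.a, true)]),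
  (17652, [(.b, true), (.a, true), (.b, true), (.a, true), (.b, true), (.a, true), (.a, true), (.b, true), (.b, true), (.b, true), (.a, true), (.b, true)]),
  (17653, [(.b, true), (.b, true), (.b, true), (.a, true), (.a, true), (.b, true), (.b, true), (.a, true), (.b, true)]),
  (17665, [(.b, true), (.a, true), (.b, true), (.b, true)]),
  (17702, [(.b, true), (.b, true), (.b, true), (.a, true), (.a, true), (.b, true), (.b, true), (.a, true), (.b, true), (.a, true), (.a, true)]),
  (17713, [(.a, true), (.a, true), (.a, true), (.b, true), (.b, true), (.a, true), (.b, true), (.a, true), (.a, true), (.b, true)]),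
  (17724, [(.b, true), (.a, true), (.b, true), (.b, true), (.a, true), (.a, true)]),
  (17727, [(.b, true), (.a, true)]),
  (17732, [(.a, true), (.b, true), (.b, true), (.a, true), (.a, true), (.a, true), (.a, true), (.a, true), (.a, true)]),
  (17775, [(.b, true), (.b, true), (.a, true), (.b, true), (.b, true), (.b, true)]),
  (17776, [(.b, true), (.a, true), (.a, true), (.b, true), (.b, true), (.b, true), (.b, true), (.b, true), (.a, true), (.a, true)]),
  (17791, [(.a, true), (.b, true), (.b, true), (.b, true), (.a, true), (.a, true), (.a, true), (.a, true)]),
  (17797, [(.a, true), (.b, true), (.a, true), (.a, true), (.b, true), (.a, true), (.b, true), (.a, true), (.a, true), (.a, true), (.a, true)]),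
  (17804, [(.b, true), (.b, true), (.b, true), (.a, true), (.a, true), (.a, true)]),
  (17819, [(.b, true), (.b, true), (.a, true), (.b, true), (.a, true), (.b, true), (.a, true), (.b, true), (.b, true), (.b, true)]),
  (17824, [(.a, true), (.b, true), (.a, true), (.a, true), (.b, true), (.b, true), (.b, true), (.a, true)]),
  (17825, [(.b, true), (.b, true), (.b, true), (.a, true), (.b, true), (.b, true), (.a, true), (.b, true), (.b, true), (.b, true), (.b, true), (.a, true)]),
  (17842, [(.a, true), (.b, true), (.a, true), (.b, true), (.a, true), (.b, true), (.b, true), (.a, true)]),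
  (17864, [(.b, true), (.a, true), (.a, true), (.b, true), (.b, true), (.b, true), (.b, true), (.a, true), (.b, true), (.b, true)]),
  (17902, [(.a, true), (.a, true), (.a, true), (.a, true), (.b, true), (.a, true), (.a, true), (.b, true), (.a, true), (.b, true), (.b, true), (.a, true)]),
  (17905, [(.a, true), (.b, true), (.a, true), (.b, true), (.a, true), (.b, true), (.b, true), (.b, true), (.a, true), (.a, true)]),
  (17928, [(.a, true), (.b, true), (.a, true), (.b, true), (.a, true), (.a, true), (.b, true), (.b, true), (.b, true), (.a, true), (.b, true)]),
  (17930, [(.a, true), (.b, true), (.b, true), (.a, true)]),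
  (17941, [(.b, true), (.a, true), (.b, true), (.b, true), (.a, true), (.b, true), (.b, true), (.a, true), (.a, true), (.a, true)]),
  (17944, [(.a, true), (.b, true), (.b, true), (.b, true), (.a, true), (.b, true), (.a, true)]),
  (17948, [(.a, true), (.b, true), (.a, true), (.a, true), (.b, true), (.a, true), (.a, true), (.a, true), (.a, true), (.a, true), (.a, true)]),
  (17955, [(.a, true), (.b, true), (.a, true), (.a, true), (.a, true), (.a, true), (.a, true), (.b, true), (.b, true), (.b, true)]),
  (17968, [(.b, true), (.b, true), (.b, true), (.a, true), (.a, true), (.a, true), (.b, true), (.b, true), (.b, true), (.a, true), (.b, true)]),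
  (17975, [(.a, true), (.a, true), (.b, true), (.b, true), (.b, true), (.a, true), (.b, true), (.b, true), (.a, true), (.b, true)]),
  (17980, [(.a, true), (.b, true), (.a, true), (.b, true), (.b, true), (.a, true), (.b, true), (.a, true), (.b, true), (.a, true)]),
  (17985, [(.a, true), (.b, true), (.b, true), (.a, true), (.b, true), (.a, true), (.b, true), (.a, true), (.a, true), (.a, true), (.b, true), (.a, true)]),
  (17991, [(.b, true), (.a, true), (.a, true), (.a, true), (.b, true), (.a, true), (.a, true), (.a, true), (.a, true), (.a, true), (.b, true)]),
  (18070, [(.b, true), (.b, true), (.a, true), (.b, true), (.a, true), (.b, true), (.a, true), (.b, true), (.a, true), (.b, true)]),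
  (18071, [(.b, true), (.b, true), (.a, true), (.a, true), (.a, true), (.a, true), (.a, true), (.a, true)]),
  (18104, [(.b, true), (.a, true), (.a, true), (.a, true), (.b, true), (.b, true), (.b, true), (.b, true), (.a, true), (.a, true), (.a, true), (.a, true), (.a, true)]),
  (18115, [(.a, true), (.b, true), (.a, true), (.a, true), (.b, true), (.a, true), (.b, true), (.b, true), (.a, true), (.b, true)]),
  (18127, [(.a, true), (.a, true), (.a, true), (.b, true), (.b, true), (.a, true), (.a, true)]),
  (18155, [(.b, true), (.a, true), (.a, true), (.b, true), (.b, true), (.b, true), (.b, true), (.a, true), (.a, true), (.a, true)]),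
  (18169, [(.b, true), (.a, true), (.b, true), (.b, true), (.a, true), (.b, true), (.b, true), (.a, true), (.b, true), (.a, true), (.a, true)]),
  (18171, [(.a, true), (.a, true), (.b, true), (.a, true), (.a, true), (.b, true), (.a, true), (.b, true), (.b, true)]),
  (18178, [(.b, true), (.a, true), (.b, true), (.a, true), (.a, true), (.b, true), (.a, true), (.b, true), (.a, true), (.a, true), (.a, true)]),
  (18183, [(.b, true), (.a, true), (.b, true), (.b, true), (.b, true), (.a, true), (.b, true), (.b, true), (.a, true)]),
  (18185, [(.a, true), (.a, true), (.a, true), (.b, true), (.a, true), (.a, true), (.b, true), (.a, true), (.b, true), (.b, true)]),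
  (18188, [(.b, true), (.b, true), (.b, true), (.a, true), (.b, true), (.b, true), (.a, true), (.b, true), (.b, true)]),
  (18216, [(.a, true), (.b, true), (.b, true), (.b, true), (.a, true), (.b, true)]),
  (18218, [(.a, true), (.b, true), (.a, true), (.b, true), (.b, true), (.a, true), (.b, true), (.a, true)]),
  (18234, [(.b, true), (.a, true), (.b, true), (.a, true), (.b, true), (.b, true), (.b, true), (.a, true), (.a, true)]),
  (18235, [(.b, true), (.a, true), (.a, true), (.b, true), (.b, true), (.b, true), (.a, true), (.a, true), (.b, true), (.a, true)]),
  (18238, [(.b, true), (.b, true), (.a, true), (.a, true), (.a, true), (.b, true), (.a, true), (.b, true), (.b, true), (.b, true), (.b, true)]),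
  (18247, [(.b, true), (.a, true), (.b, true), (.b, true), (.b, true), (.b, true), (.a, true), (.a, true), (.a, true), (.a, true)]),
  (18250, [(.a, true), (.a, true), (.b, true), (.a, true), (.b, true), (.a, true), (.a, true), (.b, true)]),
  (18251, [(.a, true), (.b, true), (.a, true), (.a, true), (.b, true), (.b, true), (.b, true), (.a, true), (.a, true)]),
  (18268, [(.a, true), (.a, true), (.a, true), (.b, true), (.b, true), (.b, true)]),
  (18270, [(.a, true), (.a, true), (.b, true), (.b, true), (.b, true), (.a, true), (.b, true), (.a, true), (.a, true)]),
  (18280, [(.b, true), (.a, true), (.b, true), (.b, true), (.b, true), (.a, true), (.b, true)]),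
  (18281, [(.b, true), (.a, true), (.a, true), (.a, true), (.b, true), (.b, true), (.b, true), (.a, true), (.a, true), (.a, true), (.a, true)]),
  (18291, [(.a, true), (.a, true), (.a, true), (.b, true), (.b, true), (.b, true), (.a, true)]),
  (18320, [(.a, true), (.a, true), (.b, true), (.b, true), (.a, true), (.a, true), (.b, true), (.a, true), (.a, true), (.b, true), (.a, true)]),
  (18327, [(.b, true), (.a, true), (.b, true), (.a, true), (.b, true), (.b, true), (.a, true), (.a, true)]),
  (18333, [(.a, true), (.b, true), (.b, true), (.b, true), (.b, true), (.a, true), (.b, true), (.b, true), (.a, true)]),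
  (18344, [(.a, true), (.b, true), (.b, true), (.a, true), (.a, true), (.a, true)]),
  (18347, [(.a, true), (.a, true), (.a, true), (.a, true), (.b, true), (.a, true), (.b, true)]),
  (18368, [(.b, true), (.b, true), (.b, true), (.a, true), (.b, true), (.a, true), (.b, true), (.a, true), (.b, true), (.b, true)]),
  (18373, [(.b, true), (.b, true), (.b, true), (.b, true), (.b, true), (.a, true), (.b, true), (.b, true), (.b, true), (.b, true)]),
  (18392, [(.b, true), (.b, true), (.a, true), (.a, true), (.a, true), (.b, true), (.a, true), (.b, true), (.b, true), (.a, true), (.b, true)]),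
  (18409, [(.a, true), (.b, true), (.b, true), (.a, true), (.b, true), (.a, true), (.b, true), (.b, true), (.a, true), (.b, true), (.a, true), (.a, true)]),
  (18413, [(.a, true), (.b, true), (.a, true), (.a, true), (.b, true), (.a, true), (.a, true), (.a, true)]),
  (18434, [(.b, true), (.b, true), (.a, true), (.b, true), (.b, true), (.a, true), (.b, true), (.a, true), (.b, true), (.a, true), (.a, true)]),
  (18498, [(.b, true), (.b, true), (.a, true), (.b, true), (.a, true)]),
  (18511, [(.a, true), (.b, true), (.b, true), (.b, true), (.b, true), (.b, true), (.a, true), (.a, true), (.a, true), (.b, true), (.a, true), (.a, true), (.a, true)]),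
  (18516, [(.b, true), (.b, true), (.a, true), (.b, true), (.a, true), (.a, true), (.b, true), (.a, true), (.a, true), (.b, true), (.a, true)]),
  (18526, [(.b, true), (.a, true), (.a, true), (.a, true), (.b, true), (.b, true), (.b, true), (.b, true), (.b, true), (.a, true)]),
  (18529, [(.b, true), (.a, true), (.b, true), (.b, true), (.b, true), (.a, true), (.a, true), (.b, true), (.b, true), (.a, true)]),
  (18537, [(.b, true), (.b, true), (.a, true), (.b, true), (.a, true), (.b, true), (.a, true), (.b, true), (.b, true), (.b, true), (.a, true), (.a, true), (.a, true)]),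
  (18541, [(.a, true), (.a, true), (.a, true), (.b, true), (.a, true), (.b, true), (.a, true), (.b, true), (.b, true)]),
  (18543, [(.a, true), (.b, true), (.b, true), (.a, true), (.b, true), (.a, true), (.b, true), (.a, true), (.b, true)]),
  (18552, [(.b, true), (.b, true), (.a, true), (.b, true), (.b, true), (.b, true), (.a, true), (.a, true), (.b, true), (.a, true), (.a, true), (.a, true)]),
  (18561, [(.b, true), (.a, true), (.a, true), (.a, true), (.b, true), (.a, true), (.a, true), (.a, true), (.a, true), (.a, true), (.b, true), (.a, true)]),
  (18583, [(.a, true), (.a, true), (.b, true), (.b, true), (.b, true), (.a, true), (.a, true), (.b, true), (.b, true)]),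
  (18613, [(.b, true), (.b, true), (.a, true), (.b, true), (.a, true), (.a, true), (.b, true), (.a, true), (.b, true), (.a, true), (.a, true)]),
  (18631, [(.a, true), (.b, true), (.a, true), (.a, true), (.b, true), (.a, true), (.a, true), (.b, true), (.a, true)]),
  (18646, [(.b, true), (.a, true), (.b, true), (.a, true), (.b, true), (.b, true), (.b, true)]),
  (18650, [(.a, true), (.b, true), (.a, true), (.b, true), (.b, true), (.b, true), (.b, true)]),
  (18659, [(.a, true), (.b, true), (.b, true), (.a, true), (.b, true), (.b, true), (.a, true), (.a, true), (.a, true), (.a, true), (.a, true)]),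
  (18661, [(.b, true), (.b, true), (.b, true), (.a, true), (.a, true), (.a, true), (.b, true), (.a, true), (.b, true)]),
  (18663, [(.b, true), (.b, true), (.b, true), (.b, true), (.a, true), (.a, true), (.b, true), (.b, true), (.b, true), (.b, true), (.b, true)]),
  (18670, [(.a, true), (.b, true), (.a, true), (.a, true), (.b, true), (.a, true), (.a, true)]),
  (18679, [(.b, true), (.b, true), (.a, true), (.a, true), (.a, true), (.b, true), (.a, true), (.b, true), (.b, true), (.b, true), (.a, true), (.a, true), (.a, true)]),
  (18688, [(.b, true), (.a, true), (.a, true), (.a, true), (.b, true), (.b, true), (.a, true), (.a, true), (.a, true), (.a, true), (.a, true)]),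
  (18702, [(.b, true), (.b, true), (.b, true), (.a, true), (.b, true), (.b, true), (.a, true), (.a, true), (.b, true)]),
  (18704, [(.a, true), (.a, true), (.a, true), (.a, true), (.a, true), (.b, true), (.a, true), (.a, true), (.a, true), (.a, true), (.a, true)]),
  (18731, [(.a, true), (.b, true), (.b, true), (.a, true), (.b, true), (.a, true), (.b, true), (.b, true), (.b, true)]),
  (18735, [(.b, true), (.b, true), (.b, true), (.a, true), (.a, true), (.a, true), (.b, true), (.b, true), (.a, true), (.a, true), (.a, true), (.a, true)]),
  (18743, [(.b, true), (.a, true), (.a, true), (.a, true), (.a, true), (.a, true), (.b, true), (.b, true), (.a, true), (.a, true)]),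
  (18748, [(.a, true), (.b, true), (.a, true), (.a, true), (.b, true), (.a, true), (.b, true), (.a, true), (.a, true), (.a, true)]),
  (18753, [(.b, true), (.a, true), (.a, true), (.a, true), (.b, true), (.b, true), (.b, true), (.a, true), (.b, true), (.b, true)]),
  (18754, [(.a, true), (.b, true), (.b, true), (.a, true), (.b, true), (.b, true), (.b, true), (.a, true), (.b, true), (.b, true), (.a, true)]),
  (18766, [(.a, true), (.b, true), (.b, true), (.b, true), (.b, true), (.a, true), (.b, true), (.b, true), (.b, true), (.a, true)]),
  (18777, [(.b, true), (.b, true), (.b, true), (.a, true), (.a, true), (.b, true), (.b, true)]),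
  (18783, [(.b, true), (.a, true), (.b, true), (.a, true), (.a, true), (.b, true), (.b, true), (.b, true)]),
  (18799, [(.b, true), (.b, true), (.b, true), (.a, true), (.a, true), (.a, true), (.b, true), (.a, true), (.b, true), (.a, true)]),
  (18806, [(.a, true), (.a, true), (.b, true), (.b, true), (.b, true), (.a, true), (.b, true), (.a, true), (.a, true), (.a, true)]),
  (18904, [(.a, true), (.a, true), (.b, true), (.a, true), (.a, true), (.a, true), (.a, true), (.a, true), (.a, true)]),
  (18908, [(.b, true), (.a, true), (.b, true), (.b, true), (.a, true), (.a, true), (.a, true), (.b, true), (.a, true), (.a, true)]),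
  (18909, [(.a, true), (.b, true), (.b, true), (.b, true), (.b, true), (.b, true), (.a, true), (.b, true), (.b, true), (.b, true)]),
  (18925, [(.b, true), (.b, true), (.a, true), (.b, true), (.b, true), (.a, true), (.a, true), (.a, true), (.b, true)]),
  (18927, [(.a, true), (.a, true), (.a, true), (.b, true), (.b, true), (.b, true), (.b, true), (.a, true), (.b, true)]),
  (18940, [(.b, true), (.a, true), (.a, true), (.b, true), (.b, true), (.a, true), (.b, true), (.b, true), (.a, true), (.a, true), (.a, true), (.a, true)]),
  (18942, [(.a, true), (.b, true), (.b, true), (.a, true), (.b, true), (.b, true), (.b, true), (.a, true), (.b, true), (.a, true)]),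
  (18954, [(.a, true), (.b, true), (.b, true), (.a, true), (.a, true), (.a, true), (.b, true)]),
  (18968, [(.a, true), (.b, true), (.b, true), (.b, true), (.a, true), (.b, true), (.a, true), (.b, true), (.a, true), (.a, true), (.a, true)]),
  (18969, [(.a, true), (.b, true), (.a, true), (.a, true), (.b, true), (.a, true), (.a, true), (.a, true), (.a, true), (.a, true), (.b, true)]),
  (18972, [(.b, true), (.a, true), (.a, true), (.b, true), (.a, true), (.b, true), (.b, true), (.a, true)]),
  (18981, [(.a, true), (.b, true), (.b, true), (.a, true), (.b, true), (.b, true), (.b, true), (.a, true), (.b, true), (.b, true), (.a, true), (.a, true)]),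
  (18992, [(.a, true), (.a, true), (.a, true), (.a, true), (.b, true), (.a, true), (.a, true), (.b, true), (.a, true)]),
  (18994, [(.b, true), (.b, true), (.b, true), (.a, true), (.a, true), (.b, true), (.b, true), (.a, true), (.b, true), (.b, true)]),
  (19027, [(.a, true), (.a, true), (.b, true), (.b, true), (.b, true), (.b, true), (.b, true), (.a, true), (.a, true), (.a, true)]),
  (19055, [(.b, true), (.a, true), (.a, true), (.b, true), (.b, true), (.a, true), (.b, true), (.b, true), (.a, true), (.a, true), (.a, true), (.a, true), (.a, true)]),
  (19064, [(.a, true), (.a, true), (.a, true), (.b, true), (.b, true), (.a, true), (.a, true), (.a, true), (.b, true), (.b, true), (.a, true)]),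
  (19067, [(.a, true), (.a, true), (.a, true), (.b, true), (.b, true), (.b, true), (.a, true), (.b, true)]),
  (19077, [(.b, true), (.a, true), (.a, true), (.b, true), (.b, true), (.b, true)]),
  (19100, [(.b, true), (.b, true), (.b, true), (.b, true), (.a, true), (.a, true), (.b, true), (.a, true), (.a, true)]),
  (19103, [(.b, true), (.a, true), (.b, true), (.a, true), (.b, true), (.b, true), (.a, true), (.b, true), (.b, true), (.b, true), (.a, true)]),
  (19105, [(.a, true), (.a, true), (.b, true), (.b, true), (.b, true), (.b, true), (.a, true), (.b, true), (.b, true), (.b, true)]),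
  (19119, [(.b, true), (.b, true), (.b, true), (.b, true), (.a, true), (.a, true), (.b, true), (.b, true), (.b, true), (.b, true), (.a, true)]),
  (19130, [(.b, true), (.b, true), (.b, true), (.a, true), (.b, true), (.b, true), (.b, true), (.a, true), (.a, true), (.a, true)]),
  (19131, [(.a, true), (.b, true), (.a, true), (.a, true), (.b, true), (.b, true), (.a, true), (.a, true), (.a, true), (.b, true), (.b, true)]),
  (19138, [(.b, true), (.b, true), (.b, true), (.b, true), (.a, true), (.a, true), (.b, true), (.a, true), (.a, true), (.a, true), (.a, true)]),
  (19144, [(.b, true), (.a, true), (.b, true), (.b, true), (.a, true), (.b, true), (.a, true), (.b, true), (.a, true), (.b, true), (.a, true)]),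
  (19170, [(.a, true), (.b, true), (.b, true), (.b, true), (.a, true), (.a, true)]),
  (19190, [(.b, true), (.a, true), (.a, true), (.b, true), (.b, true), (.b, true), (.a, true), (.a, true), (.a, true), (.b, true)]),
  (19193, [(.a, true), (.b, true), (.b, true), (.b, true), (.a, true), (.a, true), (.b, true), (.a, true), (.a, true)]),
  (19194, [(.a, true), (.a, true), (.b, true), (.b, true), (.b, true), (.a, true), (.b, true), (.b, true), (.a, true), (.b, true), (.b, true)]),
  (19206, [(.a, true), (.a, true), (.b, true), (.a, true), (.a, true), (.b, true), (.a, true), (.b, true), (.b, true), (.b, true)]),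
  (19220, [(.b, true), (.b, true), (.b, true), (.a, true), (.a, true), (.a, true), (.a, true), (.a, true), (.b, true), (.a, true)]),
  (19231, [(.a, true), (.b, true), (.b, true), (.b, true), (.b, true), (.a, true), (.a, true), (.a, true), (.a, true), (.a, true), (.b, true)]),
  (19243, [(.a, true), (.a, true), (.a, true), (.a, true), (.b, true), (.b, true), (.a, true), (.a, true), (.a, true), (.a, true)]),
  (19250, [(.a, true), (.a, true), (.a, true), (.a, true), (.a, true), (.b, true), (.b, true), (.b, true), (.b, true), (.a, true), (.a, true)]),
  (19257, [(.a, true), (.a, true), (.a, true), (.b, true), (.a, true), (.a, true), (.a, true), (.a, true), (.a, true), (.b, true), (.a, true), (.b, true)]),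
  (19281, [(.a, true), (.a, true), (.b, true), (.a, true), (.b, true), (.b, true), (.b, true), (.a, true), (.b, true), (.b, true)]),
  (19294, [(.a, true), (.b, true), (.b, true), (.a, true), (.b, true), (.b, true), (.b, true), (.a, true), (.a, true), (.a, true), (.b, true)]),
  (19295, [(.a, true), (.a, true), (.a, true), (.b, true), (.b, true), (.b, true), (.a, true), (.a, true), (.b, true), (.a, true)]),
  (19298, [(.a, true), (.b, true), (.b, true), (.a, true), (.a, true)]),
  (19300, [(.b, true), (.a, true), (.a, true), (.b, true), (.a, true), (.b, true), (.a, true), (.a, true), (.b, true)]),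
  (19338, [(.a, true), (.a, true), (.a, true), (.a, true), (.b, true), (.a, true), (.a, true), (.b, true), (.a, true), (.b, true)]),
  (19340, [(.b, true), (.b, true), (.b, true), (.a, true), (.a, true), (.a, true), (.b, true), (.a, true), (.a, true), (.a, true)]),
  (19346, [(.a, true), (.b, true), (.b, true), (.b, true), (.a, true), (.b, true), (.a, true), (.a, true)]),
  (19358, [(.b, true), (.b, true), (.b, true), (.a, true), (.b, true), (.a, true), (.b, true), (.a, true), (.b, true), (.a, true), (.a, true), (.a, true)]),
  (19367, [(.b, true), (.b, true), (.a, true), (.b, true), (.b, true), (.a, true), (.b, true), (.a, true)]),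
  (19373, [(.a, true), (.b, true), (.a, true), (.b, true), (.b, true), (.a, true), (.a, true), (.a, true), (.b, true), (.b, true)]),
  (19374, [(.a, true), (.a, true), (.b, true), (.b, true), (.b, true), (.a, true), (.a, true), (.a, true), (.a, true)]),
  (19377, [(.b, true), (.b, true), (.a, true), (.b, true), (.b, true), (.a, true), (.a, true), (.a, true), (.a, true)]),
  (19387, [(.a, true), (.b, true), (.a, true), (.a, true), (.a, true), (.b, true), (.a, true), (.a, true), (.a, true)]),
  (19390, [(.a, true), (.b, true), (.a, true), (.b, true), (.a, true), (.b, true), (.a, true), (.b, true), (.a, true), (.b, true), (.a, true)]),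
  (19393, [(.b, true), (.b, true), (.a, true), (.b, true), (.a, true), (.a, true), (.a, true), (.a, true), (.a, true), (.a, true)]),
  (19403, [(.a, true), (.a, true), (.b, true), (.a, true), (.b, true), (.b, true), (.b, true), (.b, true)]),
  (19406, [(.b, true), (.b, true), (.b, true), (.a, true), (.b, true), (.a, true), (.b, true), (.a, true), (.b, true), (.a, true)]),
  (19408, [(.a, true), (.a, true), (.b, true), (.a, true), (.a, true), (.b, true), (.a, true), (.b, true), (.a, true)]),
  (19420, [(.b, true), (.b, true), (.b, true), (.b, true), (.a, true), (.a, true), (.b, true), (.a, true), (.b, true), (.a, true), (.b, true)]),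
  (19424, [(.b, true), (.b, true), (.a, true), (.b, true), (.b, true), (.a, true), (.b, true), (.a, true), (.b, true)]),
  (19425, [(.a, true), (.b, true), (.b, true), (.a, true), (.b, true), (.a, true), (.b, true), (.b, true)]),
  (19427, [(.a, true), (.a, true), (.b, true), (.b, true), (.b, true), (.a, true), (.b, true), (.b, true), (.a, true), (.a, true), (.b, true)]),
  (19440, [(.b, true), (.a, true), (.b, true), (.a, true), (.b, true), (.b, true), (.a, true), (.b, true)]),
  (19459, [(.b, true), (.a, true), (.a, true), (.a, true), (.b, true), (.b, true), (.a, true), (.a, true), (.b, true), (.a, true)]),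
  (19508, [(.b, true), (.b, true), (.a, true), (.a, true), (.a, true), (.a, true)]),
  (19509, [(.a, true), (.b, true), (.b, true), (.a, true), (.a, true), (.b, true), (.a, true), (.a, true), (.a, true), (.a, true)]),
  (19523, [(.b, true), (.a, true), (.a, true), (.a, true), (.a, true), (.a, true)]),
  (19528, [(.b, true), (.a, true), (.a, true), (.a, true), (.a, true), (.a, true), (.a, true), (.b, true), (.b, true), (.a, true)]),
  (19560, [(.b, true), (.b, true), (.b, true), (.a, true), (.b, true), (.a, true), (.a, true), (.a, true), (.a, true)]),
  (19563, [(.a, true), (.a, true), (.a, true), (.b, true), (.b, true), (.b, true), (.a, true), (.b, true), (.b, true), (.a, true)]),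
  (19565, [(.b, true), (.b, true), (.a, true), (.a, true), (.b, true), (.b, true), (.b, true), (.b, true), (.b, true), (.a, true), (.a, true)]),
  (19573, [(.b, true), (.b, true), (.b, true), (.b, true), (.b, true), (.a, true), (.a, true)]),
  (19575, [(.a, true), (.a, true), (.a, true), (.b, true), (.a, true), (.b, true), (.b, true), (.b, true), (.a, true)]),
  (19600, [(.a, true), (.b, true), (.a, true), (.a, true), (.b, true), (.b, true), (.b, true), (.a, true), (.b, true), (.a, true), (.a, true)]),
  (19607, [(.a, true), (.b, true), (.b, true), (.b, true), (.b, true), (.b, true), (.a, true), (.b, true), (.a, true), (.b, true)]),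
  (19611, [(.a, true), (.a, true), (.b, true), (.b, true), (.b, true), (.b, true), (.a, true), (.a, true), (.a, true), (.a, true), (.a, true)]),
  (19637, [(.a, true), (.b, true), (.a, true), (.b, true), (.a, true), (.b, true), (.b, true), (.b, true), (.a, true), (.a, true), (.a, true), (.a, true)]),
  (19644, [(.a, true), (.b, true), (.b, true), (.b, true), (.b, true), (.a, true), (.a, true), (.a, true), (.b, true), (.a, true)]),
  (19647, [(.a, true), (.b, true), (.a, true), (.a, true), (.b, true), (.a, true), (.a, true), (.b, true), (.b, true)]),
  (19662, [(.a, true), (.b, true), (.b, true), (.a, true), (.a, true), (.a, true), (.b, true), (.a, true)]),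
  (19665, [(.a, true), (.a, true), (.a, true), (.a, true), (.a, true), (.a, true), (.a, true), (.b, true), (.b, true), (.a, true), (.a, true)]),
  (19671, [(.b, true), (.b, true), (.b, true), (.b, true), (.a, true), (.b, true), (.b, true), (.a, true), (.b, true), (.b, true)]),
  (19685, [(.a, true), (.a, true), (.b, true), (.b, true), (.b, true), (.b, true)]),
  (19690, [(.b, true), (.b, true), (.a, true), (.a, true), (.b, true), (.b, true), (.a, true), (.b, true), (.b, true), (.b, true)]),
  (19706, [(.b, true), (.a, true), (.b, true), (.b, true), (.a, true), (.b, true), (.a, true), (.b, true), (.b, true), (.a, true)]),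
  (19717, [(.b, true), (.b, true), (.b, true), (.a, true), (.b, true), (.a, true), (.b, true), (.b, true), (.a, true)]),
  (19722, [(.b, true), (.a, true), (.b, true), (.b, true), (.b, true), (.a, true), (.b, true), (.b, true), (.b, true), (.a, true), (.a, true)]),
  (19730, [(.b, true), (.a, true), (.a, true), (.b, true), (.b, true), (.a, true), (.b, true), (.a, true), (.a, true), (.b, true)]),
  (19756, [(.a, true), (.a, true), (.b, true), (.a, true), (.a, true), (.a, true), (.a, true), (.a, true), (.b, true)]),
  (19759, [(.a, true)]),
  (19771, [(.a, true), (.a, true), (.b, true), (.b, true), (.b, true), (.b, true), (.b, true)]),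
  (19785, [(.b, true), (.b, true), (.b, true), (.b, true), (.a, true), (.a, true), (.b, true), (.b, true), (.b, true), (.a, true), (.b, true)]),
  (19800, [(.a, true), (.a, true), (.a, true), (.b, true), (.b, true), (.a, true), (.b, true), (.b, true), (.b, true), (.a, true)]),
  (19807, [(.b, true), (.b, true), (.b, true), (.a, true), (.b, true), (.a, true), (.b, true), (.a, true), (.a, true), (.a, true)]),
  (19814, [(.b, true), (.b, true), (.a, true), (.b, true), (.a, true), (.a, true), (.b, true), (.a, true), (.a, true), (.b, true), (.a, true), (.a, true)]),
  (19819, [(.b, true), (.a, true), (.b, true), (.b, true), (.a, true), (.a, true), (.b, true), (.a, true), (.a, true), (.a, true)]),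
  (19830, [(.a, true), (.a, true), (.b, true), (.a, true), (.b, true), (.b, true), (.a, true), (.a, true), (.b, true)]),
  (19834, [(.b, true), (.b, true), (.b, true), (.b, true), (.b, true), (.a, true), (.a, true), (.b, true), (.a, true), (.a, true)]),
  (19846, [(.a, true), (.b, true), (.b, true), (.a, true), (.b, true), (.a, true), (.a, true), (.b, true)]),
  (19847, [(.b, true), (.b, true), (.a, true), (.b, true), (.b, true), (.b, true), (.a, true), (.b, true), (.b, true), (.b, true)]),
  (19854, [(.a, true), (.a, true), (.a, true), (.b, true), (.b, true), (.b, true), (.b, true)]),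
  (19862, [(.a, true), (.a, true), (.a, true), (.b, true), (.a, true), (.b, true), (.a, true), (.a, true), (.a, true), (.a, true)]),
  (19866, [(.b, true), (.b, true), (.b, true), (.a, true), (.a, true), (.a, true), (.b, true), (.a, true), (.b, true), (.b, true), (.a, true)]),
  (19868, [(.b, true), (.a, true), (.a, true), (.a, true), (.a, true), (.a, true), (.b, true), (.b, true), (.a, true), (.a, true), (.a, true), (.a, true)]),
  (19877, [(.b, true), (.b, true), (.b, true), (.b, true), (.a, true), (.a, true), (.b, true), (.a, true), (.a, true), (.b, true), (.b, true)]),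
  (19887, [(.a, true), (.a, true), (.b, true), (.b, true), (.a, true), (.b, true), (.b, true), (.b, true), (.b, true)]),
  (19897, [(.a, true), (.b, true), (.a, true), (.a, true), (.a, true), (.b, true), (.b, true), (.b, true), (.b, true), (.b, true), (.a, true), (.a, true), (.a, true)]),
  (19909, [(.b, true), (.b, true), (.b, true), (.b, true), (.b, true), (.a, true), (.b, true), (.b, true), (.b, true), (.a, true), (.b, true), (.a, true)]),
  (19911, [(.b, true), (.a, true), (.a, true), (.b, true), (.b, true), (.b, true), (.a, true), (.b, true), (.b, true), (.a, true), (.a, true), (.a, true)]),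
  (19913, [(.b, true), (.a, true), (.a, true), (.b, true), (.a, true), (.a, true), (.a, true), (.a, true)]),
  (19928, [(.a, true), (.b, true), (.b, true), (.b, true), (.b, true), (.a, true), (.a, true), (.a, true)]),
  (19932, [(.b, true), (.b, true), (.a, true), (.a, true), (.b, true), (.a, true), (.b, true), (.a, true), (.a, true), (.a, true), (.a, true)]),
  (19933, [(.b, true), (.b, true), (.b, true), (.b, true), (.a, true), (.a, true), (.b, true), (.a, true), (.b, true), (.a, true), (.b, true), (.b, true)]),
  (19934, [(.b, true), (.b, true), (.a, true), (.a, true), (.b, true), (.b, true), (.b, true), (.a, true), (.a, true), (.a, true), (.b, true)]),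
  (19949, [(.b, true), (.b, true), (.b, true), (.b, true), (.a, true), (.b, true), (.b, true), (.a, true), (.b, true), (.a, true), (.a, true)]),
  (19953, [(.a, true), (.a, true), (.b, true), (.b, true), (.a, true), (.b, true), (.b, true), (.a, true), (.a, true), (.a, true)]),
  (19977, [(.b, true), (.b, true), (.a, true), (.b, true), (.a, true), (.b, true), (.a, true), (.b, true), (.a, true)]),
  (19981, [(.b, true), (.b, true), (.a, true), (.b, true), (.b, true), (.b, true), (.a, true), (.b, true), (.a, true), (.b, true), (.a, true)]),
  (19984, [(.b, true), (.a, true), (.b, true), (.b, true), (.a, true), (.a, true), (.b, true), (.a, true), (.b, true), (.a, true), (.a, true)]),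
  (19985, [(.b, true), (.b, true), (.a, true), (.a, true), (.b, true), (.a, true), (.b, true), (.a, true), (.b, true), (.b, true), (.a, true)]),
  (19987, [(.a, true), (.b, true), (.a, true), (.b, true), (.a, true), (.b, true), (.b, true)]),
  (20007, [(.a, true), (.b, true), (.b, true), (.b, true), (.b, true), (.a, true), (.b, true), (.a, true)]),
  (20009, [(.a, true), (.a, true), (.b, true), (.a, true), (.b, true), (.b, true), (.a, true), (.b, true), (.a, true), (.a, true)]),
  (20012, [(.a, true), (.b, true), (.b, true), (.a, true), (.b, true), (.a, true), (.a, true), (.b, true), (.a, true), (.a, true)]),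
  (20038, [(.b, true), (.b, true), (.a, true), (.a, true), (.a, true), (.b, true), (.b, true)]),
  (20055, [(.b, true), (.a, true), (.a, true), (.a, true), (.a, true), (.a, true), (.a, true), (.a, true), (.b, true), (.b, true)]),
  (20093, [(.a, true), (.b, true), (.b, true), (.a, true), (.b, true), (.b, true), (.a, true), (.a, true), (.a, true), (.a, true)]),
  (20119, [(.a, true), (.a, true), (.b, true), (.a, true), (.b, true), (.b, true), (.b, true), (.b, true), (.a, true), (.a, true), (.b, true)]),
  (20133, [(.b, true), (.b, true), (.b, true), (.b, true), (.b, true), (.a, true), (.a, true), (.a, true), (.a, true)]),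
  (20172, [(.b, true), (.a, true), (.a, true), (.b, true), (.b, true), (.b, true), (.a, true), (.a, true), (.b, true), (.a, true), (.a, true)]),
  (20173, [(.b, true), (.a, true), (.a, true), (.b, true), (.b, true), (.a, true), (.a, true), (.a, true), (.a, true), (.a, true)]),
  (20177, [(.b, true), (.b, true), (.a, true), (.b, true), (.b, true), (.a, true), (.b, true)]),
  (20187, [(.a, true), (.a, true), (.a, true), (.a, true), (.b, true), (.a, true), (.a, true), (.a, true), (.a, true), (.a, true), (.b, true)]),
  (20188, [(.b, true), (.b, true), (.b, true), (.a, true), (.a, true), (.b, true), (.a, true), (.a, true)]),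
  (20191, [(.b, true), (.a, true), (.b, true), (.a, true), (.b, true), (.b, true), (.b, true), (.a, true), (.a, true), (.a, true), (.a, true)]),
  (20206, [(.b, true), (.b, true), (.b, true), (.b, true), (.a, true), (.b, true), (.b, true), (.a, true), (.b, true), (.a, true), (.b, true)]),
  (20216, [(.b, true), (.a, true), (.a, true), (.b, true), (.a, true), (.b, true), (.b, true), (.a, true), (.a, true)]),
  (20218, [(.b, true), (.a, true), (.a, true), (.b, true), (.b, true), (.b, true), (.a, true), (.b, true), (.b, true), (.a, true), (.b, true), (.a, true)]),
  (20230, [(.a, true), (.a, true), (.a, true), (.a, true), (.b, true), (.b, true), (.b, true), (.b, true), (.b, true), (.a, true)]),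
  (20234, [(.b, true), (.a, true), (.a, true), (.a, true), (.b, true), (.a, true), (.b, true), (.b, true), (.b, true), (.a, true), (.a, true), (.a, true)]),
  (20252, [(.a, true), (.a, true), (.a, true), (.a, true), (.a, true), (.b, true), (.b, true), (.a, true), (.b, true), (.a, true)]),
  (20253, [(.a, true), (.b, true), (.b, true), (.b, true), (.b, true), (.a, true), (.a, true), (.a, true), (.b, true), (.a, true), (.a, true), (.a, true)]),
  (20282, [(.b, true), (.b, true), (.b, true), (.b, true), (.a, true), (.b, true), (.a, true), (.b, true), (.a, true), (.b, true), (.a, true)]),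
  (20285, [(.b, true), (.a, true), (.a, true), (.b, true), (.b, true), (.b, true), (.a, true), (.b, true), (.b, true), (.a, true), (.a, true)]),
  (20312, [(.b, true), (.a, true), (.b, true), (.b, true), (.b, true), (.a, true), (.a, true), (.a, true), (.a, true)]),
  (20322, [(.a, true), (.a, true), (.b, true), (.a, true), (.b, true), (.a, true), (.a, true), (.a, true), (.b, true), (.a, true)]),
  (20337, [(.a, true), (.a, true), (.b, true), (.a, true), (.a, true), (.b, true)]),
  (20338, [(.b, true), (.a, true), (.a, true), (.a, true), (.b, true), (.b, true), (.a, true), (.a, true), (.b, true), (.a, true), (.b, true), (.a, true)]),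
  (20342, [(.b, true), (.a, true), (.b, true), (.a, true), (.a, true), (.b, true), (.a, true), (.b, true), (.a, true), (.b, true)]),
  (20345, [(.a, true), (.a, true), (.a, true), (.b, true), (.b, true), (.a, true), (.a, true), (.b, true), (.a, true), (.a, true)]),
  (20352, [(.b, true), (.a, true), (.a, true), (.b, true), (.b, true), (.b, true), (.b, true), (.a, true), (.b, true), (.a, true)]),
  (20358, [(.a, true), (.a, true), (.a, true), (.b, true), (.a, true), (.b, true), (.a, true), (.a, true), (.b, true), (.b, true), (.a, true)]),
  (20363, [(.b, true), (.b, true), (.a, true), (.a, true), (.b, true), (.b, true), (.b, true), (.b, true), (.b, true)]),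
  (20373, [(.b, true), (.b, true), (.b, true), (.a, true), (.b, true), (.a, true)]),
  (20381, [(.b, true), (.a, true), (.b, true), (.b, true), (.a, true), (.a, true), (.a, true), (.b, true), (.a, true), (.a, true), (.a, true)]),
  (20408, [(.b, true), (.a, true), (.a, true), (.b, true), (.b, true), (.a, true), (.a, true), (.a, true), (.b, true), (.a, true)]),
  (20432, [(.a, true), (.a, true), (.b, true), (.b, true), (.a, true)]),
  (20444, [(.a, true), (.a, true), (.b, true), (.b, true), (.b, true), (.b, true), (.b, true), (.a, true), (.a, true), (.b, true), (.a, true)]),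
  (20455, [(.a, true), (.a, true), (.a, true), (.a, true), (.b, true), (.a, true), (.a, true), (.a, true), (.a, true), (.a, true), (.b, true), (.b, true), (.a, true)]),
  (20461, [(.b, true), (.b, true), (.a, true), (.b, true), (.a, true), (.b, true), (.a, true)]),
  (20467, [(.b, true), (.a, true), (.b, true), (.a, true), (.b, true), (.a, true), (.b, true), (.b, true), (.b, true)]),
  (20470, [(.a, true), (.a, true), (.b, true), (.a, true), (.a, true), (.b, true), (.b, true), (.b, true)]),
  (20472, [(.b, true), (.b, true), (.b, true), (.a, true), (.b, true), (.a, true), (.b, true), (.b, true)]),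
  (20481, [(.a, true), (.a, true), (.b, true), (.b, true), (.a, true), (.b, true), (.a, true), (.a, true), (.b, true), (.a, true)]),
  (20487, [(.a, true), (.a, true), (.a, true), (.b, true), (.a, true), (.b, true), (.b, true)]),
  (20501, [(.a, true), (.a, true), (.b, true), (.a, true), (.b, true), (.b, true), (.a, true), (.b, true), (.a, true)]),
  (20502, [(.a, true), (.a, true), (.b, true), (.b, true), (.b, true), (.a, true), (.b, true), (.a, true), (.b, true), (.b, true), (.a, true)]),
  (20507, [(.b, true), (.b, true), (.a, true), (.a, true), (.b, true), (.b, true), (.b, true), (.b, true), (.b, true), (.a, true)])]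

end Cfsg.Agent.Lib.Helper4.J3M
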