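import Cfsg.Agent.Lib.Helper4.J3M.Abstract
import Cfsg.Agent.Lib.Helper4.J3M.WordHom
import Cfsg.Agent.Lib.Helper4.J3M.PUMain
import Cfsg.Agent.Lib.Helper4.J3M.EUMain
import Cfsg.Agent.Lib.Helper4.J3M.UOrbit

set_option autoImplicit false
set_option maxRecDepth 100000

/-!
# The 3-part of the Schur multiplier of `J₃`

`U = 3².3^{1+2}:8`, the normaliser of a Sylow 3-subgroup, is generated by the words `wU a`, `wU b`; it has order
1944 (a regular orbit on the 20520 points, and a coset enumeration), and its covering presentation `E_U` has order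
at most `3 * 1944`.  The covering presentation maps to every central extension of `J₃` with kernel of odd order.
-/

namespace Cfsg.Agent.Lib.Helper4.J3M

open Subgroup Cfsg.Agent.Lib.Helper3.Cover
open Cfsg.Agent.Lib.Helper10.SX Cfsg.Agent.Lib.Helper10.J3M Cfsg.Agent.Lib.Helper10.J3W
open scoped commutatorElement

noncomputable section

/-- the words of the two generators of `U` -/
def wU : GU → List ℕ
  | .a => [2, 1, 1, 3, 0, 0, 3, 0, 0, 2, 1]
  | .b => [1, 3, 3, 0, 0, 3, 1, 1, 1, 2, 0, 0]

/-- the two generators of `U` -/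
def fU (x : GU) : ↥G := gw (wU x)

theorem relU_ok : ([LvU.r0, LvU.r1, LvU.r2].all fun r => sigEq (expand wU r) []) = true := by
  decide +kernel

theorem liftU_r0 : FreeGroup.lift fU (FreeGroup.mk LvU.r0) = 1 := by
  apply lift_mk_eq_one
  have h := relU_ok
  rw [List.all_eq_true] at h
  exact h _ (by simp)

theorem liftU_r1 : FreeGroup.lift fU (FreeGroup.mk LvU.r1) = 1 := by
  apply lift_mk_eq_one
  have h := relU_ok
  rw [List.all_eq_true] at h
  exact h _ (by simp)

theorem liftU_r2 : FreeGroup.lift fU (FreeGroup.mk LvU.r2) = 1 := by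
  apply lift_mk_eq_one
  have h := relU_ok
  rw [List.all_eq_true] at h
  exact h _ (by simp)

theorem liftU_rc : FreeGroup.lift fU (FreeGroup.mk LvU.rc) = 1 := by
  rw [LvU.rc, mk_commWord, map_commutatorElement, liftU_r0]
  exact commutatorElement_one_left _

theorem hrelP : ∀ r ∈ relSet LvU.relsP, FreeGroup.lift fU r = 1 := by
  rintro _ ⟨L, hL, rfl⟩
  simp only [LvU.relsP, List.mem_cons, List.not_mem_nil, or_false] at hL
  rcases hL with rfl | rfl | rfl
  exacts [liftU_r0, liftU_r1, liftU_r2]

theorem hrelE : ∀ r ∈ relSet LvU.relsE, FreeGroup.lift fU r = 1 := by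
  rintro _ ⟨L, hL, rfl⟩
  simp only [LvU.relsE, List.mem_cons, List.not_mem_nil, or_false] at hL
  rcases hL with rfl | rfl | rfl
  exacts [liftU_r1, liftU_r2, liftU_rc]

/-- the homomorphism from the presented group `U` -/
def πP : LvU.P →* ↥G := PresentedGroup.toGroup hrelP

/-- the homomorphism from the covering presentation of `U` -/
def πE : LvU.E →* ↥G := PresentedGroup.toGroup hrelE

/-- the subgroup `U` of `J₃` -/
def Usub : Subgroup ↥G := Subgroup.closure (Set.range fU)

theorem range_πP : πP.range = Usub := range_toGroup hrelP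

theorem range_πE : πE.range = Usub := range_toGroup hrelE

theorem πE_mk (w : FreeGroup GU) : πE (PresentedGroup.mk _ w) = FreeGroup.lift fU w := rfl

/-! ### orders -/

theorem cardP : Finite LvU.P ∧ Nat.card LvU.P ≤ 1944 := by
  obtain ⟨hfq, hq⟩ := PUMain.mainU
  have e : (Subgroup.closure PULink.S).map (PresentedGroup.mk PULink.rels) = ⊥ := by
    show (Subgroup.closure {1}).map _ = ⊥
    rw [Subgroup.closure_singleton_one, Subgroup.map_bot]
  rw [e] at hfq hq
  have hfin : Finite (PresentedGroup PULink.rels) := by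
    haveI := hfq
    exact Finite.of_equiv _ (QuotientGroup.quotientBot (G := PresentedGroup PULink.rels)).toEquiv
  refine ⟨hfin, ?_⟩
  have : Nat.card (PresentedGroup PULink.rels ⧸ (⊥ : Subgroup (PresentedGroup PULink.rels))) =
      Nat.card (PresentedGroup PULink.rels) :=
    Nat.card_congr (QuotientGroup.quotientBot (G := PresentedGroup PULink.rels)).toEquiv
  rw [this] at hq
  exact hq

theorem cardE : Finite LvU.E ∧ Nat.card LvU.E ≤ 5832 := by
  obtain ⟨hfq, hq⟩ := EUMain.mainU
  have e : (Subgroup.closure EULink.S).map (PresentedGroup.mk EULink.rels) = ⊥ := by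
    show (Subgroup.closure {1}).map _ = ⊥
    rw [Subgroup.closure_singleton_one, Subgroup.map_bot]
  rw [e] at hfq hq
  have hfin : Finite (PresentedGroup EULink.rels) := by
    haveI := hfq
    exact Finite.of_equiv _ (QuotientGroup.quotientBot (G := PresentedGroup EULink.rels)).toEquiv
  refine ⟨hfin, ?_⟩
  have : Nat.card (PresentedGroup EULink.rels ⧸ (⊥ : Subgroup (PresentedGroup EULink.rels))) =
      Nat.card (PresentedGroup EULink.rels) :=
    Nat.card_congr (QuotientGroup.quotientBot (G := PresentedGroup EULink.rels)).toEquiv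
  rw [this] at hq
  exact hq

instance finite_P : Finite LvU.P := cardP.1

instance finite_E : Finite LvU.E := cardE.1

theorem orbU_ok : orbOK wU 3 orbU = true := by
  decide +kernel

theorem orbU_sorted : sortedB (orbU.map Prod.fst) = true := by
  decide +kernel

theorem orbU_length : orbU.length = 1944 := by
  decide +kernel

theorem card_U3 : Nat.card ↥Usub = 1944 := by
  apply le_antisymm
  · rw [← range_πP]
    exact le_trans (Nat.card_le_card_of_surjective πP.rangeRestrict πP.rangeRestrict_surjective) cardP.2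
  · have h := le_card_of_orbit wU ⟨3, by norm_num⟩ orbU orbU_ok orbU_sorted Usub
      (fun x => Subgroup.subset_closure ⟨x, rfl⟩)
    rwa [orbU_length] at h

instance finiteIndex_U3 : Usub.FiniteIndex := by
  haveI : Finite ↥G := Cfsg.Agent.Lib.Helper10.J3W.finite_G
  infer_instance

theorem index_U3 : Usub.index = 25840 := by
  have h := Usub.index_mul_card
  rw [card_U3, card_G] at h
  omega

theorem card_ker_πE : Nat.card ↥πE.ker ≤ 3 := by
  have h1 : Nat.card LvU.E = Nat.card (LvU.E ⧸ πE.ker) * Nat.card ↥πE.ker :=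
    Subgroup.card_eq_card_quotient_mul_card_subgroup πE.ker
  have h2 : Nat.card (LvU.E ⧸ πE.ker) = Nat.card ↥πE.range :=
    Nat.card_congr (QuotientGroup.quotientKerEquivRange πE).toEquiv
  rw [h2, range_πE, card_U3] at h1
  have := cardE.2
  omega

theorem univ_GU : (Finset.univ : Finset GU) = {GU.a, GU.b} := by decide

/-- the covering presentation of `U` maps to every central extension of `J₃` whose kernel has square roots -/
theorem liftU (Γ : Type) [Group Γ] (σ : Γ →* ↥G) (hσ : Function.Surjective σ) (hc : σ.ker ≤ center Γ)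
    (hsq : ∀ a ∈ σ.ker, ∃ b ∈ σ.ker, b ^ 2 = a) : ∃ Λ' : LvU.E →* Γ, ∀ e, σ (Λ' e) = πE e := by
  choose l0 hl0 using fun x : GU => hσ (fU x)
  let L0 : FreeGroup GU →* Γ := FreeGroup.lift l0
  have hL0 : ∀ w, σ (L0 w) = FreeGroup.lift fU w := by
    have : σ.comp L0 = FreeGroup.lift fU := by
      apply FreeGroup.ext_hom
      intro x
      simp only [MonoidHom.comp_apply, L0, FreeGroup.lift_apply_of]
      exact hl0 x
    exact fun w => DFunLike.congr_fun this w
  have hk1 : L0 (FreeGroup.mk LvU.r1) ∈ σ.ker := by rw [MonoidHom.mem_ker, hL0, liftU_r1]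
  have hk2 : L0 (FreeGroup.mk LvU.r2) ∈ σ.ker := by rw [MonoidHom.mem_ker, hL0, liftU_r2]
  set c1 : Γ := L0 (FreeGroup.mk LvU.r1) with hc1
  set c2 : Γ := L0 (FreeGroup.mk LvU.r2) with hc2
  obtain ⟨β, hβk, hβ⟩ := hsq c2⁻¹ (inv_mem hk2)
  obtain ⟨γ, hγk, hγ⟩ := hsq (c1 * β⁻¹) (mul_mem hk1 (inv_mem hβk))
  obtain ⟨α, hαk, hα⟩ := hsq γ hγk
  letI cg : CommGroup ↥(center Γ) :=
    { (inferInstance : Group ↥(center Γ)) with
      mul_comm := fun u v => Subtype.ext (Subgroup.mem_center_iff.mp v.2 u.1) }
  let a : GU → center Γ := fun x => match x with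
    | .a => ⟨α, hc hαk⟩
    | .b => ⟨β, hc hβk⟩
  have ha : ∀ x, σ (a x : Γ) = 1 := by
    intro x
    cases x
    · exact MonoidHom.mem_ker.mp hαk
    · exact MonoidHom.mem_ker.mp hβk
  let κ : FreeGroup GU →* center Γ := FreeGroup.lift a
  let l : GU → Γ := fun x => l0 x * (a x : Γ)
  let L : FreeGroup GU →* Γ := FreeGroup.lift l
  have hL : ∀ w, L w = L0 w * (κ w : Γ) := by
    intro w
    induction w using FreeGroup.induction_on with
    | C1 => simp
    | of x => simp [L, L0, κ, l]
    | inv_of x ih =>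
      rw [map_inv, map_inv, map_inv, ih, mul_inv_rev]
      have := (κ (FreeGroup.of x))⁻¹.2
      rw [Subgroup.mem_center_iff] at this
      simpa using (this _).symm
    | mul u v hu hv =>
      rw [map_mul, map_mul, map_mul, hu, hv]
      have := (κ u).2
      rw [Subgroup.mem_center_iff] at this
      simp only [Subgroup.coe_mul]
      calc L0 u * ↑(κ u) * (L0 v * ↑(κ v)) = L0 u * (↑(κ u) * L0 v) * ↑(κ v) := by group
        _ = L0 u * (L0 v * ↑(κ u)) * ↑(κ v) := by rw [this]
        _ = L0 u * L0 v * (↑(κ u) * ↑(κ v)) := by group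
  have hκ : ∀ r : List (GU × Bool),
      (κ (FreeGroup.mk r) : Γ) = α ^ (expL GU.a r) * β ^ (expL GU.b r) := by
    intro r
    rw [hom_eq_prod (C := ↥(center Γ)) κ]
    simp only [expSum_mk, toAdd_ofAdd]
    rw [univ_GU, Finset.prod_pair (by decide)]
    simp only [κ, FreeGroup.lift_apply_of, Subgroup.coe_mul, Subgroup.coe_zpow]
    rfl
  have hσL : ∀ w, σ (L w) = FreeGroup.lift fU w := by
    intro w
    rw [hL, map_mul, hL0]
    have : σ (κ w : Γ) = 1 := by
      have h1 : ((σ.comp (Subgroup.center Γ).subtype).comp κ) = 1 := by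
        apply FreeGroup.ext_hom
        intro x
        simp only [MonoidHom.comp_apply, κ, FreeGroup.lift_apply_of, MonoidHom.one_apply]
        exact ha x
      exact DFunLike.congr_fun h1 w
    rw [this, mul_one]
  have hrel : ∀ w ∈ relSet LvU.relsE, L w = 1 := by
    rintro _ ⟨r, hr, rfl⟩
    simp only [LvU.relsE, List.mem_cons, List.not_mem_nil, or_false] at hr
    rcases hr with rfl | rfl | rfl
    · rw [hL, hκ]
      have e1 : expL GU.a LvU.r1 = -4 := by decide
      have e2 : expL GU.b LvU.r1 = -1 := by decide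
      rw [e1, e2]
      have e3 : α ^ (-4 : ℤ) = (c1 * β⁻¹)⁻¹ := by
        rw [← hγ, ← hα]; group
      have hcomm := Subgroup.mem_center_iff.mp (hc hβk) c1⁻¹
      rw [e3, ← hc1]
      calc c1 * ((c1 * β⁻¹)⁻¹ * β ^ (-1 : ℤ)) = c1 * (β * c1⁻¹) * β⁻¹ := by group
        _ = c1 * (c1⁻¹ * β) * β⁻¹ := by rw [hcomm]
        _ = 1 := by group
    · rw [hL, hκ]
      have e1 : expL GU.a LvU.r2 = 0 := by decide
      have e2 : expL GU.b LvU.r2 = 2 := by decide
      rw [e1, e2, zpow_zero, one_mul, ← hc2]
      have : β ^ (2 : ℤ) = c2⁻¹ := by rw [← hβ]; group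
      rw [this, mul_inv_cancel]
    · rw [LvU.rc, mk_commWord, map_commutatorElement, commutatorElement_eq_one_iff_mul_comm]
      have h1 : L (FreeGroup.mk LvU.r0) ∈ center Γ := by
        apply hc
        rw [MonoidHom.mem_ker, hσL, liftU_r0]
      exact (Subgroup.mem_center_iff.mp h1 _).symm
  refine ⟨PresentedGroup.toGroup (f := l) hrel, ?_⟩
  intro e
  obtain ⟨w, rfl⟩ := PresentedGroup.mk_surjective _ e
  have h1 : PresentedGroup.toGroup (f := l) hrel (PresentedGroup.mk _ w) = L w := by
    have : (PresentedGroup.toGroup (f := l) hrel).comp (PresentedGroup.mk (relSet LvU.relsE)) = L := by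
      ext x
      simp only [MonoidHom.comp_apply, L, FreeGroup.lift_apply_of]
      exact PresentedGroup.toGroup.of hrel
    exact DFunLike.congr_fun this w
  rw [h1, hσL, πE_mk]

/-- **The 3-part**: the kernel of a stem extension of `J₃` in which all elements have square roots and order prime
to 25840 has order at most 3. -/
theorem three_part (Γ : Type) [Group Γ] [Finite Γ] (σ : Γ →* ↥G) (hσ : Cfsg.IsStemExtension σ)
    (hsq : ∀ a ∈ σ.ker, ∃ b ∈ σ.ker, b ^ 2 = a)
    (hcop : ∀ a ∈ σ.ker, Nat.Coprime 25840 (orderOf a)) : Nat.card ↥σ.ker ≤ 3 := by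
  haveI : πE.range.FiniteIndex := by rw [range_πE]; infer_instance
  apply card_ker_le_of_cover πE 3 card_ker_πE liftU σ hσ hsq
  intro a ha
  rw [range_πE, index_U3]
  exact hcop a ha

end

end Cfsg.Agent.Lib.Helper4.J3M
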